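import Groth.Agent.L18.GIT.KEval
import Groth.Agent.L25.Extend.EtaleSplit
import Groth.Agent.L25.Locus.Torus
import Mathlib.AlgebraicGeometry.AlgClosed.Basic
import Mathlib.FieldTheory.IsAlgClosed.Basic
import Mathlib.CategoryTheory.Monoidal.Grp

/-!
# Characters of tori and their pairing with one-parameter subgroups at rational points
-/

set_option autoImplicit false
universe u

open CategoryTheory CategoryTheory.Limits MonoidalCategory CartesianMonoidalCategory MonObj AlgebraicGeometry Opposite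

set_option backward.isDefEq.respectTransparency false
set_option backward.isDefEq.respectTransparency.types false

noncomputable section

namespace Groth.L18.TorusChars

open Groth.L18.KEval

variable {k : Type u} [Field k]

/-- A torus over an algebraically closed field is split. -/
theorem exists_split [IsAlgClosed k] (T : Over (Bs k)) [GrpObj T] (hT : Red.IsTorus T) :
    ∃ (M : Type) (_ : AddCommGroup M), Nonempty (Grp.mk T ≅ Grp.mk (Red.DS (Bs k) M)) := by
  obtain ⟨S', f, hf, ⟨s', -⟩, M, _, -, ⟨e⟩⟩ :=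
    Groth.L25.Extend.exists_etale_split (Groth.L25.Locus.isMultTypeFT_of_isTorus hT) (IsLocalRing.closedPoint k)
  have : JacobsonSpace S' := LocallyOfFiniteType.jacobsonSpace f
  obtain ⟨x, -, hx⟩ := nonempty_inter_closedPoints (X := S') (Z := Set.univ) ⟨s', trivial⟩ isOpen_univ.isLocallyClosed
  let σ := pointOfClosedPoint f x hx
  have hσ : σ ≫ f = 𝟙 (Bs k) := pointOfClosedPoint_comp f x hx
  refine ⟨M, inferInstance, ⟨?_⟩⟩
  exact (Functor.mapGrpIdIso.app (Grp.mk T)).symm ≪≫
    (Functor.mapGrpNatIso (Over.pullbackId (X := Bs k)).symm).app (Grp.mk T) ≪≫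
    (Grp.mkIso' (ActBC.bcCompIso σ f T hσ)).symm ≪≫
    (Over.pullback σ).mapGrp.mapIso e ≪≫
    Grp.mkIso' (ActBC.bcCompIso σ (Limits.IsTerminal.from specULiftZIsTerminal S') (Red.diag (ULift.{u} ℤ) M)
      (specULiftZIsTerminal.hom_ext _ _))

/-- The rational point of the multiplicative group with coordinate `a`. -/
def gpt : kˣ →* Pt (Red.Gm (Bs k)) where
  toFun a := GmPts.ptOfUnit (T := 𝟙_ (Over (Bs k)))
    (Units.map (Scheme.ΓSpecIso (CommRingCat.of k)).inv.hom.toMonoidHom a)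
  map_one' := by rw [map_one, GmPts.ptOfUnit_one]
  map_mul' a b := by rw [map_mul, GmPts.ptOfUnit_mul]

theorem gmFn_eq_char {W : Over (Bs k)} (g : W ⟶ Red.Gm (Bs k)) :
    Red.gmFn g = Groth.L11.Magnet.MPts.char g (Multiplicative.ofAdd (1 : ℤ)) := rfl

theorem unitOfPt_zpow {W : Over (Bs k)} (g : W ⟶ Red.Gm (Bs k)) (w : ℤ) :
    ((GmPts.unitOfPt g ^ w : (Γ(W.left, ⊤))ˣ) : Γ(W.left, ⊤)) =
      Groth.L11.Magnet.MPts.char g (Multiplicative.ofAdd w) := by
  let φ : Multiplicative ℤ →* (Γ(W.left, ⊤))ˣ := (Groth.L11.Magnet.MPts.char g).toHomUnits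
  have h1 : φ (Multiplicative.ofAdd (1 : ℤ)) = GmPts.unitOfPt g := Units.ext rfl
  have h2 : Multiplicative.ofAdd w = Multiplicative.ofAdd (1 : ℤ) ^ w := by
    rw [← ofAdd_zsmul, smul_eq_mul, _root_.mul_one]
  conv_rhs => rw [h2]
  rw [← h1, ← map_zpow]
  rfl

/-- The values of the characters of the multiplicative group at a point. -/
theorem evT_mon_gpt (a : kˣ) (i : ℤ) :
    evT (gpt a) (mon ℤ (Multiplicative.ofAdd i)) = (a : k) ^ i := by
  rw [evT_mon, ← unitOfPt_zpow]
  change gs (((GmPts.unitOfPt (GmPts.ptOfUnit (T := 𝟙_ (Over (Bs k)))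
    (Units.map (Scheme.ΓSpecIso (CommRingCat.of k)).inv.hom.toMonoidHom a))) ^ i :
      (Γ((𝟙_ (Over (Bs k))).left, ⊤))ˣ) : Γ((𝟙_ (Over (Bs k))).left, ⊤)) = _
  rw [GmPts.unitOfPt_ptOfUnit]
  have h : gs.toMonoidHom.comp (Units.coeHom _) =
      (Units.coeHom k).comp (Units.map (gs (k := k)).toMonoidHom) := rfl
  refine (DFunLike.congr_fun h _).trans ?_
  rw [MonoidHom.comp_apply, map_zpow, Units.coeHom_apply, Units.val_zpow_eq_zpow_val]
  congr 1
  show gs ((Scheme.ΓSpecIso (CommRingCat.of k)).inv (a : k)) = a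
  simp [gs]

theorem exists_gpt (g : Pt (Red.Gm (Bs k))) : ∃ a : kˣ, gpt a = g := by
  refine ⟨Units.map (gs (k := k)).toMonoidHom (GmPts.unitOfPt g), ?_⟩
  refine (congrArg GmPts.ptOfUnit ?_).trans (GmPts.ptOfUnit_unitOfPt g)
  ext
  exact gs_injective (by simp [gs])

/-- The powers as homomorphisms. -/
def pw (i : ℤ) : kˣ →* k := (Units.coeHom k).comp (zpowGroupHom i)

theorem pw_apply (i : ℤ) (a : kˣ) : pw i a = (a : k) ^ i := by simp [pw, Units.val_zpow_eq_zpow_val]

theorem pw_injective [Infinite k] : Function.Injective (pw (k := k)) := fun i j h =>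
  Groth.L18.Rat0.eq_of_zpow_eq (k := k) fun b hb => by
    simpa [pw_apply] using DFunLike.congr_fun h (Units.mk0 b hb)

theorem exists_laurent (f : Γ((Red.Gm (Bs k)).left, ⊤)) :
    ∃ c : Multiplicative ℤ →₀ k, f = (c.sum fun m a => const _ a * mon ℤ m) ∧
      ∀ a : kˣ, evT (gpt a) f = c.sum fun m b => b * (a : k) ^ m.toAdd := by
  obtain ⟨c, hc⟩ := exists_eq_sum ℤ f
  refine ⟨c, hc, fun a => ?_⟩
  rw [show evT (gpt a) f = evT (gpt a) (c.sum fun m a => const _ a * mon ℤ m) from congrArg _ hc, map_finsuppSum]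
  refine Finsupp.sum_congr fun m _ => ?_
  rw [map_mul]
  exact congrArg₂ (· * ·) (evT_const _ _) (evT_mon_gpt a m.toAdd)

/-- Functions on the multiplicative group which are multiplicative on points. -/
theorem exists_pw (f : Γ((Red.Gm (Bs k)).left, ⊤)) (ψ : kˣ →* k) (h : ∀ a, ψ a = evT (gpt a) f) [Infinite k] :
    ∃ w : ℤ, ψ = pw w ∧ f = mon ℤ (Multiplicative.ofAdd w) := by
  obtain ⟨c, hc, hv⟩ := exists_laurent f
  have hψ : ⇑ψ = Finsupp.linearCombination k (fun m : Multiplicative ℤ => ⇑(pw (k := k) m.toAdd)) c := by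
    funext a
    rw [h, hv, Finsupp.linearCombination_apply]
    simp [Finsupp.sum, pw_apply]
  obtain ⟨w, hw⟩ : ψ ∈ Set.range (pw (k := k)) := by
    refine Groth.L18.Rat0.hom_mem_of_mem_span _ ψ ?_
    rw [hψ, Finsupp.linearCombination_apply]
    exact Submodule.sum_mem _ fun m _ => Submodule.smul_mem _ _ (Submodule.subset_span ⟨_, ⟨_, rfl⟩, rfl⟩)
  refine ⟨w, hw.symm, ?_⟩
  have hli : LinearIndependent k fun m : Multiplicative ℤ => ⇑(pw (k := k) m.toAdd) :=
    (linearIndependent_monoidHom kˣ k).comp _ (pw_injective.comp Multiplicative.toAdd.injective)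
  have hc' : c = Finsupp.single (Multiplicative.ofAdd w) 1 := by
    refine hli.finsuppLinearCombination_injective (hψ.symm.trans ?_)
    rw [← hw]
    simp
  rw [hc, hc', Finsupp.sum_single_index (by rw [map_zero]; exact zero_mul _), map_one, _root_.one_mul]

variable {T : Over (Bs k)} [GrpObj T]

variable (T) in
/-- The algebraic characters at rational points. -/
def algChar : Submonoid (Pt T →* k) where
  carrier := {χ | ∃ κ : Γ(T.left, ⊤), ∀ s, χ s = evT s κ}
  one_mem' := ⟨1, fun s => by simp⟩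
  mul_mem' := by
    rintro χ χ' ⟨κ, h⟩ ⟨κ', h'⟩
    exact ⟨κ * κ', fun s => by rw [MonoidHom.mul_apply, h, h', map_mul]⟩

open scoped Classical in
/-- The pairing of a character with a morphism from the multiplicative group. -/
def pair (χ : Pt T →* k) (l : Red.Gm (Bs k) ⟶ T) : ℤ :=
  if h : ∃ n : ℤ, ∀ a : kˣ, χ (gpt a ≫ l) = (a : k) ^ n then h.choose else 0

theorem pair_eq [Infinite k] {χ : Pt T →* k} {l : Red.Gm (Bs k) ⟶ T} {n : ℤ}
    (h : ∀ a : kˣ, χ (gpt a ≫ l) = (a : k) ^ n) : pair χ l = n := by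
  have h' : ∃ n : ℤ, ∀ a : kˣ, χ (gpt a ≫ l) = (a : k) ^ n := ⟨n, h⟩
  rw [pair, dif_pos h']
  refine pw_injective (k := k) (MonoidHom.ext fun a => ?_)
  rw [pw_apply, pw_apply, ← h, ← h'.choose_spec]

theorem pair_spec [Infinite k] {χ : Pt T →* k} (hχ : χ ∈ algChar T) (l : Red.Gm (Bs k) ⟶ T) [IsMonHom l] (a : kˣ) :
    χ (gpt a ≫ l) = (a : k) ^ pair χ l := by
  obtain ⟨κ, hκ⟩ := hχ
  let ψ : kˣ →* k :=
    { toFun := fun a => χ (gpt a ≫ l)
      map_one' := by rw [map_one, MonObj.one_comp, map_one]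
      map_mul' := fun a b => by rw [map_mul, MonObj.mul_comp, map_mul] }
  obtain ⟨w, hw, -⟩ := exists_pw (l.left.appTop κ) ψ fun a => by
    rw [evT_comp]
    exact hκ _
  have h1 : ∀ b : kˣ, χ (gpt b ≫ l) = (b : k) ^ w := fun b =>
    (DFunLike.congr_fun hw b).trans (pw_apply w b)
  rw [pair_eq h1]
  exact h1 a

theorem pair_mul [Infinite k] {χ : Pt T →* k} (hχ : χ ∈ algChar T) (l₁ l₂ : Red.Gm (Bs k) ⟶ T)
    [IsMonHom l₁] [IsMonHom l₂] : pair χ (l₁ * l₂) = pair χ l₁ + pair χ l₂ :=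
  pair_eq fun a => by
    rw [MonObj.comp_mul, map_mul, pair_spec hχ, pair_spec hχ, zpow_add₀ a.ne_zero]

section Split

variable {M : Type} [AddCommGroup M] (e : Grp.mk T ≅ Grp.mk (Red.DS (Bs k) M))

/-- The underlying isomorphism. -/
abbrev eX : T ≅ Red.DS (Bs k) M := (Grp.forget _).mapIso e

theorem comp_eX_mul {W : Over (Bs k)} (a b : W ⟶ T) : (a * b) ≫ (eX e).hom = (a ≫ (eX e).hom) * (b ≫ (eX e).hom) := by
  have : IsMonHom (eX e).hom := inferInstanceAs (IsMonHom e.hom.hom.hom)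
  exact MonObj.mul_comp a b _

include e in
theorem comm_of_split {W : Over (Bs k)} (a b : W ⟶ T) : a * b = b * a := by
  refine (cancel_mono (eX e).hom).1 (Groth.L25.DSPts.char_injective ?_)
  rw [comp_eX_mul, comp_eX_mul, Groth.L25.DSPts.char_mul, Groth.L25.DSPts.char_mul, _root_.mul_comm]

/-- The characters of a split torus. -/
def splitChar (m : Multiplicative M) : Pt T →* k where
  toFun s := gs (Groth.L25.DSPts.char (s ≫ (eX e).hom) m)
  map_one' := by
    have : IsMonHom (eX e).hom := inferInstanceAs (IsMonHom e.hom.hom.hom)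
    rw [MonObj.one_comp, Groth.L25.DSPts.char_one, MonoidHom.one_apply, map_one]
  map_mul' s t := by rw [comp_eX_mul, Groth.L25.DSPts.char_mul, MonoidHom.mul_apply, map_mul]

theorem splitChar_eq (m : Multiplicative M) (s : Pt T) :
    splitChar e m s = evT (s ≫ (eX e).hom) (mon M m) := by
  rw [evT_mon]
  rfl

include e in
theorem isAffine_of_split : IsAffine T.left := by
  have : IsAffineHom (Red.DS (Bs k) M).hom :=
    MorphismProperty.pullback_snd (P := @IsAffineHom) _ _
      (inferInstanceAs (IsAffineHom (Spec.map (CommRingCat.ofHom (algebraMap (ULift.{u} ℤ)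
        (MonoidAlgebra (ULift.{u} ℤ) (Multiplicative M)))))))
  have : IsAffine (Red.DS (Bs k) M).left := isAffine_of_isAffineHom (Red.DS (Bs k) M).hom
  have : IsIso (eX e).hom.left := inferInstanceAs (IsIso ((Over.forget _).map (eX e).hom))
  exact .of_isIso (eX e).hom.left

include e in
theorem span_of_split (f : Γ(T.left, ⊤)) : ∃ Φ : Finset (Pt T →* k), ↑Φ ⊆ (algChar T : Set (Pt T →* k)) ∧
    (fun s : Pt T => evT s f) ∈ Submodule.span k ((fun χ : Pt T →* k => ⇑χ) '' (Φ : Set (Pt T →* k))) := by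
  classical
  obtain ⟨c, hc⟩ := exists_eq_sum M ((eX e).inv.left.appTop f)
  refine ⟨c.support.image (splitChar e), ?_, ?_⟩
  · intro χ hχ
    obtain ⟨m, -, rfl⟩ := Finset.mem_image.1 hχ
    exact ⟨(eX e).hom.left.appTop (mon M m), fun s => by rw [evT_comp, splitChar_eq]⟩
  have h : (fun s : Pt T => evT s f) = ∑ m ∈ c.support, c m • ⇑(splitChar e m) := by
    funext s
    have h1 : evT (s ≫ (eX e).hom) ((eX e).inv.left.appTop f) = evT s f := by
      rw [evT_comp, Category.assoc, Iso.hom_inv_id, Category.comp_id]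
    rw [← h1, show evT (s ≫ (eX e).hom) ((eX e).inv.left.appTop f) =
      evT (s ≫ (eX e).hom) (c.sum fun m a => const _ a * mon M m) from congrArg _ hc, map_finsuppSum,
      Finset.sum_apply]
    refine Finset.sum_congr rfl fun m _ => ?_
    simp only [map_mul, Pi.smul_apply, smul_eq_mul, splitChar_eq]
    exact congrArg (· * _) (evT_const _ _)
  rw [h]
  exact Submodule.sum_mem _ fun m hm =>
    Submodule.smul_mem _ _ (Submodule.subset_span ⟨_, Finset.mem_image_of_mem _ hm, rfl⟩)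

end Split

end Groth.L18.TorusChars
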