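import Groth.Prelude.Def_HMNum

/-!
# Translation invariance of the numerical function

`μ(g₀ · x, l) = μ(x, g₀⁻¹ l g₀)`.
-/

set_option autoImplicit false
set_option backward.isDefEq.respectTransparency false
universe u

open CategoryTheory CategoryTheory.Limits MonoidalCategory CartesianMonoidalCategory MonObj AlgebraicGeometry Opposite

noncomputable section

namespace Groth.L18.MuConj

variable {S : Scheme.{u}} {G X : Over S} [GrpObj G] (a : AlgGrp.Action G X)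

theorem act_mul {T : Over S} (g h : T ⟶ G) (x : T ⟶ X) :
    lift (g * h) x ≫ a.act = lift g (lift h x ≫ a.act) ≫ a.act :=
  (Magnet.MonAct.ofAction a).lift_mul_act g h x

theorem act_one {T : Over S} (x : T ⟶ X) : lift (1 : T ⟶ G) x ≫ a.act = x :=
  (Magnet.MonAct.ofAction a).lift_one_act x

theorem isMonHom_conj {H : Over S} [GrpObj H] (l : H ⟶ G) [IsMonHom l] (g : 𝟙_ (Over S) ⟶ G) :
    IsMonHom ((toUnit H ≫ g)⁻¹ * l * (toUnit H ≫ g)) := by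
  have hg : ∀ {W : Over S} (f : W ⟶ H), f ≫ toUnit H ≫ g = toUnit W ≫ g := fun f => by
    rw [← Category.assoc, toUnit_unique (f ≫ toUnit H) (toUnit _)]
  refine ⟨?_, ?_⟩
  · rw [MonObj.comp_mul, MonObj.comp_mul, GrpObj.comp_inv, hg, IsMonHom.one_hom]
    have h1 : (η[G] : 𝟙_ (Over S) ⟶ G) = 1 := by
      rw [Hom.one_def, toUnit_unique (toUnit (𝟙_ (Over S))) (𝟙 _), Category.id_comp]
    rw [h1, _root_.mul_one, inv_mul_cancel]
  · have hμ : ∀ (M : Over S) [MonObj M], (μ[M] : M ⊗ M ⟶ M) = fst M M * snd M M := fun M _ => by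
      rw [Hom.mul_def, lift_fst_snd, Category.id_comp]
    rw [hμ G, MonObj.comp_mul, MonObj.comp_mul, MonObj.comp_mul, GrpObj.comp_inv, hg,
      tensorHom_fst, tensorHom_snd, MonObj.comp_mul, MonObj.comp_mul, MonObj.comp_mul, MonObj.comp_mul,
      GrpObj.comp_inv, GrpObj.comp_inv, hg, hg, hμ H, MonObj.mul_comp]
    group

theorem appLE_congr_hom {P Q : Scheme.{u}} {f g : P ⟶ Q} (h : f = g) {U : Q.Opens} {W : P.Opens}
    (e : W ≤ f ⁻¹ᵁ U) (e' : W ≤ g ⁻¹ᵁ U) (c : Γ(Q, U)) : f.appLE U W e c = g.appLE U W e' c := by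
  subst h; rfl

variable {a} (B : GLinSh.LinBun G a)

theorem lift_act_π {T : Over S} (h : T ⟶ G) (v : T ⟶ B.V) :
    (lift h v ≫ B.lift.act) ≫ B.π = lift h (v ≫ B.π) ≫ a.act := by
  rw [Category.assoc, B.lift_π, lift_whiskerLeft_assoc]

theorem evalFn_congr {T : Over S} {U : X.left.Opens} (y : Γ(B.V.left, B.π.left ⁻¹ᵁ U)) {v w : T ⟶ B.V} (h : v = w)
    (e : ⊤ ≤ v.left ⁻¹ᵁ (B.π.left ⁻¹ᵁ U)) (e' : ⊤ ≤ w.left ⁻¹ᵁ (B.π.left ⁻¹ᵁ U)) :
    HMNum.evalFn B.π y v e = HMNum.evalFn B.π y w e' := by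
  subst h; rfl

/-- The lifted action in coordinates, at a point. -/
theorem exists_factor {U U' : X.left.Opens} {y : Γ(B.V.left, B.π.left ⁻¹ᵁ U)} (hy : y ∈ B.atlas.chart U)
    {y' : Γ(B.V.left, B.π.left ⁻¹ᵁ U')} (hy' : y' ∈ B.atlas.chart U') {T : Over S} (h : T ⟶ G) (p : T ⟶ X)
    (hp : p.left ⁻¹ᵁ U = ⊤) (hq : (lift h p ≫ a.act).left ⁻¹ᵁ U' = ⊤) :
    ∃ C : Γ(T.left, ⊤), ∀ (v : T ⟶ B.V) (_ : v ≫ B.π = p) (e : ⊤ ≤ v.left ⁻¹ᵁ (B.π.left ⁻¹ᵁ U))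
      (e' : ⊤ ≤ (lift h v ≫ B.lift.act).left ⁻¹ᵁ (B.π.left ⁻¹ᵁ U')),
      HMNum.evalFn B.π y' (lift h v ≫ B.lift.act) e' = C * HMNum.evalFn B.π y v e := by
  obtain ⟨c, hc⟩ := B.lift_linear U U' y y' hy hy'
  have hle : ⊤ ≤ (lift h p).left ⁻¹ᵁ (a.act.left ⁻¹ᵁ U' ⊓ (snd G X).left ⁻¹ᵁ U) := by
    rw [Scheme.Hom.preimage_inf]
    refine le_inf ?_ ?_
    · rw [← Scheme.Hom.comp_preimage, ← Over.comp_left, hq]
    · rw [← Scheme.Hom.comp_preimage, ← Over.comp_left, lift_snd, hp]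
  refine ⟨(lift h p).left.appLE _ ⊤ hle c, fun v hv e e' => ?_⟩
  have hL : (lift h v ≫ (G ◁ B.π)) = lift h p := by rw [lift_whiskerLeft, hv]
  have hle' : ⊤ ≤ (lift h v).left ⁻¹ᵁ (GLinSh.liftOpen a B.π U U') := by
    refine le_of_le_of_eq (le_of_le_of_eq hle (congrArg (fun f : T ⟶ G ⊗ X =>
      f.left ⁻¹ᵁ (a.act.left ⁻¹ᵁ U' ⊓ (snd G X).left ⁻¹ᵁ U)) hL.symm)) ?_
    rw [Over.comp_left, Scheme.Hom.comp_preimage]
    rfl
  have h1 := congrArg ((lift h v).left.appLE _ ⊤ hle') hc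
  rw [map_mul, ← CommRingCat.comp_apply, ← CommRingCat.comp_apply, ← CommRingCat.comp_apply,
    Scheme.Hom.appLE_comp_appLE, Scheme.Hom.appLE_comp_appLE, Scheme.Hom.appLE_comp_appLE] at h1
  unfold HMNum.evalFn
  refine ((appLE_congr_hom (show (lift h v ≫ B.lift.act).left = (lift h v).left ≫ B.lift.act.left from rfl) _ _ y').trans h1).trans ?_
  congr 1
  · exact appLE_congr_hom (by rw [← Over.comp_left, hL]) _ _ c
  · exact appLE_congr_hom (by rw [← Over.comp_left, lift_snd]) _ _ y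

variable (a)

/-- Translation by a point of the group. -/
def transl (g₀ : 𝟙_ (Over S) ⟶ G) : X ⟶ X := lift (toUnit X ≫ g₀) (𝟙 X) ≫ a.act

theorem comp_transl (g₀ : 𝟙_ (Over S) ⟶ G) {T : Over S} (x : T ⟶ X) :
    x ≫ transl a g₀ = lift (toUnit T ≫ g₀) x ≫ a.act := by
  rw [transl, comp_lift_assoc, Category.comp_id, ← Category.assoc, toUnit_unique (x ≫ toUnit X) (toUnit T)]

theorem comp_conj {T : Over S} {H : Over S} (g₀ : 𝟙_ (Over S) ⟶ G) {l l' : H ⟶ G}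
    (hl' : l' = (toUnit _ ≫ g₀)⁻¹ * l * (toUnit _ ≫ g₀)) (g : T ⟶ H) :
    g ≫ l' = (toUnit T ≫ g₀)⁻¹ * (g ≫ l) * (toUnit T ≫ g₀) := by
  rw [hl', MonObj.comp_mul, MonObj.comp_mul, GrpObj.comp_inv, ← Category.assoc,
    toUnit_unique (g ≫ toUnit H) (toUnit T)]

theorem isEquivariant_transl (l l' : Red.Gm S ⟶ G) [IsMonHom l] [IsMonHom l'] (g₀ : 𝟙_ (Over S) ⟶ G)
    (hl' : l' = (toUnit _ ≫ g₀)⁻¹ * l * (toUnit _ ≫ g₀)) :
    Magnet.MonAct.IsEquivariant (HMNum.gmAct a l') (HMNum.gmAct a l) (transl a g₀) := by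
  rw [Magnet.MonAct.isEquivariant_iff]
  intro T g x
  rw [Magnet.MonAct.lift_restrict_act_assoc, Magnet.MonAct.lift_restrict_act]
  simp only [Magnet.MonAct.ofAction_act]
  rw [← Category.assoc, comp_transl, comp_transl, ← act_mul, ← act_mul, comp_conj g₀ hl', mul_assoc (toUnit T ≫ g₀)⁻¹,
    mul_inv_cancel_left]

theorem isLimitPt_transl (l l' : Red.Gm S ⟶ G) [IsMonHom l] [IsMonHom l'] (g₀ : 𝟙_ (Over S) ⟶ G)
    (hl' : l' = (toUnit _ ≫ g₀)⁻¹ * l * (toUnit _ ≫ g₀)) {T : Over S} {x y : T ⟶ X}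
    (h : HMNum.IsLimitPt a l' x y) : HMNum.IsLimitPt a l (x ≫ transl a g₀) (y ≫ transl a g₀) := by
  obtain ⟨φ, hx, hy⟩ := h
  refine ⟨(Magnet.MonAct.eqvHom.postcomp _ (transl a g₀) (isEquivariant_transl a l l' g₀ hl')).app (op T) φ,
    ?_, ?_⟩
  · rw [← hx]
    exact (Category.assoc _ φ.1 _).symm
  · rw [HMNum.limitPt_eq, ← hy, HMNum.limitPt_eq]
    exact (Category.assoc _ φ.1 _).symm

variable {a}

/-- `μ(g₀ · x, l) = μ(x, g₀⁻¹ l g₀)`. -/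
theorem isMu_transl {k : Type u} [Field k] {G X : Over (Spec (CommRingCat.of k))} [GrpObj G]
    {a : AlgGrp.Action G X} (B : GLinSh.LinBun G a) (x : 𝟙_ (Over (Spec (CommRingCat.of k))) ⟶ X)
    (l l' : Red.Gm (Spec (CommRingCat.of k)) ⟶ G) [IsMonHom l] [IsMonHom l']
    (g₀ : 𝟙_ (Over (Spec (CommRingCat.of k))) ⟶ G) (hl' : l' = (toUnit _ ≫ g₀)⁻¹ * l * (toUnit _ ≫ g₀)) {m : ℤ}
    (h : HMNum.IsMu B l' x m) : HMNum.IsMu B l (x ≫ transl a g₀) m := by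
  obtain ⟨y₀, hlim, hfix, U, y, hy, hU, H⟩ := h
  refine ⟨y₀ ≫ transl a g₀, isLimitPt_transl a l l' g₀ hl' hlim, fun T t g => ?_, ?_⟩
  · rw [← Category.assoc, comp_transl, ← act_mul]
    conv_rhs => rw [← hfix T t g, ← act_mul, comp_conj g₀ hl' g, mul_assoc (toUnit T ≫ g₀)⁻¹, mul_inv_cancel_left]
  haveI : Subsingleton (𝟙_ (Over (Spec (CommRingCat.of k)))).left :=
    inferInstanceAs (Subsingleton (PrimeSpectrum k))
  haveI : Nonempty (𝟙_ (Over (Spec (CommRingCat.of k)))).left :=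
    inferInstanceAs (Nonempty (PrimeSpectrum k))
  obtain ⟨U', hq, y', hy'⟩ := B.atlas.cover ((y₀ ≫ transl a g₀).left (Classical.arbitrary _))
  have hU' : (y₀ ≫ transl a g₀).left ⁻¹ᵁ U' = ⊤ := top_le_iff.1 fun q _ => by
    obtain rfl := Subsingleton.elim (Classical.arbitrary _) q
    exact hq
  refine ⟨U', y', hy', hU', fun T t g v hv hgv => ?_⟩
  let G0 : T ⟶ G := toUnit T ≫ g₀
  let v₀ : T ⟶ B.V := lift G0⁻¹ v ≫ B.lift.act
  let w₀ : T ⟶ B.V := lift (g ≫ l') v₀ ≫ B.lift.act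
  have hv₀ : v₀ ≫ B.π = t ≫ y₀ := by
    rw [lift_act_π, hv, ← Category.assoc, comp_transl, ← act_mul, inv_mul_cancel, act_one]
  have hw₀ : w₀ ≫ B.π = t ≫ y₀ := by
    rw [lift_act_π, hv₀]; exact hfix T t g
  have eq₀ : lift G0 (t ≫ y₀) ≫ a.act = t ≫ y₀ ≫ transl a g₀ := by
    rw [← Category.assoc, comp_transl]
  obtain ⟨C, hC⟩ := exists_factor B hy hy' G0 (t ≫ y₀)
    (by rw [Over.comp_left, Scheme.Hom.comp_preimage, hU]; rfl)
    (by rw [eq₀, Over.comp_left, Scheme.Hom.comp_preimage, hU']; rfl)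
  have ev : lift G0 v₀ ≫ B.lift.act = v := by
    rw [← act_mul, mul_inv_cancel, act_one]
  have ew : lift G0 w₀ ≫ B.lift.act = lift (g ≫ l) v ≫ B.lift.act := by
    rw [← act_mul, ← act_mul, comp_conj g₀ hl' g]
    congr 2
    simp only [G0]
    group
  have hv' : (lift G0 v₀ ≫ B.lift.act) ≫ B.π = t ≫ y₀ ≫ transl a g₀ := by rw [ev]; exact hv
  have hw' : (lift G0 w₀ ≫ B.lift.act) ≫ B.π = t ≫ y₀ ≫ transl a g₀ := by rw [ew]; exact hgv
  have e1 := hC v₀ hv₀ (HMNum.top_le_preimage B.π hU hv₀) (HMNum.top_le_preimage B.π hU' hv')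
  have e2 := hC w₀ hw₀ (HMNum.top_le_preimage B.π hU hw₀) (HMNum.top_le_preimage B.π hU' hw')
  rw [H T t g v₀ hv₀ hw₀, mul_left_comm, ← e1] at e2
  rw [evalFn_congr B y' ev _ (HMNum.top_le_preimage B.π hU' hv),
    evalFn_congr B y' ew _ (HMNum.top_le_preimage B.π hU' hgv)] at e2
  exact e2

theorem isMu_act_iff {k : Type u} [Field k] {G X : Over (Spec (CommRingCat.of k))} [GrpObj G]
    {a : AlgGrp.Action G X} (B : GLinSh.LinBun G a) (x : 𝟙_ (Over (Spec (CommRingCat.of k))) ⟶ X)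
    (l l' : Red.Gm (Spec (CommRingCat.of k)) ⟶ G) [IsMonHom l] [IsMonHom l']
    (g₀ : 𝟙_ (Over (Spec (CommRingCat.of k))) ⟶ G) (hl' : l' = (toUnit _ ≫ g₀)⁻¹ * l * (toUnit _ ≫ g₀)) (m : ℤ) :
    HMNum.IsMu B l (lift g₀ x ≫ a.act) m ↔ HMNum.IsMu B l' x m := by
  have h1 : lift g₀ x ≫ a.act = x ≫ transl a g₀ := by
    rw [comp_transl, toUnit_unique (toUnit (𝟙_ (Over (Spec (CommRingCat.of k))))) (𝟙 _), Category.id_comp]
  rw [h1]
  refine ⟨fun h => ?_, isMu_transl B x l l' g₀ hl'⟩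
  have hl : l = (toUnit _ ≫ g₀⁻¹)⁻¹ * l' * (toUnit _ ≫ g₀⁻¹) := by
    rw [hl', GrpObj.comp_inv]
    group
  have h2 := isMu_transl B (x ≫ transl a g₀) l' l g₀⁻¹ hl h
  have h3 : (x ≫ transl a g₀) ≫ transl a g₀⁻¹ = x := by
    rw [comp_transl, comp_transl, ← act_mul, GrpObj.comp_inv, inv_mul_cancel, act_one]
  rwa [h3] at h2

end Groth.L18.MuConj
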