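import Groth.Prelude.Def_W4bk4git07Quot
import Groth.Prelude.Def_QuotSh
import Groth.Agent.L26.AbDual.FunDescent
import Mathlib.CategoryTheory.Sites.LocallyBijective
import Mathlib.CategoryTheory.Sites.EpiMono

/-!
# An fppf quotient is a geometric quotient
-/

set_option autoImplicit false
set_option linter.style.haveILetI false
set_option backward.isDefEq.respectTransparency false

noncomputable section

universe u

open CategoryTheory MonoidalCategory CartesianMonoidalCategory MonObj GrpObj AlgebraicGeometry TopologicalSpace Opposite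
open CategoryTheory.Limits (pullback)

namespace Groth.L18.GITFppf

instance : Scheme.fppfPrecoverage.{u}.HasIsos := ⟨fun f _ => Scheme.Hom.singleton_mem_fppfPrecoverage f⟩

variable {S : Scheme.{u}} {G X Y : Over S} [GrpObj G] (a : AlgGrp.Action G X)

theorem one_act {T : Over S} (x : T ⟶ X) : lift (1 : T ⟶ G) x ≫ a.act = x := by
  have h : lift (1 : T ⟶ G) x = lift (toUnit T) x ≫ (η[G] ▷ X) := by
    rw [lift_whiskerRight, Hom.one_def]
  rw [h, Category.assoc, a.one_act, leftUnitor_hom, lift_snd]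

theorem mul_act {T : Over S} (g h : T ⟶ G) (x : T ⟶ X) :
    lift (g * h) x ≫ a.act = lift g (lift h x ≫ a.act) ≫ a.act := by
  have e : lift (g * h) x = lift (lift g h) x ≫ (μ[G] ▷ X) := by
    rw [lift_whiskerRight, Hom.mul_def]
  rw [e, Category.assoc, a.mul_act, lift_lift_associator_hom_assoc, lift_whiskerLeft_assoc]

/-- Translated by a point of the group. -/
def orbR (T : Over S) (x y : T ⟶ X) : Prop := ∃ g : T ⟶ G, lift g y ≫ a.act = x

theorem orbR_equiv (T : Over S) : Equivalence (orbR a T) where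
  refl x := ⟨1, one_act a x⟩
  symm := fun {x y} h => by
    obtain ⟨g, hg⟩ := h
    exact ⟨g⁻¹, by rw [← hg, ← mul_act, inv_mul_cancel, one_act]⟩
  trans := fun {x y z} h1 h2 => by
    obtain ⟨g, hg⟩ := h1
    obtain ⟨h, hh⟩ := h2
    exact ⟨g * h, by rw [mul_act, hh, hg]⟩

/-- In the same orbit over `T`. -/
def orbRel (T : Over S) : Setoid (T ⟶ X) := ⟨orbR a T, orbR_equiv a T⟩

/-- The presheaf of orbits. -/
def orbP : (Over S)ᵒᵖ ⥤ Type (u + 1) where
  obj T := ULift.{u + 1} (Quotient (orbRel a T.unop))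
  map {T T'} k := TypeCat.ofHom fun c => ⟨Quotient.map (fun x => k.unop ≫ x) (fun (x y : T.unop ⟶ X) (h : orbR a T.unop x y) => show orbR a T'.unop (k.unop ≫ x) (k.unop ≫ y) by
    obtain ⟨g, hg⟩ := h
    exact ⟨k.unop ≫ g, by rw [← comp_lift, Category.assoc, hg]⟩) c.down⟩
  map_id T := by
    ext ⟨c⟩
    induction c using Quotient.ind
    exact congrArg (Quotient.mk _) (Category.id_comp _)
  map_comp k k' := by
    ext ⟨c⟩
    induction c using Quotient.ind
    exact congrArg (Quotient.mk _) (Category.assoc _ _ _)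

/-- The projection to orbits. -/
def orbπ : yoneda.obj X ⋙ uliftFunctor.{u + 1, u} ⟶ orbP a where
  app T := TypeCat.ofHom fun x => ⟨Quotient.mk _ x.down⟩

variable (φ : X ⟶ Y) (hq : QuotSh.IsQuotient Scheme.fppfPrecoverage a.act (snd G X) φ)

include hq in
/-- Points of the target lift locally. -/
theorem exists_lifts :
    ∃ R ∈ Scheme.fppfPrecoverage Y.left, ∀ ⦃Z : Scheme.{u}⦄ ⦃k : Z ⟶ Y.left⦄, R k →
      ∃ x : Over.mk (k ≫ Y.hom) ⟶ X, x ≫ φ = Over.homMk k rfl := by
  obtain ⟨w, hiso⟩ := hq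
  haveI := hiso
  haveI : Epi (QuotSh.repMap Scheme.fppfPrecoverage φ) := by
    rw [← Limits.coequalizer.π_desc (f := QuotSh.repMap Scheme.fppfPrecoverage a.act)
      (g := QuotSh.repMap Scheme.fppfPrecoverage (snd G X)) (QuotSh.repMap Scheme.fppfPrecoverage φ) _]
    exact @epi_comp _ _ _ _ _ _ inferInstance (QuotSh.quotDesc Scheme.fppfPrecoverage φ w) inferInstance
  haveI : Presheaf.IsLocallySurjective (QuotSh.J Scheme.fppfPrecoverage S)
      (Functor.whiskerRight (yoneda.map φ) uliftFunctor.{u + 1, u}) := by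
    haveI : Sheaf.IsLocallySurjective (QuotSh.repMap Scheme.fppfPrecoverage φ) :=
      (Sheaf.isLocallySurjective_iff_epi _).2 inferInstance
    exact (Presheaf.isLocallySurjective_presheafToSheaf_map_iff (QuotSh.J Scheme.fppfPrecoverage S) _).1 this
  have hmem := Presheaf.imageSieve_mem (QuotSh.J Scheme.fppfPrecoverage S)
    (Functor.whiskerRight (yoneda.map φ) uliftFunctor.{u + 1, u}) (U := op Y) (⟨𝟙 Y⟩ : ULift (Y ⟶ Y))
  rw [GrothendieckTopology.mem_over_iff, Precoverage.mem_toGrothendieck_iff_of_isStableUnderComposition] at hmem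
  obtain ⟨R, hR, hle⟩ := hmem
  refine ⟨R, hR, fun Z k hk => ?_⟩
  obtain ⟨x, hx⟩ := (Sieve.overEquiv_iff _ _).1 (hle _ _ hk)
  exact ⟨x.down, (show x.down ≫ φ = Over.homMk k rfl ≫ 𝟙 Y from congrArg ULift.down hx).trans (Category.comp_id _)⟩

include hq in
/-- Points with the same image are locally in the same orbit. -/
theorem exists_orbit {T : Over S} (x x' : T ⟶ X) (h : x ≫ φ = x' ≫ φ) :
    ∃ R ∈ Scheme.fppfPrecoverage T.left, ∀ ⦃Z : Scheme.{u}⦄ ⦃k : Z ⟶ T.left⦄, R k →
      ∃ g : Over.mk (k ≫ T.hom) ⟶ G,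
        lift g (Over.homMk (U := Over.mk (k ≫ T.hom)) k rfl ≫ x') ≫ a.act = Over.homMk (U := Over.mk (k ≫ T.hom)) k rfl ≫ x := by
  obtain ⟨w, hiso⟩ := hq
  haveI := hiso
  let J := QuotSh.J Scheme.fppfPrecoverage S
  let F := presheafToSheaf J (Type (u + 1))
  have heq : Functor.whiskerRight (yoneda.map a.act) uliftFunctor.{u + 1, u} ≫ orbπ a =
      Functor.whiskerRight (yoneda.map (snd G X)) uliftFunctor.{u + 1, u} ≫ orbπ a := by
    ext T' ⟨p⟩
    refine ULift.ext _ _ (Quotient.sound ⟨p ≫ fst G X, ?_⟩)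
    show lift (p ≫ fst G X) (p ≫ snd G X) ≫ a.act = p ≫ a.act
    rw [← comp_lift, lift_fst_snd, Category.comp_id]
  let d : QuotSh.quot Scheme.fppfPrecoverage a.act (snd G X) ⟶ F.obj (orbP a) :=
    Limits.coequalizer.desc (F.map (orbπ a)) (by
      rw [QuotSh.repMap, QuotSh.repMap, ← Functor.map_comp, ← Functor.map_comp, heq])
  have hfac : F.map (orbπ a) =
      QuotSh.repMap Scheme.fppfPrecoverage φ ≫ inv (QuotSh.quotDesc Scheme.fppfPrecoverage φ w) ≫ d := by
    have e : QuotSh.repMap Scheme.fppfPrecoverage φ =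
        QuotSh.quotπ Scheme.fppfPrecoverage a.act (snd G X) ≫ QuotSh.quotDesc Scheme.fppfPrecoverage φ w :=
      (Limits.coequalizer.π_desc _ _).symm
    rw [e, Category.assoc, IsIso.hom_inv_id_assoc]
    exact (Limits.coequalizer.π_desc _ _).symm
  have hx : (toSheafify J (orbP a)).app (op T) ((orbπ a).app (op T) ⟨x⟩) =
      (toSheafify J (orbP a)).app (op T) ((orbπ a).app (op T) ⟨x'⟩) := by
    have key : orbπ a ≫ toSheafify J (orbP a) = Functor.whiskerRight (yoneda.map φ) uliftFunctor.{u + 1, u} ≫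
        toSheafify J _ ≫ (inv (QuotSh.quotDesc Scheme.fppfPrecoverage φ w) ≫ d).hom := by
      rw [toSheafify_naturality J (orbπ a)]
      show toSheafify J _ ≫ (F.map (orbπ a)).hom = _
      rw [hfac, ← Category.assoc _ (toSheafify J _), toSheafify_naturality J]
      exact (Category.assoc _ _ _).symm
    have hxφ : ((Functor.whiskerRight (yoneda.map φ) uliftFunctor.{u + 1, u}).app (op T)) ⟨x⟩ =
        ((Functor.whiskerRight (yoneda.map φ) uliftFunctor.{u + 1, u}).app (op T)) ⟨x'⟩ := ULift.ext _ _ h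
    have h1 := ConcreteCategory.congr_hom (NatTrans.congr_app key (op T)) (⟨x⟩ : ULift (T ⟶ X))
    have h2 := ConcreteCategory.congr_hom (NatTrans.congr_app key (op T)) (⟨x'⟩ : ULift (T ⟶ X))
    refine h1.trans (Eq.trans ?_ h2.symm)
    exact congrArg (fun t => ((toSheafify J _ ≫ (inv (QuotSh.quotDesc Scheme.fppfPrecoverage φ w) ≫ d).hom).app (op T)) t) hxφ
  have hmem := Presheaf.equalizerSieve_mem J (toSheafify J (orbP a)) _ _ hx
  rw [GrothendieckTopology.mem_over_iff, Precoverage.mem_toGrothendieck_iff_of_isStableUnderComposition] at hmem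
  obtain ⟨R, hR, hle⟩ := hmem
  refine ⟨R, hR, fun Z k hk => ?_⟩
  exact Quotient.exact (congrArg ULift.down ((Sieve.overEquiv_iff _ _).1 (hle _ _ hk)))

theorem exists_mem_range {W : Scheme.{u}} {R : Presieve W} (hR : R ∈ Scheme.fppfPrecoverage W) (w : W) :
    ∃ (Z : Scheme.{u}) (k : Z ⟶ W), R k ∧ w ∈ Set.range k.base := by
  obtain ⟨Z', g, hg, hw⟩ := hR.1 w
  cases hg with
  | of hk => exact ⟨_, _, hk, hw⟩

include hq in
theorem surjective : Function.Surjective φ.left.base := fun y => by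
  obtain ⟨R, hR, hx⟩ := exists_lifts a φ hq
  obtain ⟨Z, k, hk, z, rfl⟩ := exists_mem_range hR y
  obtain ⟨x, hx⟩ := hx hk
  exact ⟨x.left.base z, by rw [← Scheme.Hom.comp_apply, ← Over.comp_left, hx]; rfl⟩

include hq in
theorem orbit_surjective (hi : GIT.IsInvariant a φ) : Function.Surjective (GIT.PsiY a φ hi).base := fun t => by
  let T : Over S := Over.mk (Limits.pullback.fst φ.left φ.left ≫ X.hom)
  let x : T ⟶ X := Over.homMk (Limits.pullback.fst φ.left φ.left) rfl
  let x' : T ⟶ X := Over.homMk (Limits.pullback.snd φ.left φ.left) (by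
    show _ = Limits.pullback.fst φ.left φ.left ≫ X.hom
    rw [← Over.w φ, Limits.pullback.condition_assoc])
  obtain ⟨R, hR, hg⟩ := exists_orbit a φ hq x x' (Over.OverMorphism.ext Limits.pullback.condition)
  obtain ⟨Z, k, hk, z, rfl⟩ := exists_mem_range hR t
  obtain ⟨g, hg⟩ := hg hk
  refine ⟨(lift g (Over.homMk (U := Over.mk (k ≫ T.hom)) k rfl ≫ x')).left.base z, ?_⟩
  rw [← Scheme.Hom.comp_apply]
  refine congrArg (fun m : Z ⟶ pullback φ.left φ.left => m.base z) ?_
  apply Limits.pullback.hom_ext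
  · rw [Category.assoc, GIT.PsiY, Limits.pullback.lift_fst]
    exact congrArg CommaMorphism.left hg
  · rw [Category.assoc, GIT.PsiY, Limits.pullback.lift_snd]
    exact congrArg CommaMorphism.left (lift_snd g _)

include hq in
theorem univSubmersive : GIT.IsUnivSubmersive φ.left := by
  intro X' Y' i₁ i₂ f' hpb
  obtain ⟨R, hR, hx⟩ := exists_lifts a φ hq
  have hlift : ∀ y' : Y', ∃ (P : Scheme.{u}) (r : P ⟶ X') (o : P ⟶ Y'), IsOpenMap o.base ∧ r ≫ f' = o ∧ y' ∈ Set.range o.base := by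
    intro y'
    obtain ⟨Z, k, hk, z, hz⟩ := exists_mem_range hR (i₂.base y')
    obtain ⟨x, hx⟩ := hx hk
    obtain ⟨hkf, hklfp⟩ := hR.2 hk
    haveI := hkf
    haveI := hklfp
    obtain ⟨p, hp1, -⟩ := Scheme.Pullback.exists_preimage_pullback (f := i₂) (g := k) y' z hz.symm
    have hc : (Limits.pullback.snd i₂ k ≫ x.left) ≫ φ.left = Limits.pullback.fst i₂ k ≫ i₂ := by
      rw [Category.assoc, Limits.pullback.condition]
      exact congrArg (_ ≫ ·) (congrArg CommaMorphism.left hx)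
    exact ⟨_, hpb.lift (Limits.pullback.fst i₂ k) (Limits.pullback.snd i₂ k ≫ x.left) hc.symm,
      Limits.pullback.fst i₂ k, (Limits.pullback.fst i₂ k).isOpenMap, hpb.lift_fst _ _ _, p, hp1⟩
  refine Topology.isQuotientMap_iff_isClosed.2 ⟨fun y' => ?_, fun A => ⟨fun hA => hA.preimage f'.continuous, fun hA => ?_⟩⟩
  · obtain ⟨P, r, o, -, hro, p, hp⟩ := hlift y'
    exact ⟨r.base p, by rw [← Scheme.Hom.comp_apply, hro, hp]⟩
  · refine isOpen_compl_iff.1 (isOpen_iff_mem_nhds.2 fun y' hy' => ?_)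
    obtain ⟨P, r, o, ho, hro, p, hp⟩ := hlift y'
    have hA' : IsClosed (o.base ⁻¹' A) := by
      rw [← hro, Scheme.Hom.comp_base, TopCat.coe_comp, Set.preimage_comp]
      exact hA.preimage r.continuous
    refine Filter.mem_of_superset ((ho _ hA'.isOpen_compl).mem_nhds ⟨p, fun h => hy' (hp ▸ h), hp⟩) ?_
    rintro _ ⟨q, hq', rfl⟩
    exact hq'

theorem app_eq_of_eq {P W : Scheme.{u}} (l l' : P ⟶ W) (e : l = l') (V : W.Opens) (O : P.Opens) (h h') (s : Γ(W, V)) :
    l.appLE V O h s = l'.appLE V O h' s := by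
  subst e
  rfl

theorem appLE_appLE {P Q W : Scheme.{u}} (l : P ⟶ Q) (g : Q ⟶ W) {V : W.Opens} {Q' : Q.Opens} {O : P.Opens}
    (e : Q' ≤ g ⁻¹ᵁ V) (h : O ≤ l ⁻¹ᵁ Q') (s : Γ(W, V)) :
    l.appLE Q' O h (g.appLE V Q' e s) = (l ≫ g).appLE V O (h.trans (l.preimage_mono e)) s :=
  (ConcreteCategory.comp_apply _ _ _).symm.trans
    (ConcreteCategory.congr_hom (Scheme.Hom.appLE_comp_appLE _ _ _ _ _ _ _) s)

include hq in
theorem sections (hi : GIT.IsInvariant a φ) (U : Y.left.Opens) :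
    Function.Injective (φ.left.app U) ∧ Set.range (φ.left.app U) = {f | GIT.IsInvSection a φ U f} := by
  obtain ⟨R, hR, hx⟩ := exists_lifts a φ hq
  let J := Σ Z : Scheme.{u}, {k : Z ⟶ Y.left // R k}
  let Z : J → Scheme.{u} := fun j => j.1
  let k : ∀ j : J, Z j ⟶ Y.left := fun j => j.2.1
  have hcov : Sieve.ofArrows Z k ∈ Scheme.fppfTopology Y.left := by
    refine GrothendieckTopology.superset_covering _ ?_ (Precoverage.generate_mem_toGrothendieck hR)
    rw [Sieve.generate_le_iff]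
    intro W m hm
    exact Sieve.ofArrows_mk Z k ⟨W, m, hm⟩
  choose x hx using fun j : J => hx j.2.2
  have hxl : ∀ j, (x j).left ≫ φ.left = k j := fun j => congrArg CommaMorphism.left (hx j)
  have hle : ∀ j, k j ⁻¹ᵁ U ≤ (x j).left ⁻¹ᵁ (φ.left ⁻¹ᵁ U) := fun j => by
    rw [← Scheme.Hom.comp_preimage, hxl j]
  have hpull : ∀ j c, (k j).app U c = (x j).left.appLE (φ.left ⁻¹ᵁ U) (k j ⁻¹ᵁ U) (hle j) (φ.left.app U c) := fun j c => by
    rw [Groth.Agent.AbDualLib.appLE_app, Scheme.Hom.app_eq_appLE]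
    exact app_eq_of_eq _ _ (hxl j).symm _ _ _ _ _
  refine ⟨fun c c' hc => ?_, Set.ext fun f => ⟨?_, fun hf => ?_⟩⟩
  · refine Groth.Agent.AbDualLib.fun_ext U Z k hcov c c' fun j => ?_
    rw [hpull, hpull, hc]
  · rintro ⟨c, rfl⟩
    show GIT.IsInvSection a φ U _
    rw [GIT.IsInvSection, Groth.Agent.AbDualLib.appLE_app, Groth.Agent.AbDualLib.appLE_app]
    exact app_eq_of_eq _ _ hi.left _ _ _ _ _
  have key : ∀ {P : Scheme.{u}} (T : Over S) (y y' : T ⟶ X), y ≫ φ = y' ≫ φ → ∀ (O : T.left.Opens) (h h'),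
      y.left.appLE (φ.left ⁻¹ᵁ U) O h f = y'.left.appLE (φ.left ⁻¹ᵁ U) O h' f := by
    intro P T y y' hyy O h h'
    obtain ⟨R', hR', hg⟩ := exists_orbit a φ hq y y' hyy
    refine Groth.Agent.AbDualLib.fun_ext O (fun j : (Σ Z : Scheme.{u}, {m : Z ⟶ T.left // R' m}) => j.1)
      (fun j => j.2.1) ?_ _ _ fun ⟨W, m, hm⟩ => ?_
    · refine GrothendieckTopology.superset_covering _ ?_ (Precoverage.generate_mem_toGrothendieck hR')
      rw [Sieve.generate_le_iff]
      intro W m hm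
      exact Sieve.ofArrows_mk _ _ (⟨W, m, hm⟩ : Σ Z : Scheme.{u}, {m : Z ⟶ T.left // R' m})
    obtain ⟨g, hg⟩ := hg hm
    let l := lift g (Over.homMk (U := Over.mk (m ≫ T.hom)) m rfl ≫ y')
    have hl1 : l.left ≫ a.act.left = m ≫ y.left := congrArg CommaMorphism.left hg
    have hl2 : l.left ≫ (snd G X).left = m ≫ y'.left := congrArg CommaMorphism.left (lift_snd g _)
    show m.app O _ = m.app O _
    rw [Scheme.Hom.app_eq_appLE, ← CommRingCat.comp_apply, ← CommRingCat.comp_apply, Scheme.Hom.appLE_comp_appLE,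
      Scheme.Hom.appLE_comp_appLE]
    refine (app_eq_of_eq _ _ hl1.symm _ _ _ ?_ f).trans (Eq.trans ?_ (app_eq_of_eq _ _ hl2 _ _ ?_ _ f))
    · rw [hl1, Scheme.Hom.comp_preimage]; exact m.preimage_mono h
    rotate_left 1
    · rw [hl2, Scheme.Hom.comp_preimage]; exact m.preimage_mono h'
    have hlW : m ⁻¹ᵁ O ≤ l.left ⁻¹ᵁ (a.act.left ⁻¹ᵁ (φ.left ⁻¹ᵁ U) ⊓ (snd G X).left ⁻¹ᵁ (φ.left ⁻¹ᵁ U)) := fun p hp => by
      refine ⟨?_, ?_⟩
      · show a.act.left.base (l.left.base p) ∈ φ.left ⁻¹ᵁ U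
        rw [← Scheme.Hom.comp_apply, hl1]
        exact h hp
      · show (snd G X).left.base (l.left.base p) ∈ φ.left ⁻¹ᵁ U
        rw [← Scheme.Hom.comp_apply, hl2]
        exact h' hp
    exact (appLE_appLE _ _ inf_le_left hlW f).symm.trans ((congrArg _ hf).trans (appLE_appLE _ _ inf_le_right hlW f))
  obtain ⟨c, hc⟩ := Groth.Agent.AbDualLib.exists_fun_desc U Z k hcov
    (fun j => (x j).left.appLE (φ.left ⁻¹ᵁ U) (k j ⁻¹ᵁ U) (hle j) f) (fun j j' P l l' W h h' hll => by
      let T : Over S := Over.mk (l ≫ k j ≫ Y.hom)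
      let y : T ⟶ X := Over.homMk (U := T) (V := Over.mk (k j ≫ Y.hom)) l rfl ≫ x j
      let y' : T ⟶ X := (Over.homMk (U := T) (V := Over.mk (k j' ≫ Y.hom)) l' (by
        show l' ≫ k j' ≫ Y.hom = l ≫ k j ≫ Y.hom
        rw [← Category.assoc, ← hll, Category.assoc])) ≫ x j'
      refine (appLE_appLE _ _ _ _ _).trans (Eq.trans ?_ (appLE_appLE _ _ _ _ _).symm)
      refine key (P := P) T y y' ?_ W _ _
      rw [Category.assoc, Category.assoc, hx, hx]
      exact Over.OverMorphism.ext hll)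
  refine ⟨c, ?_⟩
  -- compare on the cover pulled back to X
  have hid : ∀ (T : Over S) (y : T ⟶ X) (O : T.left.Opens) (h), ∀ (j : J) (l : T.left ⟶ Z j), l ≫ k j = y.left ≫ φ.left →
      y.left.appLE (φ.left ⁻¹ᵁ U) O h (φ.left.app U c) = y.left.appLE (φ.left ⁻¹ᵁ U) O h f := by
    intro T y O h j l hl
    have hlw : l ≫ k j ≫ Y.hom = T.hom := by rw [← Category.assoc, hl, Category.assoc, Over.w φ, Over.w y]
    let y' : T ⟶ X := Over.homMk (U := T) (V := Over.mk (k j ≫ Y.hom)) l hlw ≫ x j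
    have hO : O ≤ l ⁻¹ᵁ (k j ⁻¹ᵁ U) := fun p hp => by
      show (l ≫ k j).base p ∈ U
      rw [hl]; exact h hp
    rw [Groth.Agent.AbDualLib.appLE_app, app_eq_of_eq _ _ hl.symm U O _ hO c,
      ← Groth.Agent.AbDualLib.appLE_app l (k j), hc j]
    refine (appLE_appLE _ _ _ _ _).trans ?_
    exact (key (P := T.left) T y' y (by
      rw [Category.assoc, hx]; exact Over.OverMorphism.ext hl) O _ h)
  refine Groth.Agent.AbDualLib.fun_ext (φ.left ⁻¹ᵁ U) (fun j : J => pullback φ.left (k j))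
    (fun j => Limits.pullback.fst φ.left (k j)) ?_ _ _ fun j => ?_
  · refine GrothendieckTopology.superset_covering _ ?_ (Scheme.fppfTopology.pullback_stable φ.left hcov)
    intro W m hm
    obtain ⟨_, l, _, ⟨j⟩, hl⟩ := hm
    exact ⟨_, Limits.pullback.lift m l hl.symm, _, ⟨j⟩, Limits.pullback.lift_fst _ _ _⟩
  · rw [Scheme.Hom.app_eq_appLE]
    exact hid (Over.mk (Limits.pullback.fst φ.left (k j) ≫ X.hom)) (Over.homMk (Limits.pullback.fst _ _) rfl) _ le_rfl j
      (Limits.pullback.snd φ.left (k j)) Limits.pullback.condition.symm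

include hq in
theorem isGeomQuot : GIT.IsGeomQuot a φ :=
  have hi : GIT.IsInvariant a φ := hq.choose
  ⟨hi, surjective a φ hq, orbit_surjective a φ hq hi, univSubmersive a φ hq, sections a φ hq hi⟩

end Groth.L18.GITFppf
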