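import Groth.Prelude.Def_W4bk4git07Quot
import Mathlib.AlgebraicGeometry.AffineSpace
import Mathlib.AlgebraicGeometry.Morphisms.UnderlyingMap
import Mathlib.AlgebraicGeometry.ResidueField
import Mathlib.AlgebraicGeometry.Restrict

/-!
# Universal categorical quotients
-/

set_option autoImplicit false
set_option linter.style.haveILetI false
set_option backward.isDefEq.respectTransparency false
set_option backward.isDefEq.respectTransparency.types false

noncomputable section

universe u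

open CategoryTheory MonoidalCategory CartesianMonoidalCategory MonObj AlgebraicGeometry TopologicalSpace Opposite

namespace Groth.L18.GITQ

variable {S : Scheme.{u}} {G X Y : Over S} [GrpObj G]

/-- The action induced on the base change of an invariant map exists. -/
theorem exists_baseChange_action (a : AlgGrp.Action G X) {φ : X ⟶ Y} (hi : GIT.IsInvariant a φ) {X' Y' : Over S}
    {pr : X' ⟶ X} {φ' : X' ⟶ Y'} {g : Y' ⟶ Y} (hpb : IsPullback pr φ' φ g) :
    ∃ a' : AlgGrp.Action G X', a'.act ≫ pr = (G ◁ pr) ≫ a.act ∧ GIT.IsInvariant a' φ' := by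
  have w : ((G ◁ pr) ≫ a.act) ≫ φ = (snd G X' ≫ φ') ≫ g := by
    rw [Category.assoc, hi, whiskerLeft_snd_assoc, Category.assoc, hpb.w]
  have h1 : hpb.lift _ _ w ≫ pr = (G ◁ pr) ≫ a.act := hpb.lift_fst _ _ _
  have h2 : hpb.lift _ _ w ≫ φ' = snd G X' ≫ φ' := hpb.lift_snd _ _ _
  refine ⟨⟨hpb.lift _ _ w, hpb.hom_ext ?_ ?_, hpb.hom_ext ?_ ?_⟩, h1, h2⟩
  · rw [Category.assoc, h1, ← whisker_exchange_assoc, a.one_act]
    exact (leftUnitor_naturality pr)
  · rw [Category.assoc, h2, whiskerRight_snd_assoc]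
    rw [CartesianMonoidalCategory.leftUnitor_hom]
  · simp only [Category.assoc, h1]
    rw [← whisker_exchange_assoc, a.mul_act, ← MonoidalCategory.whiskerLeft_comp_assoc G (hpb.lift _ _ w), h1,
      MonoidalCategory.whiskerLeft_comp_assoc, ← associator_naturality_right_assoc]
  · simp only [Category.assoc, h2]
    rw [whiskerLeft_snd_assoc, h2, whiskerRight_snd_assoc]
    simp

/-- A square of schemes over `S` which is cartesian is cartesian over `S`. -/
theorem isPullback_over {P A B C : Over S} {p : P ⟶ A} {q : P ⟶ B} {f : A ⟶ C} {g : B ⟶ C}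
    (w : p ≫ f = q ≫ g) (h : IsPullback p.left q.left f.left g.left) : IsPullback p q f g :=
  IsPullback.of_map (Over.forget S) w h

theorem isPullback_whiskerLeft (H : Over S) {T T' : Over S} (f : T' ⟶ T) :
    IsPullback (H ◁ f).left (snd H T').left (snd H T).left f.left := by
  have h1 : IsPullback (fst H T).left (snd H T).left H.hom T.hom := IsPullback.of_hasPullback H.hom T.hom
  have h2 : IsPullback (fst H T').left (snd H T').left H.hom T'.hom := IsPullback.of_hasPullback H.hom T'.hom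
  refine IsPullback.of_right ?_ (congrArg (fun m => m.left) (whiskerLeft_snd H f)) h1
  rw [show (H ◁ f).left ≫ (fst H T).left = (fst H T').left from
    congrArg (fun m => m.left) (whiskerLeft_fst H f), Over.w f]
  exact h2

/-- The residue field point as a scheme over the base, and its base change. -/
theorem surjective_of_isUnivCatQuot {a : AlgGrp.Action G X} {φ : X ⟶ Y} (h : GIT.IsUnivCatQuot a φ) :
    Function.Surjective φ.left.base := by
  intro y
  by_contra hy
  let Y' : Over S := Over.mk (Y.left.fromSpecResidueField y ≫ Y.hom)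
  let g : Y' ⟶ Y := Over.homMk (Y.left.fromSpecResidueField y) rfl
  let X' : Over S := Over.mk (Limits.pullback.fst φ.left g.left ≫ X.hom)
  let pr : X' ⟶ X := Over.homMk (Limits.pullback.fst φ.left g.left) rfl
  let φ' : X' ⟶ Y' := Over.homMk (Limits.pullback.snd φ.left g.left) (by
    show _ ≫ (g.left ≫ Y.hom) = _ ≫ X.hom
    rw [← Limits.pullback.condition_assoc, Over.w φ])
  have hpb : IsPullback pr φ' φ g :=
    isPullback_over (Over.OverMorphism.ext Limits.pullback.condition) (IsPullback.of_hasPullback _ _)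
  obtain ⟨a', ha, hi⟩ := exists_baseChange_action a h.1.1 hpb
  have hc : GIT.IsCatQuot a' φ' := h.2 pr φ' g trivial hpb a' ha hi
  haveI : IsEmpty X'.left := ⟨fun x => hy ⟨pr.left.base x, by
    have := Scheme.range_fromSpecResidueField y
    have e : φ.left.base (pr.left.base x) = g.left.base (φ'.left.base x) := by
      rw [← Scheme.Hom.comp_apply, ← Scheme.Hom.comp_apply]
      exact congrArg (fun f : X'.left ⟶ Y.left => f.base x) (Limits.pullback.condition (f := φ.left) (g := g.left))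
    exact e.trans (Set.eq_of_mem_singleton (this.le ⟨_, rfl⟩))⟩⟩
  haveI : IsEmpty (G ⊗ X').left := Function.isEmpty (snd G X').left.base
  let Z : Over S := Over.mk (Scheme.emptyTo S)
  let ψ : X' ⟶ Z := Over.homMk (isInitialOfIsEmpty.to _) (isInitialOfIsEmpty.hom_ext _ _)
  obtain ⟨χ, -, -⟩ := hc.2 Z ψ (Over.OverMorphism.ext (isInitialOfIsEmpty.hom_ext _ _))
  exact (χ.left.base (IsLocalRing.closedPoint (Y.left.residueField y) : Y'.left) : (∅ : Scheme.{u})).elim

/-- Two equal morphisms pull back sections equally. -/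
theorem appLE_congr_mor {A B : Scheme.{u}} {m m' : A ⟶ B} (e : m = m') (U : B.Opens) (W : A.Opens)
    (h : W ≤ m ⁻¹ᵁ U) (h' : W ≤ m' ⁻¹ᵁ U) : m.appLE U W h = m'.appLE U W h' := by
  subst e
  rfl

theorem isInvSection_app (a : AlgGrp.Action G X) {φ : X ⟶ Y} (hi : GIT.IsInvariant a φ) (U : Y.left.Opens)
    (s : Γ(Y.left, U)) : GIT.IsInvSection a φ U (φ.left.app U s) := by
  rw [GIT.IsInvSection, ← Scheme.Hom.appLE_eq_app (f := φ.left), ← CommRingCat.comp_apply,
    ← CommRingCat.comp_apply, Scheme.Hom.appLE_comp_appLE, Scheme.Hom.appLE_comp_appLE]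
  exact congrArg (fun f : Γ(Y.left, U) ⟶ _ => f s) (appLE_congr_mor hi.left _ _ _ _)

/-- The sections of a universal categorical quotient are the invariant sections. -/
theorem sections_of_isUnivCatQuot {a : AlgGrp.Action G X} {φ : X ⟶ Y} (h : GIT.IsUnivCatQuot a φ)
    (U : Y.left.Opens) :
    Function.Injective (φ.left.app U) ∧ Set.range (φ.left.app U) = {f | GIT.IsInvSection a φ U f} := by
  let Y' : Over S := Over.mk (U.ι ≫ Y.hom)
  let g : Y' ⟶ Y := Over.homMk U.ι rfl
  let X' : Over S := Over.mk ((φ.left ⁻¹ᵁ U).ι ≫ X.hom)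
  let pr : X' ⟶ X := Over.homMk (φ.left ⁻¹ᵁ U).ι rfl
  let φ' : X' ⟶ Y' := Over.homMk (φ.left ∣_ U) (by
    show _ ≫ (U.ι ≫ Y.hom) = _ ≫ X.hom
    rw [morphismRestrict_ι_assoc, Over.w φ])
  have hpb : IsPullback pr φ' φ g :=
    isPullback_over (Over.OverMorphism.ext (morphismRestrict_ι _ _).symm) (isPullback_morphismRestrict φ.left U).flip
  obtain ⟨a', ha, hi⟩ := exists_baseChange_action a h.1.1 hpb
  have hc : GIT.IsCatQuot a' φ' := h.2 pr φ' g trivial hpb a' ha hi
  let Z : Over S := Over.mk (𝔸(PUnit.{u + 1}; S) ↘ S)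
  let toZ : ∀ {T : Over S}, Γ(T.left, ⊤) → (T ⟶ Z) := fun {T} v =>
    Over.homMk (AffineSpace.homOfVector T.hom fun _ => v) (AffineSpace.homOfVector_over _ _)
  have hcoord : ∀ {T : Over S} (v : Γ(T.left, ⊤)),
      (toZ (T := T) v).left.appTop (AffineSpace.coord S PUnit.unit) = v :=
    fun {T} v => AffineSpace.homOfVector_appTop_coord _ _ _
  have hnat : ∀ {T T' : Over S} (q : T' ⟶ T) (v : Γ(T.left, ⊤)), q ≫ toZ (T := T) v = toZ (T := T') (q.left.appTop v) :=
    fun {T T'} q v => Over.OverMorphism.ext (by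
      simp only [toZ, Over.comp_left, Over.homMk_left, AffineSpace.comp_homOfVector, Over.w q]
      rfl)
  let eX : Γ(X.left, φ.left ⁻¹ᵁ U) ≅ Γ(X'.left, ⊤) := (φ.left ⁻¹ᵁ U).topIso.symm
  let eY : Γ(Y.left, U) ≅ Γ(Y'.left, ⊤) := U.topIso.symm
  have sq : φ.left.app U ≫ eX.hom = eY.hom ≫ φ'.left.appTop := by
    have h1 : eY.hom = U.ι.appLE U ⊤ (Scheme.Opens.ι_preimage_self U).ge := by
      simp [eY, Scheme.Opens.ι_appLE]; rfl
    have h2 : eX.hom = (φ.left ⁻¹ᵁ U).ι.appLE (φ.left ⁻¹ᵁ U) ⊤ (Scheme.Opens.ι_preimage_self _).ge := by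
      simp [eX, Scheme.Opens.ι_appLE]; rfl
    rw [h1, h2, ← Scheme.Hom.appLE_eq_app (f := φ.left), Scheme.Hom.appLE_comp_appLE]
    refine (appLE_congr_mor (morphismRestrict_ι φ.left U).symm _ _ _ ?_).trans ?_
    · rw [Scheme.Hom.comp_preimage, Scheme.Opens.ι_preimage_self]; exact le_rfl
    · rw [Scheme.Hom.appTop, ← Scheme.Hom.appLE_eq_app (f := φ'.left)]
      exact (Scheme.Hom.appLE_comp_appLE _ _ _ _ _ _ _).symm
  have hinj : Function.Injective φ'.left.appTop := fun v w e => by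
    obtain ⟨χ, -, huniq⟩ := hc.2 Z (φ' ≫ toZ (T := Y') v) (by
      rw [GIT.IsInvariant, ← Category.assoc, hi, Category.assoc])
    have e' : φ' ≫ toZ (T := Y') w = φ' ≫ toZ (T := Y') v := by rw [hnat, hnat, e]
    have := (huniq _ rfl).trans (huniq _ e').symm
    rw [← hcoord (T := Y') v, ← hcoord (T := Y') w, this]
  have eXinj : Function.Injective eX.hom := (ConcreteCategory.bijective_of_isIso eX.hom).1
  refine ⟨fun v w e => ?_, Set.Subset.antisymm ?_ fun f hf => ?_⟩
  · apply (ConcreteCategory.bijective_of_isIso eY.hom).1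
    apply hinj
    rw [← CommRingCat.comp_apply, ← CommRingCat.comp_apply, ← sq, CommRingCat.comp_apply, CommRingCat.comp_apply, e]
  · rintro _ ⟨s, rfl⟩
    exact isInvSection_app a h.1.1 U s
  · let W : (G ⊗ X).left.Opens := a.act.left ⁻¹ᵁ (φ.left ⁻¹ᵁ U) ⊓ (snd G X).left ⁻¹ᵁ (φ.left ⁻¹ᵁ U)
    have eact : a'.act.left ≫ (φ.left ⁻¹ᵁ U).ι = (G ◁ pr).left ≫ a.act.left :=
      congrArg CommaMorphism.left ha
    have esnd : (snd G X').left ≫ (φ.left ⁻¹ᵁ U).ι = (G ◁ pr).left ≫ (snd G X).left :=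
      congrArg CommaMorphism.left (whiskerLeft_snd G pr).symm
    have hW : (⊤ : (G ⊗ X').left.Opens) ≤ (G ◁ pr).left ⁻¹ᵁ W := fun z _ => by
      refine ⟨?_, ?_⟩
      · show a.act.left.base ((G ◁ pr).left.base z) ∈ φ.left ⁻¹ᵁ U
        rw [← Scheme.Hom.comp_apply, ← eact, Scheme.Hom.comp_apply]
        exact (a'.act.left.base z).2
      · show (snd G X).left.base ((G ◁ pr).left.base z) ∈ φ.left ⁻¹ᵁ U
        rw [← Scheme.Hom.comp_apply, ← esnd, Scheme.Hom.comp_apply]
        exact ((snd G X').left.base z).2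
    have eX' : ∀ (m : (G ⊗ X').left ⟶ X'.left) (n : (G ⊗ X).left ⟶ X.left) (hn : W ≤ n ⁻¹ᵁ (φ.left ⁻¹ᵁ U))
        (_ : m ≫ (φ.left ⁻¹ᵁ U).ι = (G ◁ pr).left ≫ n),
        m.appTop (eX.hom f) = (G ◁ pr).left.appLE W ⊤ hW (n.appLE (φ.left ⁻¹ᵁ U) W hn f) := by
      intro m n hn e
      have h2 : eX.hom = (φ.left ⁻¹ᵁ U).ι.appLE (φ.left ⁻¹ᵁ U) ⊤ (Scheme.Opens.ι_preimage_self _).ge := by
        simp [eX, Scheme.Opens.ι_appLE]; rfl
      rw [h2, Scheme.Hom.appTop, ← Scheme.Hom.appLE_eq_app (f := m), ← CommRingCat.comp_apply,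
        ← CommRingCat.comp_apply]
      refine congrArg (fun q : Γ(X.left, φ.left ⁻¹ᵁ U) ⟶ _ => q f) ?_
      exact (Scheme.Hom.appLE_comp_appLE _ _ _ _ _ _ _).trans
        ((appLE_congr_mor e _ _ _ _).trans (Scheme.Hom.appLE_comp_appLE _ _ _ _ _ _ _).symm)
    have hψ : GIT.IsInvariant a' (toZ (T := X') (eX.hom f)) := by
      rw [GIT.IsInvariant, hnat, hnat, eX' _ _ inf_le_left eact, eX' _ _ inf_le_right esnd]
      exact congrArg (fun t => toZ (T := G ⊗ X') ((G ◁ pr).left.appLE W ⊤ hW t)) hf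
    obtain ⟨χ, hχ, -⟩ := hc.2 Z _ hψ
    refine ⟨eY.inv (χ.left.appTop (AffineSpace.coord S PUnit.unit)), eXinj ?_⟩
    rw [← CommRingCat.comp_apply (φ.left.app U), sq, CommRingCat.comp_apply]
    rw [show eY.hom (eY.inv (χ.left.appTop (AffineSpace.coord S PUnit.unit))) =
      χ.left.appTop (AffineSpace.coord S PUnit.unit) from eY.inv_hom_id_apply _]
    rw [← CommRingCat.comp_apply, ← Scheme.Hom.comp_appTop, ← Over.comp_left, hχ]
    exact hcoord (T := X') _

/-- A base change of a universal categorical quotient is one. -/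
theorem isUnivCatQuot_baseChange {a : AlgGrp.Action G X} {φ : X ⟶ Y} (h : GIT.IsUnivCatQuot a φ)
    {X' Y' : Over S} {pr : X' ⟶ X} {φ' : X' ⟶ Y'} {g : Y' ⟶ Y} (hpb : IsPullback pr φ' φ g)
    {a' : AlgGrp.Action G X'} (ha : a'.act ≫ pr = (G ◁ pr) ≫ a.act) (hi : GIT.IsInvariant a' φ') :
    GIT.IsUnivCatQuot a' φ' := by
  refine ⟨h.2 pr φ' g trivial hpb a' ha hi, fun X'' Y'' pr' φ'' g' _ hpb' a'' ha' hi' => ?_⟩
  refine h.2 (pr' ≫ pr) φ'' (g' ≫ g) trivial (hpb'.paste_horiz hpb) a'' ?_ hi'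
  rw [reassoc_of% ha', ha, MonoidalCategory.whiskerLeft_comp_assoc]

theorem isGeomQuot_of_isUnivCatQuot {a : AlgGrp.Action G X} {φ : X ⟶ Y} (h : GIT.IsUnivCatQuot a φ)
    (hs : GIT.IsUnivSubmersive φ.left) (ho : Function.Surjective (GIT.PsiY a φ h.1.1).base) :
    GIT.IsGeomQuot a φ :=
  ⟨h.1.1, surjective_of_isUnivCatQuot h, ho, hs, sections_of_isUnivCatQuot h⟩

theorem isUnivGeomQuot_of_isUnivCatQuot {a : AlgGrp.Action G X} {φ : X ⟶ Y} (h : GIT.IsUnivCatQuot a φ)
    (hs : GIT.IsUnivSubmersive φ.left) (ho : Function.Surjective (GIT.PsiY a φ h.1.1).base) :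
    GIT.IsUnivGeomQuot a φ := by
  refine ⟨isGeomQuot_of_isUnivCatQuot h hs ho, fun X' Y' pr φ' g _ hpb a' ha hi => ?_⟩
  have hl : IsPullback pr.left φ'.left φ.left g.left := hpb.map (Over.forget S)
  refine isGeomQuot_of_isUnivCatQuot (isUnivCatQuot_baseChange h hpb ha hi)
    (MorphismProperty.of_isPullback (P := MorphismProperty.universally _) hl hs) ?_
  let Q := Limits.pullback.map φ'.left φ'.left φ.left φ.left pr.left pr.left g.left hl.w.symm hl.w.symm
  have hA : IsPullback (G ◁ pr).left ((snd G X').left ≫ φ'.left) ((snd G X).left ≫ φ.left) g.left :=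
    (isPullback_whiskerLeft G pr).paste_vert hl
  have hB : IsPullback Q (Limits.pullback.snd φ'.left φ'.left ≫ φ'.left)
      (Limits.pullback.snd φ.left φ.left ≫ φ.left) g.left := by
    have h1 : IsPullback Q (Limits.pullback.snd φ'.left φ'.left) (Limits.pullback.snd φ.left φ.left) pr.left := by
      refine IsPullback.of_right ?_ (Limits.pullback.lift_snd _ _ _) (IsPullback.of_hasPullback φ.left φ.left)
      have h2 := (IsPullback.of_hasPullback φ'.left φ'.left).paste_horiz hl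
      rw [show Q ≫ Limits.pullback.fst φ.left φ.left = Limits.pullback.fst φ'.left φ'.left ≫ pr.left from
        Limits.pullback.lift_fst _ _ _, hl.w]
      exact h2
    exact h1.paste_vert hl
  have hP : IsPullback (G ◁ pr).left (GIT.PsiY a' φ' hi) (GIT.PsiY a φ h.1.1) Q := by
    refine IsPullback.of_bot ?_ ?_ hB
    · rw [← Category.assoc, ← Category.assoc, GIT.PsiY, GIT.PsiY, Limits.pullback.lift_snd, Limits.pullback.lift_snd]
      exact hA
    · refine Limits.pullback.hom_ext ?_ ?_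
      · simp only [GIT.PsiY, Q, Category.assoc, Limits.pullback.lift_fst, Limits.pullback.lift_fst_assoc]
        exact (congrArg CommaMorphism.left ha).symm
      · simp only [GIT.PsiY, Q, Category.assoc, Limits.pullback.lift_snd, Limits.pullback.lift_snd_assoc]
        exact congrArg CommaMorphism.left (whiskerLeft_snd G pr)
  haveI : Surjective (GIT.PsiY a φ h.1.1) := ⟨ho⟩
  exact (MorphismProperty.of_isPullback (P := @Surjective) hP inferInstance).surj

end Groth.L18.GITQ
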