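import Groth.Prelude.Def_W4bk4git07Quot
import Mathlib.AlgebraicGeometry.Morphisms.Separated
import Mathlib.AlgebraicGeometry.PullbackCarrier

/-!
# Orbits and graphs under a geometric quotient
-/

set_option autoImplicit false
set_option linter.style.haveILetI false
set_option backward.isDefEq.respectTransparency false

noncomputable section

universe u

open CategoryTheory MonoidalCategory CartesianMonoidalCategory AlgebraicGeometry TopologicalSpace
open CategoryTheory.Limits (pullback)

namespace Groth.L18.GITQ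

variable {S : Scheme.{u}} {G X Y : Over S} [GrpObj G] (a : AlgGrp.Action G X) (φ : X ⟶ Y)

/-- The orbit of a point with values in `T` is the preimage of the graph of its image. -/
theorem range_psi (hi : GIT.IsInvariant a φ) (ho : Function.Surjective (GIT.PsiY a φ hi).base) {T : Over S}
    (f : T ⟶ X) :
    Set.range (GIT.psi a f).left.base = (φ ▷ T).left.base ⁻¹' Set.range (lift (f ≫ φ) (𝟙 T)).left.base := by
  have hcomm : GIT.psi a f ≫ φ ▷ T = snd G T ≫ lift (f ≫ φ) (𝟙 T) := by
    ext1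
    · rw [Category.assoc, whiskerRight_fst, Category.assoc, lift_fst, GIT.psi, lift_fst_assoc, Category.assoc,
        show a.act ≫ φ = snd G X ≫ φ from hi, whiskerLeft_snd_assoc]
    · rw [Category.assoc, whiskerRight_snd, Category.assoc, lift_snd, GIT.psi, lift_snd, Category.comp_id]
  refine Set.Subset.antisymm ?_ fun z hz => ?_
  · rintro _ ⟨z, rfl⟩
    refine ⟨(snd G T).left.base z, ?_⟩
    rw [← Scheme.Hom.comp_apply, ← Over.comp_left, ← hcomm, Over.comp_left, Scheme.Hom.comp_apply]
  obtain ⟨t, ht⟩ := hz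
  obtain ⟨p, hp1, -⟩ := Scheme.Pullback.exists_preimage_pullback (f := (φ ▷ T).left)
    (g := (lift (f ≫ φ) (𝟙 T)).left) z t ht.symm
  let Po : Over S := Over.mk (Limits.pullback.fst (φ ▷ T).left (lift (f ≫ φ) (𝟙 T)).left ≫ (X ⊗ T).hom)
  let zP : Po ⟶ X ⊗ T := Over.homMk (Limits.pullback.fst _ _) rfl
  let tP : Po ⟶ T := Over.homMk (Limits.pullback.snd (φ ▷ T).left (lift (f ≫ φ) (𝟙 T)).left) (by
    show _ = Limits.pullback.fst _ _ ≫ (X ⊗ T).hom
    rw [← Over.w (φ ▷ T), Limits.pullback.condition_assoc, Over.w (lift (f ≫ φ) (𝟙 T))])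
  have hP : zP ≫ φ ▷ T = tP ≫ lift (f ≫ φ) (𝟙 T) := Over.OverMorphism.ext Limits.pullback.condition
  have hP1 : zP ≫ fst X T ≫ φ = tP ≫ f ≫ φ := by
    have := congrArg (fun m => m ≫ fst Y T) hP
    simpa using this
  have hP2 : zP ≫ snd X T = tP := by
    have := congrArg (fun m => m ≫ snd Y T) hP
    simpa using this
  let c : Po.left ⟶ pullback φ.left φ.left :=
    Limits.pullback.lift (zP ≫ fst X T).left (tP ≫ f).left (by
      rw [← Over.comp_left, ← Over.comp_left, Category.assoc, Category.assoc, hP1])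
  obtain ⟨g, hg⟩ := ho (c.base p)
  obtain ⟨q, -, hq⟩ := Scheme.Pullback.exists_preimage_pullback (f := GIT.PsiY a φ hi) (g := c) g p hg
  let Qo : Over S := Over.mk (Limits.pullback.snd (GIT.PsiY a φ hi) c ≫ Po.hom)
  let p2 : Qo ⟶ Po := Over.homMk (Limits.pullback.snd (GIT.PsiY a φ hi) c) rfl
  have hc1 := congrArg (· ≫ Limits.pullback.fst φ.left φ.left) (Limits.pullback.condition (f := GIT.PsiY a φ hi) (g := c))
  have hc2 := congrArg (· ≫ Limits.pullback.snd φ.left φ.left) (Limits.pullback.condition (f := GIT.PsiY a φ hi) (g := c))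
  simp only [Category.assoc, GIT.PsiY, Limits.pullback.lift_fst, Limits.pullback.lift_snd, c] at hc1 hc2
  let p1 : Qo ⟶ G ⊗ X := Over.homMk (Limits.pullback.fst (GIT.PsiY a φ hi) c) (by
    show _ = Limits.pullback.snd (GIT.PsiY a φ hi) c ≫ Po.hom
    rw [← Over.w (zP ≫ fst X T), ← Over.w a.act]
    exact congrArg (· ≫ X.hom) hc1 |>.trans (Category.assoc _ _ _) |> (Category.assoc _ _ _).symm.trans)
  have h1 : p1 ≫ a.act = p2 ≫ zP ≫ fst X T := Over.OverMorphism.ext hc1
  have h2 : p1 ≫ snd G X = p2 ≫ tP ≫ f := Over.OverMorphism.ext hc2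
  have key : lift (p1 ≫ fst G X) (p2 ≫ tP) ≫ GIT.psi a f = p2 ≫ zP := by
    ext1
    · rw [Category.assoc, GIT.psi, lift_fst, ← Category.assoc, lift_whiskerLeft, Category.assoc p2, ← h2,
        ← comp_lift, lift_fst_snd, Category.comp_id, h1, Category.assoc]
    · rw [Category.assoc, GIT.psi, lift_snd, lift_snd, Category.assoc, hP2]
  refine ⟨(lift (p1 ≫ fst G X) (p2 ≫ tP)).left.base q, ?_⟩
  rw [← Scheme.Hom.comp_apply, ← Over.comp_left, key, Over.comp_left, Scheme.Hom.comp_apply]
  exact (congrArg zP.left.base hq).trans hp1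

/-- The base change of a universally submersive map along a projection is a quotient map. -/
theorem isQuotientMap_whiskerRight (hs : GIT.IsUnivSubmersive φ.left) (T : Over S) :
    Topology.IsQuotientMap (φ ▷ T).left.base := by
  refine hs (fst X T).left (fst Y T).left _ ?_
  refine IsPullback.of_right (h₁₂ := (snd Y T).left) (v₁₃ := T.hom) (h₂₂ := Y.hom) ?_ ?_ ?_
  · rw [← Over.comp_left, whiskerRight_snd, Over.w φ]
    exact (IsPullback.of_hasPullback X.hom T.hom).flip
  · rw [← Over.comp_left, ← Over.comp_left, whiskerRight_fst]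
  · exact (IsPullback.of_hasPullback Y.hom T.hom).flip

/-- A rational point is closed. -/
theorem isClosed_range_section {Ω : Type u} [Field Ω] {Z T : Scheme.{u}} (e : T ≅ Spec (CommRingCat.of Ω))
    (h : Z ⟶ T) (s : T ⟶ Z) (hs : s ≫ h = 𝟙 T) : IsClosed (Set.range s.base) := by
  haveI : Subsingleton T := e.hom.homeomorph.injective.subsingleton
  obtain ⟨t₀⟩ : Nonempty T := ⟨e.inv.base (IsLocalRing.closedPoint Ω)⟩
  refine closure_subset_iff_isClosed.1 fun w hw => ?_
  obtain ⟨V, hV, hwV, -⟩ := exists_isAffineOpen_mem_and_subset (Opens.mem_top w)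
  obtain ⟨_, hzV, t, rfl⟩ := mem_closure_iff.1 hw V V.2 hwV
  have hr : Set.range s.base ⊆ Set.range V.ι.base := by
    rintro _ ⟨t', rfl⟩
    rw [Scheme.Opens.range_ι, Subsingleton.elim t' t]
    exact hzV
  let s' := IsOpenImmersion.lift V.ι s hr
  have hs' : s' ≫ V.ι = s := IsOpenImmersion.lift_fac _ _ _
  haveI : IsAffine V.toScheme := hV
  haveI : IsAffine T := .of_isIso e.hom
  haveI : IsClosedImmersion s' := by
    haveI : IsClosedImmersion (s' ≫ V.ι ≫ h) := by rw [reassoc_of% hs', hs]; infer_instance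
    exact IsClosedImmersion.of_comp s' (V.ι ≫ h)
  have hw' : (⟨w, hwV⟩ : V.toScheme) ∈ closure (Set.range s'.base) := by
    rw [V.ι.isOpenEmbedding.isInducing.closure_eq_preimage_closure_image]
    show w ∈ closure (V.ι.base '' Set.range s'.base)
    rw [← Set.range_comp, ← TopCat.coe_comp, ← Scheme.Hom.comp_base, hs']
    exact hw
  rw [s'.isClosedEmbedding.isClosed_range.closure_eq] at hw'
  obtain ⟨t', ht'⟩ := hw'
  refine ⟨t', ?_⟩
  rw [← hs', Scheme.Hom.comp_apply, ht']
  rfl

end Groth.L18.GITQ
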