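import Groth.Prelude.Def_GLinSh
import Groth.Agent.L07.FibreDimSemi
import Groth.Agent.L08.GrpDim
import Groth.Agent.S1617
import Groth.Agent.L03.FibreLocalDim
import Mathlib.RingTheory.Ideal.KrullsHeightTheorem

/-!
# Semicontinuity of the dimension of stabilisers
-/

set_option autoImplicit false
set_option linter.style.haveILetI false
set_option backward.isDefEq.respectTransparency.types false
set_option backward.isDefEq.respectTransparency false

noncomputable section

universe u

open CategoryTheory MonoidalCategory CartesianMonoidalCategory MonObj GrpObj AlgebraicGeometry TopologicalSpace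
open CategoryTheory.Limits (pullback)

namespace Groth.L18.GITStab

variable {S : Scheme.{u}} {G X : Over S} [GrpObj G] (a : AlgGrp.Action G X)

theorem one_smul {T : Over S} (x : T ⟶ X) : lift (1 : T ⟶ G) x ≫ a.act = x := by
  have h : lift (1 : T ⟶ G) x = lift (toUnit T) x ≫ (η[G] ▷ X) := by
    rw [lift_whiskerRight, Hom.one_def]
  rw [h, Category.assoc, a.one_act]
  simp

theorem mul_smul {T : Over S} (g h : T ⟶ G) (x : T ⟶ X) :
    lift (g * h) x ≫ a.act = lift g (lift h x ≫ a.act) ≫ a.act := by
  have e : lift (g * h) x = lift (lift g h) x ≫ (μ[G] ▷ X) := by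
    rw [lift_whiskerRight, Hom.mul_def]
  rw [e, Category.assoc, a.mul_act, lift_lift_associator_hom_assoc, lift_whiskerLeft_assoc]

variable {P : Over S} (f : P ⟶ X)

/-- The restriction of an object over `P` to the base. -/
abbrev res (T : Over P.left) : Over S := Over.mk (T.hom ≫ P.hom)

abbrev pt (T : Over P.left) : res T ⟶ P := Over.homMk T.hom rfl

def resMap {T T' : Over P.left} (h : T' ⟶ T) : res T' ⟶ res T :=
  Over.homMk h.left (by show h.left ≫ T.hom ≫ P.hom = T'.hom ≫ P.hom; rw [← Category.assoc, Over.w h])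

theorem resMap_pt {T T' : Over P.left} (h : T' ⟶ T) : resMap h ≫ pt T = pt T' :=
  Over.OverMorphism.ext (Over.w h)

/-- The group of points of the stabiliser. -/
def stabGroup (T : Over P.left) : Subgroup (res T ⟶ G) where
  carrier := {g | lift g (pt T ≫ f) ≫ a.act = pt T ≫ f}
  one_mem' := one_smul a _
  mul_mem' {g h} hg hh := by
    show lift (g * h) _ ≫ a.act = _
    rw [mul_smul a, hh]
    exact hg
  inv_mem' {g} hg := by
    show lift g⁻¹ _ ≫ a.act = _
    conv_lhs => rw [← hg]
    rw [← mul_smul a, inv_mul_cancel, one_smul a]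

/-- The functor of points of the stabiliser. -/
def stabFunctor : (Over P.left)ᵒᵖ ⥤ GrpCat.{u} where
  obj T := GrpCat.of (stabGroup a f T.unop)
  map {T T'} h := GrpCat.ofHom
    { toFun := fun g => ⟨resMap h.unop ≫ g.1, by
        show lift (resMap h.unop ≫ g.1) (pt T'.unop ≫ f) ≫ a.act = pt T'.unop ≫ f
        rw [← resMap_pt h.unop, Category.assoc, ← comp_lift_assoc]
        exact congrArg (resMap h.unop ≫ ·) g.2⟩
      map_one' := Subtype.ext (MonObj.comp_one _)
      map_mul' := fun g g' => Subtype.ext (MonObj.comp_mul _ _ _) }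
  map_id T := GrpCat.hom_ext <| MonoidHom.ext fun g => Subtype.ext (Over.OverMorphism.ext (Category.id_comp _))
  map_comp {T T' T''} h h' := GrpCat.hom_ext <| MonoidHom.ext fun g =>
    Subtype.ext (Over.OverMorphism.ext (Category.assoc _ _ _))

/-- The stabiliser, over `P`. -/
abbrev stabOver : Over P.left := Over.mk (GLinSh.stabTo a f)

/-- The underlying point of `G ⊗ P` of a point of the stabiliser. -/
def under {T : Over P.left} (h : T ⟶ stabOver a f) : res T ⟶ G ⊗ P :=
  Over.homMk (h.left ≫ Limits.pullback.fst (GIT.psi a f).left (lift f (𝟙 P)).left) (by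
    have h1 : T.hom = h.left ≫ GLinSh.stabTo a f := (Over.w h).symm
    show (h.left ≫ Limits.pullback.fst (GIT.psi a f).left (lift f (𝟙 P)).left) ≫ (G ⊗ P).hom = T.hom ≫ P.hom
    rw [h1, Category.assoc, Category.assoc, GLinSh.stabTo, ← Over.w (GIT.psi a f), Limits.pullback.condition_assoc,
      Over.w])

theorem under_psi {T : Over P.left} (h : T ⟶ stabOver a f) :
    under a f h ≫ GIT.psi a f = pt T ≫ lift f (𝟙 P) := Over.OverMorphism.ext (by
  have h1 : T.hom = h.left ≫ GLinSh.stabTo a f := (Over.w h).symm
  show (h.left ≫ _) ≫ _ = T.hom ≫ _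
  rw [h1, Category.assoc, Category.assoc, GLinSh.stabTo, Limits.pullback.condition])

theorem under_snd {T : Over P.left} (h : T ⟶ stabOver a f) : under a f h ≫ snd G P = pt T := by
  have h2 := congrArg (· ≫ snd X P) (under_psi a f h)
  simpa [GIT.psi] using h2

theorem under_mem {T : Over P.left} (h : T ⟶ stabOver a f) :
    under a f h ≫ fst G P ∈ stabGroup a f T := by
  show lift (under a f h ≫ fst G P) (pt T ≫ f) ≫ a.act = pt T ≫ f
  have e : lift (under a f h ≫ fst G P) (pt T ≫ f) = under a f h ≫ (G ◁ f) := by
    apply CartesianMonoidalCategory.hom_ext <;> simp [← under_snd a f h]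
  have h2 := congrArg (· ≫ fst X P) (under_psi a f h)
  simp only [GIT.psi, Category.assoc, lift_fst, Category.comp_id] at h2
  rw [e, Category.assoc]
  exact h2

/-- The stabiliser represents its functor of points. -/
def stabRep : (stabFunctor a f ⋙ forget GrpCat).RepresentableBy (stabOver a f) where
  homEquiv {T} :=
    { toFun := fun h => ⟨under a f h ≫ fst G P, under_mem a f h⟩
      invFun := fun (g : stabGroup a f T) => Over.homMk (Limits.pullback.lift (lift g.1 (pt T)).left T.hom (by
        have h2 : lift g.1 (pt T) ≫ GIT.psi a f = pt T ≫ lift f (𝟙 P) := by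
          rw [GIT.psi, comp_lift, comp_lift, lift_whiskerLeft_assoc, lift_snd, Category.comp_id, g.2]
        exact congrArg CommaMorphism.left h2)) (Limits.pullback.lift_snd _ _ _)
      left_inv := fun h => by
        ext1
        apply Limits.pullback.hom_ext
        · show Limits.pullback.lift _ _ _ ≫ _ = _
          rw [Limits.pullback.lift_fst]
          have e : lift (under a f h ≫ fst G P) (pt T) = under a f h := by
            apply CartesianMonoidalCategory.hom_ext <;> simp [under_snd a f h]
          exact congrArg CommaMorphism.left e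
        · show Limits.pullback.lift _ _ _ ≫ _ = _
          rw [Limits.pullback.lift_snd]
          exact (Over.w h).symm
      right_inv := fun (g : stabGroup a f T) => Subtype.ext (Over.OverMorphism.ext (by
        show (Limits.pullback.lift _ _ _ ≫ _) ≫ _ = _
        rw [Limits.pullback.lift_fst, ← Over.comp_left, lift_fst])) }
  homEquiv_comp {T T'} h h' := Subtype.ext (Over.OverMorphism.ext (by
    show ((h.left ≫ h'.left) ≫ _) ≫ _ = h.left ≫ (h'.left ≫ _) ≫ _
    simp only [Category.assoc]))

instance stabGrpObj : GrpObj (stabOver a f) := GrpObj.ofRepresentableBy _ _ (stabRep a f)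

instance [LocallyOfFiniteType G.hom] : LocallyOfFiniteType (GLinSh.stabTo a f) := by
  haveI : LocallyOfFiniteType (snd G P).left :=
    MorphismProperty.pullback_snd (P := @LocallyOfFiniteType) G.hom P.hom inferInstance
  haveI : LocallyOfFiniteType (GIT.psi a f).left := by
    haveI : LocallyOfFiniteType ((GIT.psi a f).left ≫ (snd X P).left) := by
      rw [← Over.comp_left, GIT.psi, lift_snd]; infer_instance
    exact locallyOfFiniteType_of_comp (GIT.psi a f).left (snd X P).left
  exact MorphismProperty.pullback_snd (P := @LocallyOfFiniteType) _ _ inferInstance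

instance [IsSeparated G.hom] : IsSeparated (GLinSh.stabTo a f) := by
  haveI : IsSeparated (snd G P).left :=
    MorphismProperty.pullback_snd (P := @IsSeparated) G.hom P.hom inferInstance
  haveI : IsSeparated (GIT.psi a f).left := by
    haveI : IsSeparated ((GIT.psi a f).left ≫ (snd X P).left) := by
      rw [← Over.comp_left, GIT.psi, lift_snd]; infer_instance
    exact IsSeparated.of_comp (GIT.psi a f).left (snd X P).left
  exact MorphismProperty.pullback_snd (P := @IsSeparated) _ _ inferInstance

theorem isPullback_whiskerLeft (H : Over S) {T T' : Over S} (q : T' ⟶ T) :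
    IsPullback (H ◁ q).left (snd H T').left (snd H T).left q.left := by
  have h1 : IsPullback (fst H T).left (snd H T).left H.hom T.hom := IsPullback.of_hasPullback H.hom T.hom
  have h2 : IsPullback (fst H T').left (snd H T').left H.hom T'.hom := IsPullback.of_hasPullback H.hom T'.hom
  refine IsPullback.of_right ?_ (congrArg (fun m => m.left) (whiskerLeft_snd H q)) h1
  rw [show (H ◁ q).left ≫ (fst H T).left = (fst H T').left from
    congrArg (fun m => m.left) (whiskerLeft_fst H q), Over.w q]
  exact h2

/-- The stabiliser of a point is the fibre of the stabiliser of the identity. -/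
theorem exists_isPullback_stab :
    ∃ s : GLinSh.stab a f ⟶ GLinSh.stab a (𝟙 X),
      IsPullback s (GLinSh.stabTo a f) (GLinSh.stabTo a (𝟙 X)) f.left := by
  have hA : IsPullback (Limits.pullback.fst (GIT.psi a f).left (lift f (𝟙 P)).left) (GLinSh.stabTo a f)
      (GIT.psi a f).left (lift f (𝟙 P)).left := IsPullback.of_hasPullback _ _
  have hB : IsPullback (lift f (𝟙 P)).left f.left (X ◁ f).left (lift (𝟙 X) (𝟙 X)).left := by
    refine IsPullback.of_right (h₁₂ := (snd X P).left) (h₂₂ := (snd X X).left) (v₁₃ := f.left) ?_ ?_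
      (isPullback_whiskerLeft X f).flip
    · rw [← Over.comp_left, ← Over.comp_left, lift_snd, lift_snd]
      exact IsPullback.of_horiz_isIso ⟨by simp⟩
    · rw [← Over.comp_left, ← Over.comp_left, lift_whiskerLeft, Category.id_comp, comp_lift, Category.comp_id]
  have hsq : (GIT.psi a f).left ≫ (X ◁ f).left = (G ◁ f).left ≫ (GIT.psi a (𝟙 X)).left := by
    rw [← Over.comp_left, ← Over.comp_left]
    congr 1
    rw [GIT.psi, GIT.psi, lift_whiskerLeft, comp_lift]
    simp
  have hAB : IsPullback (Limits.pullback.fst (GIT.psi a f).left (lift f (𝟙 P)).left) (GLinSh.stabTo a f ≫ f.left)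
      ((G ◁ f).left ≫ (GIT.psi a (𝟙 X)).left) (lift (𝟙 X) (𝟙 X)).left := by
    rw [← hsq]
    exact hA.paste_vert hB
  let s : GLinSh.stab a f ⟶ GLinSh.stab a (𝟙 X) :=
    Limits.pullback.lift (Limits.pullback.fst (GIT.psi a f).left (lift f (𝟙 P)).left ≫ (G ◁ f).left)
      (GLinSh.stabTo a f ≫ f.left) (by rw [Category.assoc]; exact hAB.w)
  refine ⟨s, ?_⟩
  have h1 : IsPullback (Limits.pullback.fst (GIT.psi a f).left (lift f (𝟙 P)).left) s (G ◁ f).left
      (Limits.pullback.fst (GIT.psi a (𝟙 X)).left (lift (𝟙 X) (𝟙 X)).left) := by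
    refine IsPullback.of_bot (v₂₁ := GLinSh.stabTo a (𝟙 X)) ?_ (Limits.pullback.lift_fst _ _ _).symm
      (IsPullback.of_hasPullback _ _)
    rw [show s ≫ GLinSh.stabTo a (𝟙 X) = GLinSh.stabTo a f ≫ f.left from Limits.pullback.lift_snd _ _ _]
    exact hAB
  have e : ∀ {T : Over S} (t : T ⟶ X), (GLinSh.stabTo a t) =
      Limits.pullback.fst (GIT.psi a t).left (lift t (𝟙 T)).left ≫ (snd G T).left := fun {T} t => by
    have h := congrArg (· ≫ (snd X T).left) (Limits.pullback.condition (f := (GIT.psi a t).left) (g := (lift t (𝟙 T)).left))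
    simp only [Category.assoc, ← Over.comp_left, GIT.psi, lift_snd, Over.id_left, Category.comp_id] at h
    exact h.symm
  rw [e f, e (𝟙 X)]
  exact h1.flip.paste_vert (isPullback_whiskerLeft G f)

/-- The identity section of the stabiliser of the identity. -/
def idSec : X.left ⟶ GLinSh.stab a (𝟙 X) :=
  Limits.pullback.lift (lift (1 : X ⟶ G) (𝟙 X)).left (𝟙 _) (by
    rw [Category.id_comp]
    refine congrArg CommaMorphism.left (?_ : lift (1 : X ⟶ G) (𝟙 X) ≫ GIT.psi a (𝟙 X) = lift (𝟙 X) (𝟙 X))
    rw [GIT.psi, comp_lift, lift_whiskerLeft_assoc, lift_snd, Category.comp_id, one_smul a])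

theorem idSec_stabTo : idSec a ≫ GLinSh.stabTo a (𝟙 X) = 𝟙 _ := Limits.pullback.lift_snd _ _ _

theorem nonneg_dim_fibre {A B : Scheme.{u}} (q : A ⟶ B) (b : B) (hb : Nonempty (q.fiber b)) :
    (0 : WithBot ℕ∞) ≤ topologicalKrullDim (q.fiber b) := Groth.L06.Dim.nonneg

/-- The fibre over `x` is the stabiliser of `x`. -/
theorem krullDim_stab_eq (x : X.left) :
    topologicalKrullDim (GLinSh.stab a (Over.homMk (X.left.fromSpecResidueField x) rfl :
        Over.mk (X.left.fromSpecResidueField x ≫ X.hom) ⟶ X)) =
      topologicalKrullDim ((GLinSh.stabTo a (𝟙 X)).fiber x) := by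
  obtain ⟨s, hs⟩ := exists_isPullback_stab a (Over.homMk (X.left.fromSpecResidueField x) rfl :
    Over.mk (X.left.fromSpecResidueField x ≫ X.hom) ⟶ X)
  exact IsHomeomorph.topologicalKrullDim_eq _ hs.isoPullback.hom.homeomorph.isHomeomorph

/-- The dimension of a stabiliser is the fibre dimension at the identity, and is finite. -/
theorem dim_eq_fibreDimAt [LocallyOfFiniteType G.hom] [IsSeparated G.hom] (x : X.left) :
    topologicalKrullDim ((GLinSh.stabTo a (𝟙 X)).fiber x) =
        FlatMor.fibreDimAt (GLinSh.stabTo a (𝟙 X)) (idSec a x) ∧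
      topologicalKrullDim ((GLinSh.stabTo a (𝟙 X)).fiber x) < ⊤ := by
  let q := GLinSh.stabTo a (𝟙 X)
  have hqe : q (idSec a x) = x := by
    rw [← Scheme.Hom.comp_apply, idSec_stabTo]; rfl
  have key : ∀ z : GLinSh.stab a (𝟙 X), z ∈ Set.range (idSec a) →
      topologicalKrullDim (q.fiber (q z)) = FlatMor.fibreDimAt q z ∧ topologicalKrullDim (q.fiber (q z)) < ⊤ := by
    rintro z ⟨x', rfl⟩
    set y := q (idSec a x') with hy
    let P : Over S := Over.mk (X.left.fromSpecResidueField y ≫ X.hom)
    let f : P ⟶ X := Over.homMk (X.left.fromSpecResidueField y) rfl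
    obtain ⟨s, hs⟩ := exists_isPullback_stab a f
    have hyx : y = x' := by rw [hy, ← Scheme.Hom.comp_apply, idSec_stabTo]; rfl
    let φ : GLinSh.stab a f ≅ q.fiber y := hs.isoPullback
    let t : Over (Spec (X.left.residueField y)) := stabOver a f
    letI : GrpObj t := stabGrpObj a f
    haveI : IsLocallyNoetherian P.left := inferInstanceAs (IsLocallyNoetherian (Spec (X.left.residueField y)))
    haveI : LocallyOfFiniteType t.hom := inferInstanceAs (LocallyOfFiniteType (GLinSh.stabTo a f))
    let sec : Spec (X.left.residueField y) ⟶ GLinSh.stab a f :=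
      hs.lift (X.left.fromSpecResidueField y ≫ idSec a) (𝟙 _) (by
        rw [Category.assoc, idSec_stabTo, Category.id_comp, Category.comp_id]; rfl)
    have hsec : sec ≫ GLinSh.stabTo a f = 𝟙 _ := hs.lift_snd _ _ _
    haveI : IsClosedImmersion (sec ≫ GLinSh.stabTo a f) := by rw [hsec]; infer_instance
    haveI : IsClosedImmersion sec := IsClosedImmersion.of_comp sec (GLinSh.stabTo a f)
    let c := sec (IsLocalRing.closedPoint (X.left.residueField y))
    have hc : IsClosed ({c} : Set (GLinSh.stab a f)) := by
      haveI : Unique (Spec (X.left.residueField y)) := inferInstanceAs (Unique (PrimeSpectrum _))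
      have h := sec.isClosedEmbedding.isClosed_range
      rwa [show Set.range sec = {c} from (Set.range_unique (f := ⇑sec)).trans (congrArg (fun w => {sec w}) (Subsingleton.elim _ _))] at h
    have hι : φ.hom c = q.asFiber (idSec a x') := by
      refine (q.fiberι y).injective ?_
      rw [Scheme.Hom.fiberι_asFiber, ← Scheme.Hom.comp_apply,
        show φ.hom ≫ q.fiberι y = s from hs.isoPullback_hom_fst, ← Scheme.Hom.comp_apply,
        show sec ≫ s = X.left.fromSpecResidueField y ≫ idSec a from hs.lift_fst _ _ _, Scheme.Hom.comp_apply,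
        X.left.fromSpecResidueField_apply, hyx]
    have hc' : IsClosed ({c} : Set t.left) := hc
    letI : (GLinSh.stab a f).Over (Spec (CommRingCat.of (X.left.residueField y))) := ⟨GLinSh.stabTo a f⟩
    haveI : LocallyOfFiniteType (GLinSh.stab a f ↘ Spec (CommRingCat.of (X.left.residueField y))) :=
      inferInstanceAs (LocallyOfFiniteType (GLinSh.stabTo a f))
    have h1 := Groth.Agent.S1617.result (X.left.residueField y) (GLinSh.stab a f) c hc
    have h2 : ringKrullDim ((GLinSh.stab a f).presheaf.stalk c) = topologicalKrullDim (GLinSh.stab a f) :=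
      Groth.L08.GrpDim.ringKrullDim_stalk t c hc'
    have h3 : topologicalKrullDim (GLinSh.stab a f) = topologicalKrullDim (q.fiber y) :=
      IsHomeomorph.topologicalKrullDim_eq _ φ.hom.homeomorph.isHomeomorph
    refine ⟨?_, ?_⟩
    · rw [← h3, ← h2, ← h1, FlatMor.fibreDimAt, ← Groth.L03.FibreLocalDim.localDim_homeomorph φ.hom.homeomorph c]
      exact congrArg _ hι
    · rw [← h3, ← h2]
      haveI : IsLocallyNoetherian (GLinSh.stab a f) :=
        LocallyOfFiniteType.isLocallyNoetherian (GLinSh.stabTo a f)
      exact ringKrullDim_lt_top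
  have h := key _ ⟨x, rfl⟩
  refine ⟨(congrArg (fun w => topologicalKrullDim (q.fiber w)) hqe).symm.trans h.1, ?_⟩
  exact (congrArg (fun w => topologicalKrullDim (q.fiber w)) hqe).symm.trans_lt h.2

theorem isClosed_setOf_le (n : WithBot ℕ∞) [LocallyOfFiniteType G.hom] [IsSeparated G.hom] :
    IsClosed {x : X.left | n ≤ topologicalKrullDim
      (GLinSh.stab a (Over.homMk (X.left.fromSpecResidueField x) rfl :
        Over.mk (X.left.fromSpecResidueField x ≫ X.hom) ⟶ X))} := by
  let q := GLinSh.stabTo a (𝟙 X)
  have hnon : ∀ x : X.left, (0 : WithBot ℕ∞) ≤ topologicalKrullDim (q.fiber x) := fun x => by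
    have hqe : q (idSec a x) = x := by rw [← Scheme.Hom.comp_apply, idSec_stabTo]; rfl
    refine nonneg_dim_fibre q x ?_
    rw [← hqe]
    exact ⟨q.asFiber (idSec a x)⟩
  simp only [krullDim_stab_eq]
  induction n with
  | bot => simp
  | coe n =>
    induction n using ENat.recTopCoe with
    | top =>
      convert isClosed_empty
      refine Set.eq_empty_iff_forall_notMem.2 fun x hx => ?_
      exact absurd (dim_eq_fibreDimAt a x).2 (not_lt.2 (show ((⊤ : ℕ∞) : WithBot ℕ∞) ≤ _ from hx))
    | coe n =>
      cases n with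
      | zero =>
        convert isClosed_univ
        exact Set.eq_univ_of_forall fun x => hnon x
      | succ m =>
        have h := (Groth.L07.FibreDim.isOpen_fibreDimAt_le q m).isClosed_compl.preimage (idSec a).continuous
        convert h using 1
        ext x
        show ((m + 1 : ℕ) : ℕ∞) ≤ topologicalKrullDim (q.fiber x) ↔ ¬ FlatMor.fibreDimAt q (idSec a x) ≤ (m : WithBot ℕ∞)
        rw [← (dim_eq_fibreDimAt a x).1, not_le]
        refine ⟨fun h => lt_of_lt_of_le (by exact_mod_cast Nat.lt_succ_self m) h, fun h => ?_⟩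
        have h0 := hnon x
        generalize topologicalKrullDim (q.fiber x) = d at h h0 ⊢
        induction d with
        | bot => simp at h0
        | coe d =>
          have : (m : ℕ∞) < d := WithBot.coe_lt_coe.1 h
          exact WithBot.coe_le_coe.2 (by rw [Nat.cast_succ]; exact Order.add_one_le_of_lt this)

end Groth.L18.GITStab
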