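import Groth.Agent.L18.GIT.MuPoints

/-!
# The numerical function along a torus is a maximum of linear functions
-/

set_option autoImplicit false
universe u

open CategoryTheory CategoryTheory.Limits MonoidalCategory CartesianMonoidalCategory MonObj AlgebraicGeometry Opposite
open Filter

set_option backward.isDefEq.respectTransparency false
set_option backward.isDefEq.respectTransparency.types false

noncomputable section

namespace Groth.L18.MuTorus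

open Groth.L18.KEval Groth.L18.MuConj Groth.L18.MuPoints Groth.L18.TorusChars Groth.L18.AffLine

variable {k : Type u} [Field k] {G X : Over (Bs k)} [GrpObj G] {a : AlgGrp.Action G X} (B : GLinSh.LinBun G a)

theorem incl_mul_origin {W : Over (Bs k)} (g : W ⟶ Red.Gm (Bs k)) :
    (g ≫ HMNum.incl (Bs k)) * (toUnit W ≫ HMNum.origin (Bs k)) = toUnit W ≫ HMNum.origin (Bs k) := by
  refine Groth.L11.Magnet.MPts.char_injective (MonoidHom.ext fun n => ?_)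
  rw [Groth.L11.Magnet.MPts.char_mul, MonoidHom.mul_apply]
  by_cases hn : (n.toAdd : ℤ) = 0
  · obtain rfl : n = 1 := Multiplicative.toAdd.injective (Subtype.ext hn)
    rw [(Groth.L11.Magnet.MPts.char (g ≫ HMNum.incl (Bs k))).map_one, _root_.one_mul]
  · rw [HMNum.origin, ← Category.assoc]
    erw [Groth.L11.Magnet.char_faceMap_of_not_mem HMNum.isFace_bot
      (toUnit W ≫ η[Magnet.AMonS (Bs k) ↥(⊥ : AddSubmonoid ℤ)]) n.toAdd (by simpa [AddSubmonoid.mem_bot] using hn)]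
    exact mul_zero _

theorem isFixedBy_limitPt (l : Red.Gm (Bs k) ⟶ G) [IsMonHom l]
    (φ : (HMNum.attrPlus a l).obj (op (𝟙_ (Over (Bs k))))) : HMNum.IsFixedBy a l (HMNum.limitPt φ) := by
  rw [HMNum.isFixedBy_iff]
  intro T' t g
  have e : t ≫ HMNum.limitPt φ = lift (toUnit T' ≫ HMNum.origin (Bs k)) t ≫ φ.1 := by
    rw [HMNum.limitPt_eq, comp_lift_assoc, Category.comp_id, ← Category.assoc, comp_toUnit]
  have h := (Magnet.MonAct.mem_eqvHom_iff φ.1).1 φ.2 T' g (toUnit T' ≫ HMNum.origin (Bs k)) t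
  rw [show lift g (toUnit T' ≫ HMNum.origin (Bs k)) ≫ (Magnet.subAct (Bs k) ℤ HMNum.plus).act =
      (g ≫ HMNum.incl (Bs k)) * (toUnit T' ≫ HMNum.origin (Bs k)) by
    rw [Magnet.subAct, Magnet.MonAct.lift_restrict_act, Magnet.MonAct.lift_regular_act],
    incl_mul_origin] at h
  rw [e]
  exact h.symm

/-- The weight on the fibre over a fixed point. -/
theorem exists_fibreWeight [Infinite k] (l : Red.Gm (Bs k) ⟶ G) [IsMonHom l] (y₀ : Pt X)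
    (hfix : HMNum.IsFixedBy a l y₀) : ∃ w : ℤ, HMNum.HasFibreWeight B l y₀ w := by
  obtain ⟨U, y, hU, hy⟩ := exists_chart B y₀
  obtain ⟨c, hcT, hcP⟩ := exists_cocycle_pt B hy hy
  obtain ⟨v₀, hv₀, hv₁⟩ := exists_fibre_pt B hy y₀ hU
  let q : Red.Gm (Bs k) ⟶ G ⊗ X := lift l (toUnit _ ≫ y₀)
  have hle : ⊤ ≤ q.left ⁻¹ᵁ (a.act.left ⁻¹ᵁ U ⊓ (snd G X).left ⁻¹ᵁ U) := by
    have e1 : q ≫ a.act = toUnit _ ≫ y₀ := by
      have := hfix (Red.Gm (Bs k)) (toUnit _) (𝟙 _)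
      rwa [Category.id_comp] at this
    have e2 : q ≫ snd G X = toUnit _ ≫ y₀ := lift_snd _ _
    rw [Scheme.Hom.preimage_inf]
    refine le_inf ?_ ?_
    · rw [← Scheme.Hom.comp_preimage, ← Over.comp_left, e1, Over.comp_left, Scheme.Hom.comp_preimage, mem_iff.1 hU]
      exact le_refl _
    · rw [← Scheme.Hom.comp_preimage, ← Over.comp_left, e2, Over.comp_left, Scheme.Hom.comp_preimage, mem_iff.1 hU]
      exact le_refl _
  let C : Γ((Red.Gm (Bs k)).left, ⊤) := q.left.appLE _ ⊤ hle c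
  have hfixP : ∀ b : kˣ, lift (gpt b ≫ l) y₀ ≫ a.act = y₀ := fun b => by
    have := hfix (𝟙_ (Over (Bs k))) (𝟙 _) (gpt b)
    rwa [Category.id_comp] at this
  have hC : ∀ (b : kˣ) (v : Pt B.V), v ≫ B.π = y₀ →
      ev (lift (gpt b ≫ l) v ≫ B.lift.act) (B.π.left ⁻¹ᵁ U) y = evT (gpt b) C * ev v (B.π.left ⁻¹ᵁ U) y := by
    intro b v hv
    obtain ⟨-, h2⟩ := hcP (gpt b ≫ l) y₀ v hv hU (by rw [hfixP]; exact hU)
    rw [h2, ← ev_eq (mem_top (gpt b)), ev_appLE q hle (mem_top _)]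
    rw [comp_lift, ← Category.assoc, toUnit_unique (gpt b ≫ toUnit _) (𝟙 _), Category.id_comp]
  let ψ : kˣ →* k :=
    { toFun := fun b => evT (gpt b) C
      map_one' := by
        have := hC 1 v₀ hv₀
        rw [map_one, MonObj.one_comp, act_one, hv₁, _root_.mul_one] at this
        rw [map_one]
        exact this.symm
      map_mul' := fun b b' => by
        have h1 := hC (b * b') v₀ hv₀
        have h2 := hC b' v₀ hv₀
        rw [hv₁, _root_.mul_one] at h1 h2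
        have h3 := hC b (lift (gpt b' ≫ l) v₀ ≫ B.lift.act) (by rw [lift_act_π, hv₀, hfixP])
        rw [h2] at h3
        rw [map_mul, MonObj.mul_comp, act_mul, h3] at h1
        rw [map_mul]
        exact h1.symm }
  obtain ⟨w, -, hw⟩ := exists_pw C ψ fun b => rfl
  refine ⟨w, hfix, U, y, hy, mem_iff.1 hU, fun T' t g v hv hgv => ?_⟩
  have e : lift (g ≫ l) (t ≫ y₀) = g ≫ q := by
    rw [comp_lift, ← Category.assoc g, toUnit_unique (g ≫ toUnit _) t]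
  have hle' : ⊤ ≤ (lift (g ≫ l) (t ≫ y₀)).left ⁻¹ᵁ (a.act.left ⁻¹ᵁ U ⊓ (snd G X).left ⁻¹ᵁ U) := by
    rw [e, Over.comp_left, Scheme.Hom.comp_preimage]
    exact le_trans (by simp) (g.left.preimage_mono hle)
  rw [hcT (g ≫ l) (t ≫ y₀) v hv hle' (HMNum.top_le_preimage B.π (mem_iff.1 hU) hv)
    (HMNum.top_le_preimage B.π (mem_iff.1 hU) hgv)]
  congr 1
  refine Eq.trans (?_ : _ = g.left.appTop C) ?_
  · refine (appLE_congr_hom (congrArg (fun f : T' ⟶ G ⊗ X => f.left) e) _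
      (hle'.trans_eq (by rw [e])) c).trans ?_
    have hg : ∀ (e₁ : ⊤ ≤ (g.left ≫ q.left) ⁻¹ᵁ (a.act.left ⁻¹ᵁ U ⊓ (snd G X).left ⁻¹ᵁ U)),
        (g.left ≫ q.left).appLE _ ⊤ e₁ c = g.left.appLE ⊤ (g.left ⁻¹ᵁ ⊤) le_rfl (q.left.appLE _ ⊤ hle c) := fun e₁ => by
      rw [← CommRingCat.comp_apply, Scheme.Hom.appLE_comp_appLE]
      rfl
    refine (hg _).trans ?_
    rw [Scheme.Hom.appLE_eq_app]
    rfl
  · rw [hw, ← Groth.L11.Magnet.MPts.char_comp, Category.comp_id, unitOfPt_zpow]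

/-- The numerical function exists on a proper scheme. -/
theorem exists_isMu [Infinite k] [IsProper X.hom] (l : Red.Gm (Bs k) ⟶ G) [IsMonHom l] (x : Pt X) :
    ∃ m : ℤ, HMNum.IsMu B l x m := by
  obtain ⟨φ, hφ⟩ := exists_attr (a := a) l x
  obtain ⟨w, hw⟩ := exists_fibreWeight B l _ (isFixedBy_limitPt l φ)
  exact ⟨-w, HMNum.limitPt φ, ⟨φ, hφ, rfl⟩, by rwa [neg_neg]⟩

variable {T : Over (Bs k)} [GrpObj T] (i : T ⟶ G) [IsMonHom i]

/-- The key estimate: weights bound the exponents, with equality for a section non-zero at the limit. -/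
theorem isMu_le_and_attained [Infinite k] {J : Type*} (n : J → ℕ) (f : J → Γ(B.V.left, ⊤)) (hn : ∀ j, 0 < n j)
    (hf : ∀ j, GLinSh.HasWeight B.atlas.chart (n j) (f j))
    (hcov : ∀ z : X.left, ∃ j, z ∈ GLinSh.nonvanishing B.π (f j))
    (Φ : J → Finset (Pt T →* k)) (hΦ : ∀ j, ↑(Φ j) ⊆ (algChar T : Set (Pt T →* k))) (x : Pt X) (v : Pt B.V)
    (hv : v ≫ B.π = x) {U₀ : X.left.Opens} {y₁ : Γ(B.V.left, B.π.left ⁻¹ᵁ U₀)} (hy₁ : y₁ ∈ B.atlas.chart U₀)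
    (hxU : Mem x U₀) (hne : ev v (B.π.left ⁻¹ᵁ U₀) y₁ ≠ 0) (c : J → (Pt T →* k) → k)
    (hc : ∀ j s, evT (lift (s ≫ i) v ≫ B.lift.act) (f j) = ∑ χ ∈ Φ j, c j χ * χ s)
    (l : Red.Gm (Bs k) ⟶ T) [IsMonHom l] (m : ℤ) (h : HMNum.IsMu B (l ≫ i) x m) :
    (∀ j, ∀ χ ∈ Φ j, c j χ ≠ 0 → (n j : ℤ) * (-m) ≤ pair χ l) ∧
      ∃ j, ∃ χ ∈ Φ j, c j χ ≠ 0 ∧ (n j : ℤ) * (-m) = pair χ l := by
  classical
  obtain ⟨y₀, ⟨φ, hφx, hφy⟩, hfix, U, y, hy, hyU, H⟩ := h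
  replace hyU : Mem y₀ U := mem_iff.2 hyU
  let φp : P1 k ⟶ X := lift jA (toUnit _) ≫ φ.1
  let hh : kˣ → Pt G := fun b => gpt b ≫ l ≫ i
  have hcomp : ∀ r : k, pt r ≫ φp = lift (pt r ≫ jA) (𝟙 _) ≫ φ.1 := fun r => by
    simp only [φp, comp_lift_assoc, toUnit_unique (pt r ≫ toUnit (P1 k)) (𝟙 _)]
  have horb : ∀ b : kˣ, pt (b : k) ≫ φp = lift (hh b) x ≫ a.act := fun b => by
    have h1 := congrArg (lift (gpt b) (𝟙 _) ≫ ·) (Groth.L11.Magnet.orbit_eq φ)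
    simp only [lift_whiskerRight_assoc, lift_whiskerLeft_assoc, Category.id_comp] at h1
    rw [hφx] at h1
    rw [hcomp, pt_jA]
    exact h1.trans (Magnet.MonAct.lift_restrict_act _ _ _ _)
  have hzero : pt (0 : k) ≫ φp = y₀ := by
    rw [hcomp, pt_zero_jA, ← hφy, HMNum.limitPt_eq, toUnit_unique (toUnit (𝟙_ (Over (Bs k)))) (𝟙 _),
      Category.id_comp]
  have hevU : ∀ᶠ r in cofinite, Mem (pt r ≫ φp) U :=
    (regular_at (φp.left ⁻¹ᵁ U) (mem_comp.1 (by rw [hzero]; exact hyU)) 0).1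
  let va : kˣ → Pt B.V := fun b => lift (hh b) v ≫ B.lift.act
  have hva : ∀ b, va b ≫ B.π = pt (b : k) ≫ φp := fun b => by
    rw [horb, lift_act_π, hv]
  let F : k → k := fun r => if hr : r = 0 then 0 else ev (va (Units.mk0 r hr)) (B.π.left ⁻¹ᵁ U) y
  have hFb : ∀ b : kˣ, F b = ev (va b) (B.π.left ⁻¹ᵁ U) y := fun b => by
    simp only [F, dif_neg b.ne_zero, Units.mk0_val]
  have hF : ∀ᶠ r in cofinite, F r ≠ 0 := by
    filter_upwards [hevU, Groth.L18.Rat0.eventually_ne_zero] with r hr hr0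
    obtain ⟨b, rfl⟩ : ∃ b : kˣ, r = b := ⟨Units.mk0 r hr0, rfl⟩
    rw [hFb]
    exact ev_act_ne_zero B hy₁ hy (hh b) x v hv hxU (by rw [← horb]; exact hr) hne
  have hfixP : ∀ b : kˣ, lift (hh b) y₀ ≫ a.act = y₀ := fun b => by
    have := hfix (𝟙_ (Over (Bs k))) (𝟙 _) (gpt b)
    rwa [Category.id_comp] at this
  have hhmul : ∀ b b' : kˣ, hh (b * b') = hh b * hh b' := fun b b' => by
    show gpt (b * b') ≫ l ≫ i = _
    rw [map_mul, MonObj.mul_comp]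
  obtain ⟨v₀, hv₀, hv₁⟩ := exists_fibre_pt B hy y₀ hyU
  have hC : ∀ r : k, r ≠ 0 → ∃ C : k → k, Groth.L18.Rat0.IsRat C (r ^ (-m)) ∧
      ∀ᶠ z in cofinite, F (r * z) = C z * F z := by
    intro r hr
    obtain ⟨b, rfl⟩ : ∃ b : kˣ, r = b := ⟨Units.mk0 r hr, rfl⟩
    obtain ⟨c₀, -, hc₀⟩ := exists_cocycle_pt B hy hy
    let q : P1 k ⟶ G ⊗ X := lift (toUnit _ ≫ hh b) φp
    have hq : ∀ z : k, pt z ≫ q = lift (hh b) (pt z ≫ φp) := fun z => by
      simp only [q, comp_lift]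
      rw [← Category.assoc, toUnit_unique (pt z ≫ toUnit _) (𝟙 _), Category.id_comp]
    obtain ⟨hO0, hv0⟩ := hc₀ (hh b) y₀ v₀ hv₀ hyU (by rw [hfixP]; exact hyU)
    let W := q.left ⁻¹ᵁ (a.act.left ⁻¹ᵁ U ⊓ (snd G X).left ⁻¹ᵁ U)
    have hW0 : Mem (pt (0 : k)) W := by
      refine mem_comp.1 ?_
      rw [hq, hzero]
      exact hO0
    let cW : Γ((P1 k).left, W) := q.left.appLE _ W le_rfl c₀
    obtain ⟨-, hrat⟩ := regular_at W hW0 cW
    have hval : ev (pt (0 : k)) W cW = (b : k) ^ (-m) := by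
      rw [ev_appLE q le_rfl hW0, hq, hzero]
      have h1 := congrArg gs (H (𝟙_ (Over (Bs k))) (𝟙 _) (gpt b) v₀ (by rw [hv₀, Category.id_comp])
        (by rw [lift_act_π, hv₀, Category.id_comp]; exact hfixP b))
      rw [map_mul, gs_evalFn, gs_evalFn, hv₁, _root_.mul_one, unitOfPt_zpow] at h1
      have h2 : gs (Groth.L11.Magnet.MPts.char (gpt b) (Multiplicative.ofAdd (-m))) = (b : k) ^ (-m) :=
        (evT_mon ℤ (gpt b) _).symm.trans (evT_mon_gpt b (-m))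
      rw [hv0, hv₁, _root_.mul_one, h2] at h1
      exact h1
    refine ⟨_, hval ▸ hrat, ?_⟩
    filter_upwards [hevU, (Groth.L18.Rat0.tendsto_mul_left b.ne_zero).eventually hevU,
      Groth.L18.Rat0.eventually_ne_zero] with z hz hz' hz0
    obtain ⟨b', rfl⟩ : ∃ b' : kˣ, z = b' := ⟨Units.mk0 z hz0, rfl⟩
    have e : lift (hh b) (pt (b' : k) ≫ φp) ≫ a.act = pt ((b * b' : kˣ) : k) ≫ φp := by
      rw [horb, horb, hhmul, act_mul]
    obtain ⟨hO, h2⟩ := hc₀ (hh b) (pt (b' : k) ≫ φp) (va b') (hva b') hz (by rw [e, Units.val_mul]; exact hz')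
    rw [← Units.val_mul, hFb, hFb]
    show ev (lift (hh (b * b')) v ≫ B.lift.act) _ y = ev (pt (b' : k)) W cW * _
    rw [hhmul, act_mul]
    refine h2.trans (congrArg (· * _) ?_)
    rw [← hq] at hO ⊢
    exact (ev_appLE q le_rfl hO c₀).symm
  have key : ∀ (j : J) (s : Pt T) (U' : X.left.Opens) (y' : Γ(B.V.left, B.π.left ⁻¹ᵁ U')),
      y' ∈ B.atlas.chart U' → Mem (lift (s ≫ i) y₀ ≫ a.act) U' →
      ∃ (R : k → k) (r : k), Groth.L18.Rat0.IsRat R r ∧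
        (∀ᶠ z in cofinite, ∑ χ ∈ Φ j, (c j χ * χ s) * z ^ pair χ l = R z * F z ^ n j) ∧
        ((lift (s ≫ i) y₀ ≫ a.act).left.base star ∈ GLinSh.nonvanishing B.π (f j) →
          ev (lift (s ≫ i) v₀ ≫ B.lift.act) (B.π.left ⁻¹ᵁ U') y' ≠ 0 → r ≠ 0) := by
    intro j s U' y' hy' hs
    obtain ⟨cs, -, hcs⟩ := exists_cocycle_pt B hy hy'
    obtain ⟨cf, hcf, hcf0⟩ := exists_weight_coeff B (hf j) hy'
    let q : P1 k ⟶ G ⊗ X := lift (toUnit _ ≫ s ≫ i) φp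
    have hq : ∀ z : k, pt z ≫ q = lift (s ≫ i) (pt z ≫ φp) := fun z => by
      simp only [q, comp_lift]
      rw [← Category.assoc, toUnit_unique (pt z ≫ toUnit _) (𝟙 _), Category.id_comp]
    obtain ⟨hO0, hv0⟩ := hcs (s ≫ i) y₀ v₀ hv₀ hyU hs
    let W₁ := q.left ⁻¹ᵁ (a.act.left ⁻¹ᵁ U' ⊓ (snd G X).left ⁻¹ᵁ U)
    let W₂ := (q ≫ a.act).left ⁻¹ᵁ U'
    have hW₁ : Mem (pt (0 : k)) W₁ := mem_comp.1 (by rw [hq, hzero]; exact hO0)
    have hW₂ : Mem (pt (0 : k)) W₂ := mem_comp.1 (by rw [← Category.assoc, hq, hzero]; exact hs)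
    obtain ⟨-, hr₁⟩ := regular_at W₁ hW₁ (q.left.appLE _ W₁ le_rfl cs)
    obtain ⟨hev₂, hr₂⟩ := regular_at W₂ hW₂ ((q ≫ a.act).left.appLE U' W₂ le_rfl cf)
    refine ⟨_, _, hr₂.mul (hr₁.pow (n j)), ?_, fun hnv hne' => mul_ne_zero ?_ (pow_ne_zero _ ?_)⟩
    · filter_upwards [hevU, hev₂, Groth.L18.Rat0.eventually_ne_zero] with z hz hz₂ hz0
      obtain ⟨b, rfl⟩ : ∃ b : kˣ, z = b := ⟨Units.mk0 z hz0, rfl⟩
      have hs' : Mem (lift (s ≫ i) (pt (b : k) ≫ φp) ≫ a.act) U' := by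
        rw [← hq, Category.assoc]
        exact mem_comp.2 hz₂
      obtain ⟨hO, h2⟩ := hcs (s ≫ i) (pt (b : k) ≫ φp) (va b) (hva b) hz hs'
      have h3 : evT (lift (s ≫ i) (va b) ≫ B.lift.act) (f j) =
          ∑ χ ∈ Φ j, (c j χ * χ s) * (b : k) ^ pair χ l := by
        have e : lift (s ≫ i) (va b) ≫ B.lift.act = lift ((s * (gpt b ≫ l)) ≫ i) v ≫ B.lift.act := by
          rw [MonObj.mul_comp, act_mul, Category.assoc]
        rw [e, hc]
        exact Finset.sum_congr rfl fun χ hχ => by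
          rw [map_mul, pair_spec (hΦ j hχ), _root_.mul_assoc]
      rw [← h3, hcf _ _ (by rw [lift_act_π, hva]) hs', h2, ← hFb, _root_.mul_pow, ← _root_.mul_assoc]
      congr 2
      · refine Eq.trans ?_ (ev_appLE (q ≫ a.act) le_rfl hz₂ cf).symm
        rw [← hq, Category.assoc]
      · rw [← hq] at hO ⊢
        exact congrArg (· ^ n j) (ev_appLE q le_rfl hO cs).symm
    · rw [ev_appLE (q ≫ a.act) le_rfl hW₂, ← Category.assoc, hq, hzero]
      exact hcf0 _ hs hnv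
    · rw [ev_appLE q le_rfl hW₁, hq, hzero]
      rw [hv0, hv₁, _root_.mul_one] at hne'
      exact hne'
  have hone : lift ((1 : Pt T) ≫ i) y₀ ≫ a.act = y₀ := by rw [MonObj.one_comp, act_one]
  obtain ⟨j₀, hj₀⟩ := hcov (y₀.left.base star)
  obtain ⟨R, r, hR, hL, hr⟩ := key j₀ 1 U y hy (by rw [hone]; exact hyU)
  have hr0 : r ≠ 0 := hr (by rw [hone]; exact hj₀) (by rw [MonObj.one_comp, act_one, hv₁]; exact one_ne_zero)
  obtain ⟨⟨Uf, t, ht, hUf, eUf⟩, χ₀, hχ₀, hne₀, he₀⟩ :=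
    Groth.L18.Rat0.weight hF hC hR hr0 (Φ j₀) (fun χ => c j₀ χ * χ 1) (fun χ => pair χ l) hL
  refine ⟨fun j χ hχ hcχ => ?_, j₀, χ₀, hχ₀, ?_, he₀.symm⟩
  swap
  · simpa using hne₀
  by_contra hlt
  refine hcχ (Groth.L18.Rat0.coeff_eq_zero_of_grp (Φ j) (c j) (fun χ => pair χ l) (pair χ l) (fun s => ?_) hχ rfl)
  obtain ⟨U', y', hU', hy'⟩ := exists_chart B (lift (s ≫ i) y₀ ≫ a.act)
  obtain ⟨R', r', hR', hL', -⟩ := key j s U' y' hy' hU'
  exact Groth.L18.Rat0.le_weight (hn j₀) hUf eUf hR' (Φ j) _ _ hL' (not_le.1 hlt)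

/-- Along a split torus the numerical function is a maximum of finitely many linear functions. -/
theorem exists_functionals [IsAlgClosed k] [IsProper X.hom] (hT : Red.IsTorus T) (hB : HMNum.AmpleCover B) :
    ∃ (N : ℕ) (ℓ : Fin N → (Red.Gm (Bs k) ⟶ T) → ℚ),
      (∀ (j : Fin N) (l₁ l₂ : Red.Gm (Bs k) ⟶ T) [IsMonHom l₁] [IsMonHom l₂],
          ℓ j (l₁ * l₂) = ℓ j l₁ + ℓ j l₂) ∧
      ∀ x : Pt X, ∃ I : Finset (Fin N), ∀ (l : Red.Gm (Bs k) ⟶ T) [IsMonHom l] (m : ℤ),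
        HMNum.IsMu B (l ≫ i) x m ↔ ∃ j ∈ I, (m : ℚ) = ℓ j l ∧ ∀ j' ∈ I, ℓ j' l ≤ ℓ j l := by
  classical
  obtain ⟨M, _, ⟨e⟩⟩ := exists_split T hT
  haveI : IsAffine T.left := isAffine_of_split e
  obtain ⟨hX, hcov⟩ := hB
  choose n f hn hf hz U hU hUa using hcov
  obtain ⟨Z, hZ⟩ := hX.isCompact_univ.elim_finite_subcover (fun z => (U z : Set X.left)) (fun z => (U z).2)
    fun z _ => Set.mem_iUnion.2 ⟨z, (hU z).ge (hz z)⟩
  choose Φ hΦ hexp using fun j : ↥Z =>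
    exists_expansion B i hX (span_of_split e) (f j)
  let Idx := Σ j : ↥Z, ↥(Φ j)
  refine ⟨Fintype.card Idx, fun p l => -(pair ((Fintype.equivFin Idx).symm p).2.1 l : ℚ) /
    (n ((Fintype.equivFin Idx).symm p).1 : ℕ), fun p l₁ l₂ _ _ => ?_, fun x => ?_⟩
  · simp only [pair_mul (hΦ _ ((Fintype.equivFin Idx).symm p).2.2), Int.cast_add, neg_add, add_div]
  obtain ⟨U₀, y₁, hxU, hy₁⟩ := exists_chart B x
  obtain ⟨v, hv, hv1⟩ := exists_fibre_pt B hy₁ x hxU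
  choose c hc using fun j => hexp j v
  refine ⟨Finset.univ.filter fun p => c ((Fintype.equivFin Idx).symm p).1 ((Fintype.equivFin Idx).symm p).2.1 ≠ 0,
    fun l _ m => ?_⟩
  have main : ∀ ν : ℤ, HMNum.IsMu B (l ≫ i) x ν →
      (∀ j, ∀ χ ∈ Φ j, c j χ ≠ 0 → ((n j : ℕ) : ℤ) * (-ν) ≤ pair χ l) ∧
      ∃ j, ∃ χ ∈ Φ j, c j χ ≠ 0 ∧ ((n j : ℕ) : ℤ) * (-ν) = pair χ l := fun ν hν =>
    isMu_le_and_attained B i (fun j : ↥Z => n j) (fun j => f j) (fun j => hn j) (fun j => hf j)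
      (fun z => by
        obtain ⟨j, hj, hzj⟩ := Set.mem_iUnion₂.1 (hZ (Set.mem_univ z))
        exact ⟨⟨j, hj⟩, (hU j).le hzj⟩)
      Φ hΦ x v hv hy₁ hxU (hv1 ▸ one_ne_zero) c hc l ν hν
  have hle : ∀ (j : ↥Z) (P ν : ℤ), -(P : ℚ) / (n j : ℕ) ≤ (ν : ℚ) ↔ ((n j : ℕ) : ℤ) * (-ν) ≤ P := by
    intro j P ν
    rw [div_le_iff₀ (by exact_mod_cast hn j), neg_le, ← @Int.cast_le ℚ]
    push_cast
    constructor <;> intro h <;> linarith
  have heq : ∀ (j : ↥Z) (P ν : ℤ), -(P : ℚ) / (n j : ℕ) = (ν : ℚ) ↔ ((n j : ℕ) : ℤ) * (-ν) = P := by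
    intro j P ν
    rw [div_eq_iff (by exact_mod_cast (show 0 < n j from hn j).ne'), ← @Int.cast_inj ℚ]
    push_cast
    constructor <;> intro h <;> linarith
  have main' : ∀ ν : ℤ, HMNum.IsMu B (l ≫ i) x ν →
      ∃ p ∈ Finset.univ.filter fun p => c ((Fintype.equivFin Idx).symm p).1 ((Fintype.equivFin Idx).symm p).2.1 ≠ 0,
        (ν : ℚ) = -(pair ((Fintype.equivFin Idx).symm p).2.1 l : ℚ) / (n ((Fintype.equivFin Idx).symm p).1 : ℕ) ∧
          ∀ p' ∈ Finset.univ.filter fun p => c ((Fintype.equivFin Idx).symm p).1 ((Fintype.equivFin Idx).symm p).2.1 ≠ 0,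
            -(pair ((Fintype.equivFin Idx).symm p').2.1 l : ℚ) / (n ((Fintype.equivFin Idx).symm p').1 : ℕ) ≤ (ν : ℚ) := by
    intro ν hν
    obtain ⟨h1, j, χ, hχ, hne, h2⟩ := main ν hν
    refine ⟨Fintype.equivFin Idx ⟨j, χ, hχ⟩, ?_, ?_, fun p' hp' => ?_⟩
    · rw [Finset.mem_filter, Equiv.symm_apply_apply]
      exact ⟨Finset.mem_univ _, hne⟩
    · rw [Equiv.symm_apply_apply]
      exact ((heq j _ ν).2 h2).symm
    · simp only [Finset.mem_filter, Finset.mem_univ, true_and] at hp'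
      exact (hle _ _ ν).2 (h1 _ _ ((Fintype.equivFin Idx).symm p').2.2 hp')
  constructor
  · intro hm
    obtain ⟨p, hp, he, hall⟩ := main' m hm
    exact ⟨p, hp, he, fun p' hp' => (hall p' hp').trans_eq he⟩
  · rintro ⟨p, hp, he, hall⟩
    obtain ⟨ν, hν⟩ := exists_isMu B (l ≫ i) x
    obtain ⟨q, hq, he', hall'⟩ := main' ν hν
    have : (m : ℚ) = ν := le_antisymm (he.trans_le (hall' p hp)) (he'.trans_le ((hall q hq).trans_eq he.symm))
    rw [show m = ν from by exact_mod_cast this]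
    exact hν

/-- The numerical function is subadditive along a torus. -/
theorem isMu_mul_le [IsAlgClosed k] [IsProper X.hom] (hT : Red.IsTorus T) (hB : HMNum.AmpleCover B) (x : Pt X)
    (l₁ l₂ : Red.Gm (Bs k) ⟶ T) [IsMonHom l₁] [IsMonHom l₂] [IsMonHom ((l₁ * l₂) ≫ i)] (m₁ m₂ m : ℤ)
    (h₁ : HMNum.IsMu B (l₁ ≫ i) x m₁) (h₂ : HMNum.IsMu B (l₂ ≫ i) x m₂)
    (h : HMNum.IsMu B ((l₁ * l₂) ≫ i) x m) : m ≤ m₁ + m₂ := by
  obtain ⟨M, _, ⟨e⟩⟩ := exists_split T hT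
  haveI : IsMonHom (l₁ * l₂) := by
    refine ⟨?_, ?_⟩
    · rw [MonObj.comp_mul, IsMonHom.one_hom, IsMonHom.one_hom]
      have h1 : (η[T] : 𝟙_ (Over (Bs k)) ⟶ T) = 1 := by
        rw [Hom.one_def, toUnit_unique (toUnit (𝟙_ (Over (Bs k)))) (𝟙 _), Category.id_comp]
      rw [h1, _root_.one_mul]
    · have hμ : ∀ (N : Over (Bs k)) [MonObj N], (μ[N] : N ⊗ N ⟶ N) = fst N N * snd N N := fun N _ => by
        rw [Hom.mul_def, lift_fst_snd, Category.id_comp]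
      rw [hμ T, MonObj.comp_mul, MonObj.comp_mul, tensorHom_fst, tensorHom_snd, hμ (Red.Gm (Bs k)),
        MonObj.mul_comp, MonObj.mul_comp, MonObj.comp_mul, MonObj.comp_mul]
      simp only [← _root_.mul_assoc]
      congr 1
      simp only [_root_.mul_assoc]
      congr 1
      exact comm_of_split e _ _
  obtain ⟨N, ℓ, hadd, hI⟩ := exists_functionals B i hT hB
  obtain ⟨I, hI⟩ := hI x
  obtain ⟨j₁, -, e₁, hall₁⟩ := (hI l₁ m₁).1 h₁
  obtain ⟨j₂, -, e₂, hall₂⟩ := (hI l₂ m₂).1 h₂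
  obtain ⟨j, hj, e₃, -⟩ := (hI (l₁ * l₂) m).1 h
  rw [hadd] at e₃
  have : (m : ℚ) ≤ (m₁ + m₂ : ℤ) := by
    rw [Int.cast_add, e₃, e₁, e₂]
    exact add_le_add (hall₁ j hj) (hall₂ j hj)
  exact_mod_cast this

end Groth.L18.MuTorus
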