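import Groth.Agent.L18.GIT.TorusChars
import Groth.Agent.L18.ExtendCodimOne
import Groth.Agent.L11.Magnet.Face
import Groth.Agent.L11.Magnet.Dom
import Groth.Agent.L18.GIT.MuConj
import Mathlib.RingTheory.Valuation.ValuationRing
import Mathlib.Algebra.Polynomial.FieldDivision

/-!
# Orbit maps of one-parameter subgroups on the affine line
-/

set_option autoImplicit false
universe u

open CategoryTheory CategoryTheory.Limits MonoidalCategory CartesianMonoidalCategory MonObj AlgebraicGeometry Opposite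
open Filter

set_option backward.isDefEq.respectTransparency false
set_option backward.isDefEq.respectTransparency.types false

noncomputable section

namespace Groth.L18.AffLine

open Groth.L18.KEval Groth.L18.TorusChars

variable {k : Type u} [Field k]

variable (k) in
/-- The affine line as the spectrum of the polynomial ring. -/
abbrev P1 : Over (Bs k) :=
  Groth.L11.Magnet.chartObj (C := Polynomial k) (𝟙 (Bs k)) (Polynomial.C : k →+* Polynomial k)

/-- Polynomials as functions. -/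
abbrev gen : Polynomial k →+* Γ((P1 k).left, ⊤) := (Scheme.ΓSpecIso (CommRingCat.of (Polynomial k))).inv.hom

theorem gen_C (c : k) : gen (Polynomial.C c) = const (P1 k) c := by
  exact (Groth.L11.Magnet.appTop_specMap Polynomial.C c).symm.trans
    (congrArg (fun φ : Spec (CommRingCat.of (Polynomial k)) ⟶ Bs k =>
      φ.appTop ((Scheme.ΓSpecIso (CommRingCat.of k)).inv c)) (Category.comp_id _).symm)

theorem gen_surjective : Function.Surjective (gen (k := k)) := fun f =>
  ⟨(Scheme.ΓSpecIso (CommRingCat.of (Polynomial k))).hom f, by simp⟩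

/-- The point with coordinate `a`. -/
def pt (a : k) : Pt (P1 k) :=
  Over.homMk (Spec.map (CommRingCat.ofHom (Polynomial.evalRingHom a))) (by
    show Spec.map _ ≫ Spec.map (CommRingCat.ofHom Polynomial.C) ≫ 𝟙 (Bs k) = 𝟙 (Bs k)
    rw [Category.comp_id, ← Spec.map_comp, ← Spec.map_id, ← CommRingCat.ofHom_comp]
    congr 1
    ext r
    simp)

theorem evT_gen (a : k) (q : Polynomial k) : evT (pt a) (gen q) = q.eval a := by
  show gs ((pt a).left.appLE ⊤ ((pt a).left ⁻¹ᵁ ⊤) le_rfl (gen q)) = _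
  rw [Scheme.Hom.appLE_eq_app]
  refine (congrArg gs (Groth.L11.Magnet.appTop_specMap (Polynomial.evalRingHom a) _)).trans ?_
  simp [gs]

theorem mem_basicOpen (a : k) (q : Polynomial k) : Mem (pt a) ((P1 k).left.basicOpen (gen q)) ↔ q.eval a ≠ 0 := by
  rw [← ev_ne_zero_iff (mem_top (pt a)), ev_eq (mem_top (pt a))]
  exact iff_of_eq (congrArg (· ≠ 0) (evT_gen a q))

/-- Functions near the origin are rational and regular there. -/
theorem regular_at (W : (P1 k).left.Opens) (h0 : Mem (pt (0 : k)) W) (f : Γ((P1 k).left, W)) :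
    (∀ᶠ a in cofinite, Mem (pt a) W) ∧
      Groth.L18.Rat0.IsRat (fun a => ev (pt a) W f) (ev (pt (0 : k)) W f) := by
  haveI : IsAffine (P1 k).left := inferInstanceAs (IsAffine (Spec (CommRingCat.of (Polynomial k))))
  obtain ⟨g, hgW, hg0⟩ := (isAffineOpen_top (P1 k).left).exists_basicOpen_le (V := W) ⟨_, h0⟩ trivial
  obtain ⟨q, rfl⟩ := gen_surjective g
  have hq0 : q.eval 0 ≠ 0 := (mem_basicOpen 0 q).1 hg0
  have hloc := (isAffineOpen_top (P1 k).left).isLocalization_basicOpen (gen q)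
  obtain ⟨n, P₀, hP⟩ := IsLocalization.Away.surj (gen q)
    ((P1 k).left.presheaf.map (homOfLE hgW).op f)
  obtain ⟨P, rfl⟩ := gen_surjective P₀
  have key : ∀ a : k, q.eval a ≠ 0 → ev (pt a) W f * q.eval a ^ n = P.eval a := fun a ha => by
    have hmem := (mem_basicOpen a q).2 ha
    have h1 := congrArg (ev (pt a) ((P1 k).left.basicOpen (gen q))) hP
    rw [ev_mul hmem, ev_pow hmem, ev_res hgW hmem] at h1
    have h2 : ∀ r : Polynomial k, ev (pt a) ((P1 k).left.basicOpen (gen q))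
        (algebraMap Γ((P1 k).left, ⊤) Γ((P1 k).left, (P1 k).left.basicOpen (gen q)) (gen r)) = r.eval a := fun r =>
      (ev_res ((P1 k).left.basicOpen_le (gen q)) hmem (gen r)).trans ((ev_eq (mem_top _) _).trans (evT_gen a r))
    rw [h2, h2] at h1
    exact h1
  refine ⟨?_, Groth.L18.Rat0.IsRat.of_eval (P * q) (q ^ (n + 1)) (by simpa using pow_ne_zero (n + 1) hq0) fun a ha => ?_⟩
  · filter_upwards [Groth.L18.Rat0.eventually_eval_ne_zero (Q := q) (fun h => hq0 (by simp [h]))] with a ha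
    exact ((mem_basicOpen a q).2 ha).mono hgW
  · have ha' : q.eval a ≠ 0 := fun h => ha (by simp [h])
    rw [eq_div_iff ha, Polynomial.eval_pow, Polynomial.eval_mul, pow_succ, ← key a ha']
    ring

/-- The exponent `1` of the magnet. -/
abbrev pOne : ↥HMNum.plus := ⟨1, (HMNum.mem_plus_iff 1).2 zero_le_one⟩

/-- The monomials as a homomorphism. -/
def monHom : Multiplicative ↥HMNum.plus →* Γ((P1 k).left, ⊤) where
  toFun m := gen (Polynomial.X ^ (m.toAdd : ℤ).toNat)
  map_one' := by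
    show gen (Polynomial.X ^ 0) = 1
    rw [pow_zero]
    exact map_one gen
  map_mul' m m' := by
    rw [← map_mul, ← pow_add]
    congr 2
    have h1 := (HMNum.mem_plus_iff _).1 m.toAdd.2
    have h2 := (HMNum.mem_plus_iff _).1 m'.toAdd.2
    show ((m.toAdd : ℤ) + (m'.toAdd : ℤ)).toNat = _
    omega

/-- The affine line of the prelude, from the polynomial model. -/
def jA : P1 k ⟶ HMNum.A1 (Bs k) := Groth.L11.Magnet.MPts.pt monHom

theorem gs_char_pt_jA (a : k) (n : ↥HMNum.plus) :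
    gs (Groth.L11.Magnet.MPts.char (pt a ≫ jA) (Multiplicative.ofAdd n)) = a ^ (n : ℤ).toNat := by
  rw [Groth.L11.Magnet.MPts.char_comp, jA, Groth.L11.Magnet.MPts.char_pt]
  show gs ((pt a).left.appTop (gen _)) = _
  refine (congrArg gs (Groth.L11.Magnet.appTop_specMap (Polynomial.evalRingHom a) _)).trans ?_
  simp [gs]

theorem pt_jA (a : kˣ) : pt (a : k) ≫ jA = gpt a ≫ HMNum.incl (Bs k) := by
  refine Groth.L11.Magnet.MPts.char_injective (MonoidHom.ext fun n => gs_injective ?_)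
  refine (gs_char_pt_jA (a : k) n.toAdd).trans ?_
  rw [Groth.L11.Magnet.MPts.char_map]
  refine Eq.trans ?_ (evT_mon _ (gpt a) _)
  refine Eq.trans ?_ (evT_mon_gpt a (n.toAdd : ℤ)).symm
  rw [← zpow_natCast, Int.toNat_of_nonneg ((HMNum.mem_plus_iff _).1 n.toAdd.2)]

theorem pt_zero_jA : pt (0 : k) ≫ jA = HMNum.origin (Bs k) := by
  refine Groth.L11.Magnet.MPts.char_injective (MonoidHom.ext fun n => gs_injective ?_)
  refine (gs_char_pt_jA (0 : k) n.toAdd).trans ?_
  by_cases hn : (n.toAdd : ℤ) = 0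
  · have h1 : n = 1 := Multiplicative.toAdd.injective (Subtype.ext hn)
    subst h1
    rw [(Groth.L11.Magnet.MPts.char (HMNum.origin (Bs k))).map_one, (gs (k := k)).map_one]
    exact pow_zero 0
  · rw [HMNum.origin]
    erw [Groth.L11.Magnet.char_faceMap_of_not_mem HMNum.isFace_bot
      η[Magnet.AMonS (Bs k) ↥(⊥ : AddSubmonoid ℤ)] n.toAdd (by simpa [AddSubmonoid.mem_bot] using hn)]
    rw [map_zero, zero_pow]
    have := (HMNum.mem_plus_iff _).1 n.toAdd.2
    omega

/-- A homomorphism from polynomials to global functions as a morphism to the model. -/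
def toP1 : HMNum.A1 (Bs k) ⟶ P1 k :=
  Over.homMk (ΓSpec.adjunction.homEquiv (HMNum.A1 (Bs k)).left (op (CommRingCat.of (Polynomial k)))
    (CommRingCat.ofHom (Polynomial.eval₂RingHom (const (HMNum.A1 (Bs k)))
      (mon ↥HMNum.plus (Multiplicative.ofAdd pOne)))).op) (by
    show _ ≫ Spec.map (CommRingCat.ofHom Polynomial.C) ≫ 𝟙 (Bs k) = _
    rw [Category.comp_id]
    refine Groth.L11.Magnet.ringHom_of_hom_ext fun r => ?_
    rw [GmPts.appTop_comp_apply, Groth.L11.Magnet.appTop_specMap]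
    refine (congrArg (fun ψ : CommRingCat.of (Polynomial k) ⟶ Γ((HMNum.A1 (Bs k)).left, ⊤) =>
      ψ.hom (Polynomial.C r)) (ΓSpecIso_inv_ΓSpec_adjunction_homEquiv _)).trans ?_
    exact Polynomial.eval₂_C _ _)

theorem toP1_appTop (q : Polynomial k) : (toP1 (k := k)).left.appTop (gen q) =
    Polynomial.eval₂RingHom (const (HMNum.A1 (Bs k))) (mon ↥HMNum.plus (Multiplicative.ofAdd pOne)) q :=
  congrArg (fun ψ : CommRingCat.of (Polynomial k) ⟶ Γ((HMNum.A1 (Bs k)).left, ⊤) => ψ.hom q)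
    (ΓSpecIso_inv_ΓSpec_adjunction_homEquiv _)

theorem incl_toP1_X : (HMNum.incl (Bs k) ≫ toP1).left.appTop (gen Polynomial.X) =
    Red.gmFn (𝟙 (Red.Gm (Bs k))) := by
  rw [Over.comp_left, GmPts.appTop_comp_apply, toP1_appTop, Polynomial.coe_eval₂RingHom, Polynomial.eval₂_X,
    ← Groth.L11.Magnet.MPts.char_comp, Category.comp_id, gmFn_eq_char]
  refine (congrArg (fun z : Red.Gm (Bs k) ⟶ HMNum.A1 (Bs k) =>
    Groth.L11.Magnet.MPts.char z (Multiplicative.ofAdd pOne)) (Category.id_comp (HMNum.incl (Bs k))).symm).trans ?_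
  rw [Groth.L11.Magnet.MPts.char_map]
  rfl

variable (k) in
/-- The punctured line. -/
abbrev D₀ : (P1 k).left.Opens := (P1 k).left.basicOpen (gen Polynomial.X)

variable (k) in
/-- The punctured line over the base. -/
abbrev DOv : Over (Bs k) := Over.mk ((D₀ k).ι ≫ (P1 k).hom)

/-- The inclusion of the punctured line. -/
abbrev incD : DOv k ⟶ P1 k := Over.homMk (D₀ k).ι rfl

theorem isUnit_coord : IsUnit ((incD (k := k)).left.appTop (gen Polynomial.X)) := by
  have h : (D₀ k).toScheme.basicOpen ((D₀ k).ι.appTop (gen Polynomial.X)) = ⊤ := by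
    rw [← Scheme.Hom.preimage_basicOpen_top]
    exact (D₀ k).ι_preimage_self
  have h1 := RingedSpace.isUnit_res_basicOpen (X := (D₀ k).toScheme.toRingedSpace) ((D₀ k).ι.appTop (gen Polynomial.X))
  have e : ∀ (U : (D₀ k).toScheme.Opens) (hU : U = ⊤),
      IsUnit ((D₀ k).toScheme.presheaf.map (homOfLE (le_top : U ≤ ⊤)).op ((D₀ k).ι.appTop (gen Polynomial.X))) →
        IsUnit ((D₀ k).ι.appTop (gen Polynomial.X)) := by
    rintro U rfl hu
    have h2 : (homOfLE le_top : (⊤ : (D₀ k).toScheme.Opens) ⟶ ⊤) = 𝟙 _ := rfl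
    rw [h2, op_id, CategoryTheory.Functor.map_id] at hu
    exact hu
  exact e _ h h1

/-- The coordinate of the punctured line as a point of the multiplicative group. -/
def gmD : DOv k ⟶ Red.Gm (Bs k) := GmPts.ptOfUnit (isUnit_coord (k := k)).unit

theorem exists_factor_incl : ∃ b : Red.Gm (Bs k) ⟶ DOv k,
    b ≫ incD = HMNum.incl (Bs k) ≫ toP1 ∧ b ≫ gmD = 𝟙 _ := by
  let q := HMNum.incl (Bs k) ≫ toP1
  have hq : q.left ⁻¹ᵁ D₀ k = ⊤ := by
    rw [D₀, Scheme.Hom.preimage_basicOpen_top]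
    refine Scheme.basicOpen_of_isUnit _ ?_
    rw [incl_toP1_X]
    exact GmPts.isUnit_gmFn _
  have hr : Set.range q.left ⊆ Set.range (D₀ k).ι := by
    rintro _ ⟨z, rfl⟩
    rw [Scheme.Opens.range_ι]
    exact hq.ge (Set.mem_univ z)
  let b : Red.Gm (Bs k) ⟶ DOv k := Over.homMk (IsOpenImmersion.lift (D₀ k).ι q.left hr) (by
    show _ ≫ (D₀ k).ι ≫ (P1 k).hom = _
    rw [IsOpenImmersion.lift_fac_assoc]
    exact Over.w q)
  have hb : b ≫ incD = q := Over.OverMorphism.ext (IsOpenImmersion.lift_fac _ _ _)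
  refine ⟨b, hb, GmPts.gmFn_injective ?_⟩
  show Red.gmFn (b ≫ gmD) = Red.gmFn (𝟙 _)
  rw [← incl_toP1_X, GmPts.gmFn_comp, gmD, GmPts.gmFn_ptOfUnit, IsUnit.unit_spec, ← GmPts.appTop_comp_apply,
    ← Over.comp_left, hb]

theorem isPrincipalIdealRing_localization (P : Ideal (Polynomial k)) [P.IsPrime] :
    IsPrincipalIdealRing (Localization.AtPrime P) := ⟨fun J => by
  rw [← IsLocalization.map_under P.primeCompl (Localization.AtPrime P) J]
  obtain ⟨g, hg⟩ := IsPrincipalIdealRing.principal (Ideal.under (Polynomial k) J)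
  refine ⟨algebraMap _ _ g, ?_⟩
  show Ideal.map (algebraMap (Polynomial k) (Localization.AtPrime P)) _ = Ideal.span _
  rw [hg, Ideal.submodule_span_eq, Ideal.map_span, Set.image_singleton]⟩

theorem valuationRing_stalk (y : (P1 k).left) :
    ∃ (_ : IsDomain ((P1 k).left.presheaf.stalk y)), ValuationRing ((P1 k).left.presheaf.stalk y) := by
  let R : CommRingCat.{u} := CommRingCat.of (Polynomial k)
  let e : (Spec R).presheaf.stalk y ≃+* Localization.AtPrime (y : PrimeSpectrum (Polynomial k)).asIdeal :=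
    (Spec.stalkIso R y).commRingCatIsoToRingEquiv
  haveI : IsDomain (Localization.AtPrime (y : PrimeSpectrum (Polynomial k)).asIdeal) :=
    IsLocalization.isDomain_localization (Ideal.primeCompl_le_nonZeroDivisors _)
  haveI := isPrincipalIdealRing_localization (y : PrimeSpectrum (Polynomial k)).asIdeal
  haveI : IsDomain ((P1 k).left.presheaf.stalk y) := e.toMulEquiv.isDomain _
  haveI : IsBezout ((P1 k).left.presheaf.stalk y) := e.symm.surjective.isBezout e.symm.toRingHom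
  exact ⟨inferInstance, inferInstance⟩

variable {G X : Over (Bs k)} [GrpObj G] {a : AlgGrp.Action G X}

/-- Orbit maps extend to the affine line. -/
theorem exists_attr [IsProper X.hom] (l : Red.Gm (Bs k) ⟶ G) [IsMonHom l] (x : Pt X) :
    ∃ φ : (HMNum.attrPlus a l).obj (op (𝟙_ (Over (Bs k)))),
      (Magnet.attrToX (HMNum.gmAct a l) HMNum.plus).app (op (𝟙_ (Over (Bs k)))) φ = x := by
  let o : DOv k ⟶ X := lift (gmD ≫ l) (toUnit _ ≫ x) ≫ a.act
  haveI : IsDomain (Polynomial k) := inferInstance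
  haveI : IsIntegral (P1 k).left := inferInstanceAs (IsIntegral (Spec (CommRingCat.of (Polynomial k))))
  haveI : IsLocallyNoetherian (P1 k).left :=
    inferInstanceAs (IsLocallyNoetherian (Spec (CommRingCat.of (Polynomial k))))
  have hD : Dense (D₀ k : Set (P1 k).left) := (D₀ k).2.dense ⟨_, (mem_basicOpen (1 : k) Polynomial.X).2 (by simp)⟩
  obtain ⟨U, hDU, g, hg, hgo, hU⟩ := Groth.L18.Codim1.exists_extension_proper X.hom (P1 k).hom (D₀ k) hD o.left
    (Over.w o) Set.univ fun y _ => valuationRing_stalk y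
  obtain rfl : U = ⊤ := top_le_iff.1 fun y _ => hU y trivial
  let h₀ : P1 k ⟶ X := Over.homMk ((P1 k).left.topIso.inv ≫ g) (by
    rw [Category.assoc, hg, ← Category.assoc]
    erw [(P1 k).left.topIso.inv_hom_id]
    exact Category.id_comp _)
  have hh : incD ≫ h₀ = o := by
    refine Over.OverMorphism.ext ?_
    show (D₀ k).ι ≫ (P1 k).left.topIso.inv ≫ g = o.left
    rw [← hgo, ← Category.assoc]
    congr 1
    rw [← cancel_mono (Scheme.Opens.ι (⊤ : (P1 k).left.Opens)), Category.assoc, Scheme.homOfLE_ι]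
    exact (congrArg ((D₀ k).ι ≫ ·) (P1 k).left.topIso.inv_hom_id).trans (Category.comp_id _)
  let φ₀ : HMNum.A1 (Bs k) ⟶ X := toP1 ≫ h₀
  obtain ⟨b, hb, hbg⟩ := exists_factor_incl (k := k)
  have horb : ∀ {W : Over (Bs k)} (g : W ⟶ Red.Gm (Bs k)),
      g ≫ HMNum.incl (Bs k) ≫ φ₀ = lift (g ≫ l) (toUnit W ≫ x) ≫ a.act := by
    intro W g
    show g ≫ HMNum.incl (Bs k) ≫ toP1 ≫ h₀ = _
    rw [← Category.assoc (HMNum.incl (Bs k)), ← hb, Category.assoc, hh]
    show g ≫ b ≫ lift (gmD ≫ l) (toUnit _ ≫ x) ≫ a.act = _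
    rw [← Category.assoc b, comp_lift, ← Category.assoc b gmD, hbg, Category.id_comp, comp_lift_assoc,
      ← Category.assoc b, ← Category.assoc g (b ≫ toUnit _), toUnit_unique (g ≫ b ≫ toUnit _) (toUnit W)]
  let ψ₁ : HMNum.A1 (Bs k) ⊗ Red.Gm (Bs k) ⟶ X :=
    ((snd _ _ ≫ HMNum.incl (Bs k)) * fst _ _) ≫ φ₀
  let ψ₂ : HMNum.A1 (Bs k) ⊗ Red.Gm (Bs k) ⟶ X :=
    lift (snd _ _ ≫ l) (fst _ _ ≫ φ₀) ≫ a.act
  have e1 : ∀ {W : Over (Bs k)} (b : W ⟶ HMNum.A1 (Bs k)) (g : W ⟶ Red.Gm (Bs k)),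
      lift b g ≫ ψ₁ = ((g ≫ HMNum.incl (Bs k)) * b) ≫ φ₀ := fun b g => by
    rw [← Category.assoc, MonObj.comp_mul, lift_snd_assoc, lift_fst]
  have e2 : ∀ {W : Over (Bs k)} (b : W ⟶ HMNum.A1 (Bs k)) (g : W ⟶ Red.Gm (Bs k)),
      lift b g ≫ ψ₂ = lift (g ≫ l) (b ≫ φ₀) ≫ a.act := fun b g => by
    rw [comp_lift_assoc, lift_snd_assoc, lift_fst_assoc]
  have hψ : ψ₁ = ψ₂ := by
    refine Groth.L11.Magnet.cancel_map (M := ℤ) HMNum.plus.subtype (fun _ _ e => Subtype.ext e) ?_
    apply Magnet.hom_ext_lift₂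
    intro W g' g
    rw [lift_whiskerRight_assoc, lift_whiskerRight_assoc, e1, e2]
    rw [← MonObj.mul_comp, Category.assoc, horb, Category.assoc g' _ φ₀, horb,
      ← Groth.L18.MuConj.act_mul, MonObj.mul_comp]
  refine ⟨⟨fst _ _ ≫ φ₀, (Magnet.MonAct.mem_eqvHom_iff _).2 fun W g b t => ?_⟩, ?_⟩
  · have hψ' := congrArg (lift b g ≫ ·) hψ
    simp only [e1, e2] at hψ'
    rw [Magnet.subAct, Magnet.MonAct.lift_restrict_act, Magnet.MonAct.lift_regular_act, lift_fst_assoc,
      lift_fst_assoc, Magnet.MonAct.lift_restrict_act, Magnet.MonAct.ofAction_act]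
    exact hψ'
  · show lift (toUnit _ ≫ η[HMNum.A1 (Bs k)]) (𝟙 _) ≫ fst _ _ ≫ φ₀ = x
    rw [lift_fst_assoc, toUnit_unique (toUnit (𝟙_ (Over (Bs k)))) (𝟙 _), Category.id_comp,
      ← IsMonHom.one_hom (HMNum.incl (Bs k)), Category.assoc, horb, IsMonHom.one_hom]
    have h1 : (η[G] : 𝟙_ (Over (Bs k)) ⟶ G) = 1 := by
      rw [Hom.one_def, toUnit_unique (toUnit (𝟙_ (Over (Bs k)))) (𝟙 _), Category.id_comp]
    rw [h1, Groth.L18.MuConj.act_one, toUnit_unique (toUnit (𝟙_ (Over (Bs k)))) (𝟙 _), Category.id_comp]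

end Groth.L18.AffLine
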