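import Mathlib.LinearAlgebra.FiniteDimensional.Basic
import Mathlib.LinearAlgebra.Dual.Lemmas
import Mathlib.LinearAlgebra.LinearIndependent.Lemmas
import Mathlib.Data.Fin.Tuple.Sort
import Mathlib.Algebra.Order.BigOperators.Group.Finset
import Mathlib.Data.Rat.Lemmas
import Mathlib.Data.Multiset.Replicate
import Mathlib.Tactic.Ring
import Mathlib.Tactic.Linarith
import Mathlib.Tactic.Positivity
import Mathlib.Tactic.FieldSimp

/-!
# The cone of bases of a configuration of vectors
-/

set_option autoImplicit false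

universe u v

namespace Groth.L18.BasePolytope

open Finset

/-- Farkas' alternative for a finite family. -/
theorem farkas {R : Type*} [Field R] [LinearOrder R] [IsStrictOrderedRing R] {W : Type v} [AddCommGroup W] [Module R W]
    {ι : Type u} (s : Finset ι) : ∀ (a : ι → W) (b : W),
      (∃ c : ι → R, (∀ i, 0 ≤ c i) ∧ ∑ i ∈ s, c i • a i = b) ∨
        ∃ f : W →ₗ[R] R, (∀ i ∈ s, 0 ≤ f (a i)) ∧ f b < 0 := by
  classical
  induction s using Finset.induction_on with
  | empty =>
    intro a b
    by_cases hb : b = 0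
    · exact .inl ⟨fun _ => 0, fun _ => le_rfl, by simp [hb]⟩
    · obtain ⟨f, hf⟩ : ∃ f : W →ₗ[R] R, f b ≠ 0 := by
        by_contra h
        push Not at h
        exact hb ((Module.forall_dual_apply_eq_zero_iff R b).1 h)
      refine .inr ⟨(-(f b)⁻¹) • f, by simp, ?_⟩
      simp [inv_mul_cancel₀ hf]
  | @insert e s he ih =>
    intro a b
    rcases ih a b with ⟨c, hc0, hc⟩ | ⟨f, hf, hfb⟩
    · refine .inl ⟨Function.update c e 0, fun i => ?_, ?_⟩
      · rcases eq_or_ne i e with rfl | h
        · simp
        · simp [h, hc0]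
      · rw [sum_insert he, Function.update_self, zero_smul, zero_add, ← hc]
        exact sum_congr rfl fun i hi => by rw [Function.update_of_ne (ne_of_mem_of_not_mem hi he)]
    by_cases hfe : 0 ≤ f (a e)
    · exact .inr ⟨f, fun i hi => (mem_insert.1 hi).elim (fun h => h ▸ hfe) (hf i), hfb⟩
    push Not at hfe
    let p : W →ₗ[R] W := LinearMap.id - ((f (a e))⁻¹ • f).smulRight (a e)
    have hp : ∀ w, p w = w - ((f (a e))⁻¹ * f w) • a e := fun w => rfl
    rcases ih (fun i => p (a i)) (p b) with ⟨c, hc0, hc⟩ | ⟨g, hg, hgb⟩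
    · let l : R := (f (a e))⁻¹ * (f b - ∑ i ∈ s, c i * f (a i))
      have hl : 0 ≤ l := by
        refine mul_nonneg_of_nonpos_of_nonpos (inv_nonpos.2 hfe.le) ?_
        have : 0 ≤ ∑ i ∈ s, c i * f (a i) := sum_nonneg fun i hi => mul_nonneg (hc0 i) (hf i hi)
        linarith
      refine .inl ⟨Function.update c e l, fun i => ?_, ?_⟩
      · rcases eq_or_ne i e with rfl | h
        · simpa using hl
        · simp [h, hc0]
      · rw [sum_insert he, Function.update_self]
        rw [sum_congr rfl (g := fun i => c i • a i) fun i hi => by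
          rw [Function.update_of_ne (ne_of_mem_of_not_mem hi he)]]
        simp only [hp, smul_sub, sum_sub_distrib, smul_smul, ← sum_smul] at hc
        have h2 : ∑ i ∈ s, c i * ((f (a e))⁻¹ * f (a i)) = (f (a e))⁻¹ * ∑ i ∈ s, c i * f (a i) := by
          rw [mul_sum]
          exact sum_congr rfl fun i _ => by ring
        rw [h2, sub_eq_iff_eq_add] at hc
        rw [hc]
        simp only [l, mul_sub, sub_smul]
        abel
    · refine .inr ⟨g ∘ₗ p, fun i hi => ?_, hgb⟩
      rcases mem_insert.1 hi with rfl | h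
      · simp [hp, inv_mul_cancel₀ hfe.ne]
      · exact hg i h

variable {K : Type u} [Field K] {V : Type v} [AddCommGroup V] [Module K V] [FiniteDimensional K V]

/-- The rank of a subset of a configuration. -/
noncomputable def rk {ι : Type*} (x : ι → V) (A : Set ι) : ℕ := Module.finrank K (Submodule.span K (x '' A))

/-- Abel summation. -/
theorem abel_sum_ge (c a : ℕ → ℚ) (hc : Monotone c) (h : ∀ k, ∑ j ∈ range k, a j ≤ 0) :
    ∀ k, c k * (∑ j ∈ range k, a j) ≤ ∑ j ∈ range k, c j * a j := by
  intro k
  induction k with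
  | zero => simp
  | succ k ih =>
    have h1 : c (k + 1) * (∑ j ∈ range (k + 1), a j) ≤ c k * (∑ j ∈ range (k + 1), a j) :=
      mul_le_mul_of_nonpos_right (hc k.le_succ) (h _)
    rw [sum_range_succ (fun j => c j * a j)]
    rw [sum_range_succ a] at h1 ⊢
    nlinarith [ih]

/-- The greedy basis. -/
theorem greedy {n : ℕ} (x : Fin n → V) : ∃ S : Finset (Fin n), LinearIndepOn K x (S : Set (Fin n)) ∧
    ∀ k : ℕ, (S.filter fun j : Fin n => (j : ℕ) < k).card = rk (K := K) x {j : Fin n | (j : ℕ) < k} := by
  classical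
  let S : Finset (Fin n) := univ.filter fun j => x j ∉ Submodule.span K (x '' {i | (i : ℕ) < j})
  have key : ∀ k : ℕ, LinearIndepOn K x ((S.filter fun j : Fin n => (j : ℕ) < k : Finset (Fin n)) : Set (Fin n)) ∧
      Submodule.span K (x '' ((S.filter fun j : Fin n => (j : ℕ) < k : Finset (Fin n)) : Set (Fin n))) =
        Submodule.span K (x '' {j : Fin n | (j : ℕ) < k}) := by
    intro k
    induction k with
    | zero => simp [linearIndepOn_empty]
    | succ k ih =>
      by_cases hk : k < n
      · let j₀ : Fin n := ⟨k, hk⟩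
        have hset : {j : Fin n | (j : ℕ) < k + 1} = insert j₀ {j : Fin n | (j : ℕ) < k} := by
          ext j
          simp [j₀, Fin.ext_iff]
          omega
        by_cases hj : j₀ ∈ S
        · have hins : (S.filter fun j : Fin n => (j : ℕ) < k + 1) = insert j₀ (S.filter fun j : Fin n => (j : ℕ) < k) := by
            ext j
            simp only [mem_filter, mem_insert]
            constructor
            · rintro ⟨h1, h2⟩
              rcases Nat.lt_succ_iff_lt_or_eq.1 h2 with h | h
              exacts [.inr ⟨h1, h⟩, .inl (Fin.ext h)]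
            · rintro (rfl | ⟨h1, h2⟩)
              exacts [⟨hj, Nat.lt_succ_self k⟩, ⟨h1, h2.trans (Nat.lt_succ_self k)⟩]
          have hj' : x j₀ ∉ Submodule.span K (x '' {j : Fin n | (j : ℕ) < k}) := (mem_filter.1 hj).2
          rw [hins, coe_insert, hset]
          refine ⟨ih.1.insert (by rw [ih.2]; exact hj'), ?_⟩
          rw [Set.image_insert_eq, Set.image_insert_eq, Submodule.span_insert, Submodule.span_insert, ih.2]
        · have hins : (S.filter fun j : Fin n => (j : ℕ) < k + 1) = (S.filter fun j : Fin n => (j : ℕ) < k) := by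
            ext j
            simp only [mem_filter]
            refine ⟨fun ⟨h1, h2⟩ => ⟨h1, ?_⟩, fun ⟨h1, h2⟩ => ⟨h1, h2.trans (Nat.lt_succ_self k)⟩⟩
            rcases Nat.lt_succ_iff_lt_or_eq.1 h2 with h | h
            exacts [h, absurd ((Fin.ext h : j = j₀) ▸ h1) hj]
          have hj' : x j₀ ∈ Submodule.span K (x '' {j : Fin n | (j : ℕ) < k}) := by
            by_contra h
            exact hj (mem_filter.2 ⟨mem_univ _, h⟩)
          rw [hins, hset, Set.image_insert_eq, Submodule.span_insert_eq_span hj']
          exact ih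
      · have h1 : ∀ j : Fin n, ((j : ℕ) < k + 1) ↔ ((j : ℕ) < k) := fun j => by omega
        simp only [h1]
        exact ih
  refine ⟨S, ?_, fun k => ?_⟩
  · refine (key n).1.mono ?_
    intro j hj
    simpa using hj
  · obtain ⟨h1, h2⟩ := key k
    rw [rk, ← h2, Set.image_eq_range]
    exact ((finrank_span_eq_card h1.linearIndependent).trans (by simp)).symm

/-- The minimal basis for a weight: a weighted vector obeying the rank inequalities beats some basis. -/
theorem exists_base_le {n : ℕ} (x : Fin n → V) (hsp : Submodule.span K (Set.range x) = ⊤) (w : Fin n → ℚ) (M : ℚ)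
    (htot : ∑ j, w j = M * Module.finrank K V) (hle : ∀ A : Finset (Fin n), ∑ j ∈ A, w j ≤ M * rk (K := K) x A)
    (c : Fin n → ℚ) :
    ∃ S : Finset (Fin n), S.card = Module.finrank K V ∧ LinearIndepOn K x (S : Set (Fin n)) ∧
      M * ∑ j ∈ S, c j ≤ ∑ j, c j * w j := by
  classical
  rcases Nat.eq_zero_or_pos n with rfl | hn
  · have hd : Module.finrank K V = 0 := by
      rw [← finrank_top K V, ← hsp]
      simp
    exact ⟨∅, by simp [hd], by simp [linearIndepOn_empty], by simp⟩
  let σ : Equiv.Perm (Fin n) := Tuple.sort c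
  have hmono : Monotone (c ∘ σ) := Tuple.monotone_sort c
  obtain ⟨S, hS, hrk⟩ := greedy (K := K) (x ∘ σ)
  have hfull : S.card = Module.finrank K V := by
    have h := hrk n
    rw [filter_true_of_mem (fun j _ => j.2)] at h
    rw [h, rk, show {j : Fin n | (j : ℕ) < n} = Set.univ from Set.eq_univ_of_forall fun j => j.2, Set.image_univ,
      EquivLike.range_comp, hsp, finrank_top]
  let e : ℕ → Fin n := fun k => ⟨min k (n - 1), by omega⟩
  let c' : ℕ → ℚ := fun k => c (σ (e k))
  let a : ℕ → ℚ := fun k => if h : k < n then w (σ ⟨k, h⟩) - M * (if (⟨k, h⟩ : Fin n) ∈ S then 1 else 0) else 0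
  have hc' : Monotone c' := fun p q hpq => hmono (show e p ≤ e q from Fin.mk_le_mk.2 (by omega))
  have hsum : ∀ (b : ℕ → ℚ) k, (∀ j, n ≤ j → b j = 0) →
      ∑ j ∈ range k, b j = ∑ j ∈ univ.filter (fun j : Fin n => (j : ℕ) < k), b j := by
    intro b k hb
    rw [sum_filter, Fin.sum_univ_eq_sum_range (fun j => if j < k then b j else 0), ← sum_filter]
    refine (sum_subset (fun j hj => ?_) fun j hj hj' => ?_).symm
    · exact mem_range.2 (mem_filter.1 hj).2
    · refine hb j ?_
      by_contra h
      exact hj' (mem_filter.2 ⟨mem_range.2 (by omega), mem_range.1 hj⟩)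
  have ha0 : ∀ j, n ≤ j → a j = 0 := fun j hj => dif_neg (not_lt.2 hj)
  have ha : ∀ j : Fin n, a j = w (σ j) - M * (if j ∈ S then 1 else 0) := fun j => dif_pos j.2
  have hD : ∀ k, ∑ j ∈ range k, a j =
      (∑ j ∈ univ.filter (fun j : Fin n => (j : ℕ) < k), w (σ j)) - M * rk (K := K) (x ∘ σ) {j : Fin n | (j : ℕ) < k} := by
    intro k
    rw [hsum a k ha0, sum_congr rfl fun j _ => ha j, sum_sub_distrib, ← mul_sum, ← hrk k, sum_boole]
    congr 3
    congr 1
    ext j
    simp [and_comm]
  have hneg : ∀ k, ∑ j ∈ range k, a j ≤ 0 := fun k => by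
    rw [hD, sub_nonpos]
    have h := hle ((univ.filter fun j : Fin n => (j : ℕ) < k).map σ.toEmbedding)
    rw [sum_map] at h
    refine h.trans (le_of_eq ?_)
    congr 2
    rw [rk, rk, coe_map, ← Set.image_comp, coe_filter]
    rw [show {x : Fin n | x ∈ univ ∧ (x : ℕ) < k} = {j : Fin n | (j : ℕ) < k} from
      Set.ext fun j => and_iff_right (mem_univ j)]
    rfl
  have htop : ∑ j ∈ range n, a j = 0 := by
    rw [hD, filter_true_of_mem (fun j _ => j.2), Equiv.sum_comp σ w, htot, ← hfull, ← hrk n,
      filter_true_of_mem (fun j _ => j.2), sub_self]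
  refine ⟨S.map σ.toEmbedding, by rw [card_map, hfull], ?_, ?_⟩
  · rw [coe_map]
    exact hS.image_of_comp
  · have h := abel_sum_ge c' a hc' hneg n
    rw [htop, mul_zero, ← Fin.sum_univ_eq_sum_range (fun j => c' j * a j)] at h
    have he : ∀ j : Fin n, c' j * a j = c (σ j) * w (σ j) - M * (if j ∈ S then c (σ j) else 0) := fun j => by
      have : e (j : ℕ) = j := Fin.ext (by show min (j : ℕ) (n - 1) = j; omega)
      rw [ha, show c' j = c (σ j) by simp only [c', this]]
      split <;> ring
    rw [sum_congr rfl fun j _ => he j, sum_sub_distrib, ← mul_sum, sum_ite_mem, univ_inter,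
      Equiv.sum_comp σ (fun j => c j * w j)] at h
    rw [sum_map]
    simpa using (sub_nonneg.1 h)

/-- The rank inequalities describe the cone of bases. -/
theorem mem_cone_bases {n : ℕ} (x : Fin n → V) (hsp : Submodule.span K (Set.range x) = ⊤) (w : Fin n → ℚ) (M : ℚ)
    (hM : 0 ≤ M) (htot : ∑ j, w j = M * Module.finrank K V)
    (hle : ∀ A : Finset (Fin n), ∑ j ∈ A, w j ≤ M * rk (K := K) x A) :
    ∃ r : Finset (Fin n) → ℚ, (∀ S, 0 ≤ r S) ∧
      (∀ S, r S ≠ 0 → S.card = Module.finrank K V ∧ LinearIndepOn K x (S : Set (Fin n))) ∧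
      ∀ j, ∑ S : Finset (Fin n), (if j ∈ S then r S else 0) = w j := by
  classical
  let B : Finset (Finset (Fin n)) := univ.filter fun S =>
    S.card = Module.finrank K V ∧ LinearIndepOn K x (S : Set (Fin n))
  let g : Finset (Fin n) → Fin n → ℚ := fun S j => if j ∈ S then 1 else 0
  rcases farkas (R := ℚ) B g w with ⟨c, hc0, hc⟩ | ⟨f, hf, hfw⟩
  · refine ⟨fun S => if S ∈ B then c S else 0, fun S => ?_, fun S hS => ?_, fun j => ?_⟩
    · dsimp only
      split
      exacts [hc0 S, le_rfl]
    · by_cases h : S ∈ B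
      · exact (mem_filter.1 h).2
      · exact absurd (if_neg h) hS
    · rw [← hc, Finset.sum_apply]
      refine Eq.symm (sum_subset_zero_on_sdiff (subset_univ B) (fun S hS => ?_) fun S hS => ?_)
      · simp [(mem_sdiff.1 hS).2]
      · simp [hS, g]
  · let cc : Fin n → ℚ := fun j => f (Pi.single j 1)
    have hfv : ∀ v : Fin n → ℚ, f v = ∑ j, v j * cc j := fun v => by
      conv_lhs => rw [pi_eq_sum_univ' v]
      simp [cc]
    obtain ⟨S, h1, h2, h3⟩ := exists_base_le x hsp w M htot hle cc
    have h4 := hf S (mem_filter.2 ⟨mem_univ _, h1, h2⟩)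
    rw [hfv] at h4 hfw
    simp only [g, ite_mul, one_mul, zero_mul, sum_ite_mem, univ_inter] at h4
    have h5 : ∑ j, w j * cc j = ∑ j, cc j * w j := sum_congr rfl fun j _ => mul_comm _ _
    rw [h5] at hfw
    nlinarith [mul_nonneg hM h4]

variable (K)

theorem stable_iff (m : ℕ) (x : Fin (m + 1) → V) (hx : ∀ i, x i ≠ 0) :
    (∀ L : Submodule K V, L ≠ ⊥ → L ≠ ⊤ →
        Set.ncard {i : Fin (m + 1) | x i ∈ L} * Module.finrank K V < Module.finrank K L * (m + 1)) ↔
      ∃ N N₀ : ℕ, 0 < N₀ ∧ N₀ ≤ N ∧
        ∀ i : Fin (m + 1), ∃ P : Multiset (Finset (Fin (m + 1))), P ≠ 0 ∧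
          (∀ S ∈ P, S.card = Module.finrank K V ∧ LinearIndependent K (fun j : S => x j)) ∧
          ∀ j : Fin (m + 1),
            Multiset.card (P.filter (fun S => j ∈ S)) = if j = i then N - N₀ else N := by
  classical
  set d := Module.finrank K V with hd
  constructor
  · intro hst
    have hd0 : 0 < d := by
      haveI : Nontrivial V := ⟨⟨x 0, 0, hx 0⟩⟩
      exact Module.finrank_pos
    have hsp : Submodule.span K (Set.range x) = ⊤ := by
      by_contra h
      have hb : Submodule.span K (Set.range x) ≠ ⊥ := fun e => hx 0 ((Submodule.eq_bot_iff _).1 e _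
        (Submodule.subset_span ⟨0, rfl⟩))
      have := hst _ hb h
      rw [show {i : Fin (m + 1) | x i ∈ Submodule.span K (Set.range x)} = Set.univ from
        Set.eq_univ_of_forall fun i => Submodule.subset_span ⟨i, rfl⟩, Set.ncard_univ, Nat.card_eq_fintype_card,
        Fintype.card_fin, mul_comm (Module.finrank K (Submodule.span K (Set.range x)))] at this
      exact absurd (Nat.lt_of_mul_lt_mul_left this) (not_lt.2 (Submodule.finrank_le _))
    let w : Fin (m + 1) → Fin (m + 1) → ℚ := fun i j => if j = i then (d : ℚ) else (d : ℚ) + 1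
    let M : ℚ := ((m + 1 : ℕ) * ((d : ℚ) + 1) - 1) / d
    have hdQ : (0 : ℚ) < d := Nat.cast_pos.2 hd0
    have hMd : M * d = (m + 1 : ℕ) * ((d : ℚ) + 1) - 1 := div_mul_cancel₀ _ hdQ.ne'
    have hM : 0 ≤ M := div_nonneg (by push_cast; nlinarith [(Nat.cast_nonneg m : (0 : ℚ) ≤ m)]) hdQ.le
    have hwsum : ∀ i (A : Finset (Fin (m + 1))), ∑ j ∈ A, w i j = A.card * ((d : ℚ) + 1) - if i ∈ A then 1 else 0 :=
      fun i A => by
      have : ∀ j, w i j = ((d : ℚ) + 1) - if j = i then 1 else 0 := fun j => by
        simp only [w]; split <;> ring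
      rw [sum_congr rfl fun j _ => this j, sum_sub_distrib, sum_const, nsmul_eq_mul, sum_ite_eq']
    have key : ∀ i, ∃ r : Finset (Fin (m + 1)) → ℚ, (∀ S, 0 ≤ r S) ∧
        (∀ S, r S ≠ 0 → S.card = d ∧ LinearIndepOn K x (S : Set (Fin (m + 1)))) ∧
        ∀ j, ∑ S : Finset (Fin (m + 1)), (if j ∈ S then r S else 0) = w i j := by
      intro i
      refine mem_cone_bases x hsp (w i) M hM ?_ fun A => ?_
      · rw [← hd, hMd, hwsum, if_pos (mem_univ i), card_univ, Fintype.card_fin]
      · rw [hwsum]
        by_cases hA : A = ∅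
        · subst hA
          simpa using mul_nonneg hM (Nat.cast_nonneg _)
        set L := Submodule.span K (x '' (A : Set (Fin (m + 1)))) with hL
        have hcard : A.card ≤ Set.ncard {j : Fin (m + 1) | x j ∈ L} := by
          rw [← Set.ncard_coe_finset]
          exact Set.ncard_le_ncard (fun j hj => Submodule.subset_span ⟨j, hj, rfl⟩) (Set.toFinite _)
        by_cases htop : L = ⊤
        · have hr : (rk (K := K) x A : ℚ) = d := by rw [rk, ← hL, htop, finrank_top, hd]
          rw [hr, hMd]
          by_cases hi : i ∈ A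
          · rw [if_pos hi]
            have h' : A.card ≤ m + 1 := (card_le_univ A).trans_eq (Fintype.card_fin _)
            have : (A.card : ℚ) ≤ (m + 1 : ℕ) := by exact_mod_cast h'
            nlinarith
          · rw [if_neg hi]
            have h' : A.card + 1 ≤ m + 1 := by
              have := (card_le_univ (insert i A)).trans_eq (Fintype.card_fin _)
              rwa [card_insert_of_notMem hi] at this
            have : (A.card : ℚ) + 1 ≤ (m + 1 : ℕ) := by exact_mod_cast h'
            nlinarith
        · have hbot : L ≠ ⊥ := fun e => by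
            obtain ⟨j, hj⟩ := nonempty_iff_ne_empty.2 hA
            exact hx j ((Submodule.eq_bot_iff _).1 e _ (Submodule.subset_span ⟨j, hj, rfl⟩))
          have h1 : A.card * d + 1 ≤ Module.finrank K L * (m + 1) :=
            (Nat.add_le_add_right (Nat.mul_le_mul_right d hcard) 1).trans (hst L hbot htop)
          have h1' : (A.card : ℚ) * d + 1 ≤ (rk (K := K) x A : ℚ) * (m + 1 : ℕ) := by
            rw [rk, ← hL]; exact_mod_cast h1
          have h2 : (rk (K := K) x A : ℚ) ≤ d := by
            rw [rk, hd]; exact_mod_cast Submodule.finrank_le _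
          have h3 : (A.card : ℚ) * ((d : ℚ) + 1) ≤ M * rk (K := K) x A := by
            refine le_of_mul_le_mul_right ?_ hdQ
            rw [mul_right_comm M, hMd]
            nlinarith [mul_le_mul_of_nonneg_right h1' (by linarith : (0 : ℚ) ≤ (d : ℚ) + 1)]
          split <;> linarith
    choose r hr0 hrB hrw using key
    let D : ℕ := ∏ p : Fin (m + 1) × Finset (Fin (m + 1)), (r p.1 p.2).den
    have hD : 0 < D := prod_pos fun p _ => (r p.1 p.2).den_pos
    have hint : ∀ i S, ∃ z : ℕ, (z : ℚ) = r i S * D := fun i S => by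
      obtain ⟨q, hq⟩ : (r i S).den ∣ D := dvd_prod_of_mem (fun p => (r p.1 p.2).den) (mem_univ (i, S))
      refine ⟨(r i S).num.toNat * q, ?_⟩
      rw [hq, Nat.cast_mul, Nat.cast_mul, ← mul_assoc, Rat.mul_den_eq_num, ← Int.cast_natCast (R := ℚ) (r i S).num.toNat,
        Int.toNat_of_nonneg (Rat.num_nonneg.2 (hr0 i S))]
    choose z hz using hint
    refine ⟨(d + 1) * D, D, hD, Nat.le_mul_of_pos_left D (by omega), fun i => ?_⟩
    let P : Multiset (Finset (Fin (m + 1))) := ∑ S, Multiset.replicate (z i S) S
    have hcnt : ∀ j, Multiset.card (P.filter (fun S => j ∈ S)) = if j = i then (d + 1) * D - D else (d + 1) * D := by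
      intro j
      have h1 : Multiset.card (P.filter (fun S => j ∈ S)) = ∑ S, if j ∈ S then z i S else 0 := by
        rw [← Multiset.countP_eq_card_filter, ← Multiset.coe_countPAddMonoidHom, map_sum]
        refine sum_congr rfl fun S _ => ?_
        rw [Multiset.coe_countPAddMonoidHom]
        by_cases h : j ∈ S
        · rw [if_pos h, Multiset.countP_eq_card.2 (fun a ha => (Multiset.eq_of_mem_replicate ha).symm ▸ h),
            Multiset.card_replicate]
        · rw [if_neg h, Multiset.countP_eq_zero.2 (fun a ha => (Multiset.eq_of_mem_replicate ha).symm ▸ h)]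
      rw [h1]
      apply Nat.cast_injective (R := ℚ)
      rw [Nat.cast_sum, sum_congr rfl fun S _ => (show ((if j ∈ S then z i S else 0 : ℕ) : ℚ) =
        (if j ∈ S then r i S else 0) * D by split <;> simp [hz]), ← sum_mul, hrw i j]
      simp only [w]
      split
      · rw [show (d + 1) * D - D = d * D by rw [add_one_mul]; omega]
        push_cast; ring
      · push_cast; ring
    refine ⟨P, fun h => ?_, fun S hS => ?_, hcnt⟩
    · have := hcnt i
      rw [h, if_pos rfl, add_one_mul, Nat.add_sub_cancel] at this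
      exact (Nat.mul_pos hd0 hD).ne' (by simpa using this.symm)
    · obtain ⟨T, -, hT⟩ := Multiset.mem_sum.1 hS
      obtain ⟨hne, rfl⟩ := Multiset.mem_replicate.1 hT
      have := hrB i S fun h => hne (Nat.cast_injective (R := ℚ) (by rw [hz, h, zero_mul, Nat.cast_zero]))
      exact ⟨this.1, this.2.linearIndependent⟩
  · rintro ⟨N, N₀, hN₀, hle, hP⟩ L hb ht
    let A : Finset (Fin (m + 1)) := univ.filter fun j => x j ∈ L
    have hA : Set.ncard {j : Fin (m + 1) | x j ∈ L} = A.card := by
      rw [← Set.ncard_coe_finset]; congr 1; ext j; simp [A]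
    obtain ⟨i, hi⟩ : ∃ i, i ∉ A := by
      by_contra h
      push Not at h
      obtain ⟨P, hP0, hPS, -⟩ := hP 0
      obtain ⟨S, hS⟩ := Multiset.exists_mem_of_ne_zero hP0
      refine ht (top_le_iff.1 ?_)
      rw [← (hPS S hS).2.span_eq_top_of_card_eq_finrank' (by rw [Fintype.card_coe, (hPS S hS).1]), Submodule.span_le]
      rintro _ ⟨j, rfl⟩
      exact (mem_filter.1 (h j)).2
    obtain ⟨P, -, hPS, hPc⟩ := hP i
    have count' : ∀ (P' : Multiset (Finset (Fin (m + 1)))) (T : Finset (Fin (m + 1))),
        ∑ j ∈ T, Multiset.card (P'.filter (fun S => j ∈ S)) = (P'.map fun S => (T ∩ S).card).sum := by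
      intro P' T
      induction P' using Multiset.induction_on with
      | empty => simp
      | cons S P' ih => simp [Multiset.filter_cons, sum_add_distrib, apply_ite, sum_ite_mem, ih]
    have count := count' P
    have hl : ∀ S ∈ P, (A ∩ S).card ≤ Module.finrank K L := fun S hS => by
      have hli : LinearIndependent K (fun j : (A ∩ S : Finset (Fin (m + 1))) =>
          (⟨x j, (mem_filter.1 (mem_inter.1 j.2).1).2⟩ : L)) := by
        refine LinearIndependent.of_comp L.subtype ?_
        exact (hPS S hS).2.comp (fun j : (A ∩ S : Finset (Fin (m + 1))) => (⟨j, (mem_inter.1 j.2).2⟩ : S))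
          fun p q h => Subtype.ext (congrArg Subtype.val h :)
      simpa [-mem_inter, Fintype.card_coe] using hli.fintype_card_le_finrank
    have e1 : A.card * N ≤ Multiset.card P * Module.finrank K L := by
      have := count A
      rw [sum_congr rfl fun j hj => (hPc j).trans (if_neg (fun h : j = i => hi (h ▸ hj))), sum_const, smul_eq_mul] at this
      rw [this]
      refine (Multiset.sum_map_le_sum_map _ (fun _ => Module.finrank K L) hl).trans_eq ?_
      simp
    have e2 : Multiset.card P * d = N * m + (N - N₀) := by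
      have := count univ
      rw [sum_congr rfl fun j _ => hPc j, Multiset.map_congr rfl (fun S hS => (by rw [univ_inter, (hPS S hS).1] : (univ ∩ S).card = d)),
        Multiset.map_const', Multiset.sum_replicate, smul_eq_mul, ← add_sum_erase univ _ (mem_univ i), if_pos rfl,
        sum_congr rfl fun j hj => if_neg (ne_of_mem_erase hj), sum_const, card_erase_of_mem (mem_univ i), card_univ,
        Fintype.card_fin, smul_eq_mul, Nat.add_sub_cancel] at this
      rw [← this]; ring
    have hl0 : 0 < Module.finrank K L := by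
      haveI := Submodule.nontrivial_iff_ne_bot.2 hb
      exact Module.finrank_pos
    have e3 : Multiset.card P * d < (m + 1) * N := by
      rw [e2, add_one_mul, mul_comm m N]
      omega
    rw [hA]
    refine Nat.lt_of_mul_lt_mul_right (a := N) ?_
    calc A.card * d * N = A.card * N * d := by ring
      _ ≤ Multiset.card P * Module.finrank K L * d := Nat.mul_le_mul_right d e1
      _ = Module.finrank K L * (Multiset.card P * d) := by ring
      _ < Module.finrank K L * ((m + 1) * N) := Nat.mul_lt_mul_of_pos_left e3 hl0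
      _ = Module.finrank K L * (m + 1) * N := by ring

end Groth.L18.BasePolytope
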