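import Groth.Prelude.Def_GLin
import Mathlib.RingTheory.IntegralClosure.IsIntegralClosure.Basic
import Mathlib.RingTheory.Spectrum.Prime.Topology
import Mathlib.RingTheory.MvPolynomial.Homogeneous
import Mathlib.RingTheory.FiniteType
import Mathlib.Algebra.Polynomial.Laurent

/-!
# Diagonal actions of the multiplicative group on affine space

Invariant monomials, semistable and stable vectors for a coaction `X i ↦ X i ⊗ T (r i)`.
-/

set_option autoImplicit false
universe u
open TensorProduct LaurentPolynomial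

namespace Groth.L18.GmVec

variable {k : Type u} [Field k] {ι : Type u} [Fintype ι]
  [HopfRep.Comod k k[T;T⁻¹] (MvPolynomial ι k)] [GLin.IsCoactAlg k k[T;T⁻¹] (MvPolynomial ι k)]
  {r : ι → ℤ}
  (hr : ∀ i : ι, HopfRep.Comod.coact (k := k) (A := k[T;T⁻¹]) (MvPolynomial.X i : MvPolynomial ι k) =
    (MvPolynomial.X i : MvPolynomial ι k) ⊗ₜ[k] (T (r i) : k[T;T⁻¹]))

/-- The weight of a monomial. -/
noncomputable def wt (r : ι → ℤ) (d : ι →₀ ℕ) : ℤ := ∑ i, (d i : ℤ) * r i

include hr

lemma coact_monomial (d : ι →₀ ℕ) (c : k) :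
    GLin.coactAlgHom k k[T;T⁻¹] (MvPolynomial ι k) (MvPolynomial.monomial d c) =
      MvPolynomial.monomial d c ⊗ₜ[k] (T (wt r d) : k[T;T⁻¹]) := by
  induction d using Finsupp.induction generalizing c with
  | zero =>
    have h : (MvPolynomial.monomial 0 c : MvPolynomial ι k) = algebraMap k _ c := rfl
    rw [h, AlgHom.commutes]
    simp [wt, Algebra.TensorProduct.algebraMap_apply]
  | single_add a b f _ _ ih =>
    rw [MvPolynomial.monomial_single_add, map_mul, map_pow, ih, GLin.coactAlgHom_apply, hr,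
      Algebra.TensorProduct.tmul_pow, Algebra.TensorProduct.tmul_mul_tmul]
    congr 1
    rw [LaurentPolynomial.T_pow, ← T_add]
    congr 1
    simp only [wt, Finsupp.add_apply, Nat.cast_add, add_mul, Finset.sum_add_distrib]
    congr 1
    classical
    simp [Finsupp.single_apply, ite_mul]

lemma monomial_mem_invariants {d : ι →₀ ℕ} (hd : wt r d = 0) :
    (MvPolynomial.monomial d (1 : k)) ∈ GLin.invariants k k[T;T⁻¹] (MvPolynomial ι k) := by
  rw [GLin.mem_invariants_iff, ← GLin.coactAlgHom_apply, coact_monomial hr, hd, T_zero]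

lemma wt_eq_zero_of_invariant {F : MvPolynomial ι k}
    (hF : F ∈ GLin.invariants k k[T;T⁻¹] (MvPolynomial ι k)) {d : ι →₀ ℕ} (hd : d ∈ F.support) :
    wt r d = 0 := by
  classical
  let L : MvPolynomial ι k ⊗[k] k[T;T⁻¹] →ₗ[k] k[T;T⁻¹] :=
    (TensorProduct.lid k k[T;T⁻¹]).toLinearMap ∘ₗ
      LinearMap.rTensor k[T;T⁻¹] (MvPolynomial.lcoeff k d)
  have hL : ∀ (G : MvPolynomial ι k) (a : k[T;T⁻¹]), L (G ⊗ₜ[k] a) = MvPolynomial.coeff d G • a := by
    intro G a
    simp [L, TensorProduct.lid_tmul]
  have key : ∀ G : MvPolynomial ι k,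
      L (GLin.coactAlgHom k k[T;T⁻¹] (MvPolynomial ι k) G) =
        MvPolynomial.coeff d G • (T (wt r d) : k[T;T⁻¹]) := by
    intro G
    induction G using MvPolynomial.induction_on' with
    | monomial e c =>
      rw [coact_monomial hr, hL]
      by_cases h : e = d
      · subst h; rfl
      · rw [MvPolynomial.coeff_monomial, if_neg h, zero_smul, zero_smul]
    | add p q hp hq => rw [map_add, map_add, hp, hq, MvPolynomial.coeff_add, add_smul]
  have h1 := key F
  rw [GLin.coactAlgHom_apply, (GLin.mem_invariants_iff _ _ _ _).mp hF, hL] at h1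
  have hc : MvPolynomial.coeff d F ≠ 0 := MvPolynomial.mem_support_iff.mp hd
  have h2 : (1 : k[T;T⁻¹]) = T (wt r d) := smul_right_injective _ hc h1
  by_contra hne
  have h3 := congrArg LaurentPolynomial.degree h2
  rw [← T_zero, degree_T, degree_T] at h3
  exact hne (by exact_mod_cast h3.symm)

theorem isSemistableVec_iff (v : ι → k) :
    GLin.IsSemistableVec k k[T;T⁻¹] v ↔ ∃ i j : ι, v i ≠ 0 ∧ v j ≠ 0 ∧ r i ≤ 0 ∧ 0 ≤ r j := by
  classical
  simp only [GLin.IsSemistableVec, GLin.IsNullform]
  push Not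
  constructor
  · rintro ⟨F, hF, n, hn, hhom, hev⟩
    rw [MvPolynomial.eval_eq'] at hev
    obtain ⟨d, hd, hdne⟩ := Finset.exists_ne_zero_of_sum_ne_zero hev
    have hw := wt_eq_zero_of_invariant hr hF hd
    have hv : ∀ i, d i ≠ 0 → v i ≠ 0 := by
      intro i hi hvi
      apply hdne
      rw [Finset.prod_eq_zero (Finset.mem_univ i) (by rw [hvi, zero_pow hi]), mul_zero]
    have hdeg : d ≠ 0 := by
      rintro rfl
      have := hhom (MvPolynomial.mem_support_iff.mp hd)
      simp at this
      omega
    obtain ⟨a, ha⟩ : ∃ a, d a ≠ 0 := by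
      by_contra h
      push Not at h
      exact hdeg (Finsupp.ext h)
    have hi : ∃ i, d i ≠ 0 ∧ r i ≤ 0 := by
      by_contra h
      push Not at h
      have : 0 < wt r d := by
        refine Finset.sum_pos' (fun i _ => ?_) ⟨a, Finset.mem_univ a, ?_⟩
        · by_cases h0 : d i = 0
          · simp [h0]
          · exact mul_nonneg (Int.natCast_nonneg _) (h i h0).le
        · exact mul_pos (by exact_mod_cast Nat.pos_of_ne_zero ha) (h a ha)
      omega
    have hj : ∃ j, d j ≠ 0 ∧ 0 ≤ r j := by
      by_contra h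
      push Not at h
      have : wt r d < ∑ _i : ι, (0 : ℤ) := by
        refine Finset.sum_lt_sum (fun i _ => ?_) ⟨a, Finset.mem_univ a, ?_⟩
        · by_cases h0 : d i = 0
          · simp [h0]
          · exact mul_nonpos_of_nonneg_of_nonpos (Int.natCast_nonneg _) (h i h0).le
        · exact mul_neg_of_pos_of_neg (by exact_mod_cast Nat.pos_of_ne_zero ha) (h a ha)
      simp at this
      omega
    obtain ⟨i, hi1, hi2⟩ := hi
    obtain ⟨j, hj1, hj2⟩ := hj
    exact ⟨i, j, hv i hi1, hv j hj1, hi2, hj2⟩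
  · rintro ⟨i, j, hvi, hvj, hri, hrj⟩
    obtain ⟨d, hd0, hdw, hdv⟩ :
        ∃ d : ι →₀ ℕ, d ≠ 0 ∧ wt r d = 0 ∧ ∀ l, d l ≠ 0 → v l ≠ 0 := by
      have hwt1 : ∀ (l : ι) (n : ℕ), wt r (Finsupp.single l n) = n * r l := by
        intro l n
        simp [wt, Finsupp.single_apply, ite_mul]
      by_cases h0 : r i = 0
      · refine ⟨Finsupp.single i 1, by simp, by simp [hwt1, h0], fun l hl => ?_⟩
        by_cases hil : i = l
        · exact hil ▸ hvi
        · exact absurd (Finsupp.single_eq_of_ne (Ne.symm hil)) hl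
      · refine ⟨Finsupp.single i (r j).toNat + Finsupp.single j (-r i).toNat, ?_, ?_, ?_⟩
        · intro h
          have h' := congrArg (fun f : ι →₀ ℕ => f j) h
          simp at h'
          omega
        · have : ∀ a b : ι →₀ ℕ, wt r (a + b) = wt r a + wt r b := by
            intro a b
            simp [wt, add_mul, Finset.sum_add_distrib]
          rw [this, hwt1, hwt1, Int.toNat_of_nonneg hrj, Int.toNat_of_nonneg (by omega)]
          ring
        · intro l hl
          by_cases hil : i = l
          · exact hil ▸ hvi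
          · by_cases hjl : j = l
            · exact hjl ▸ hvj
            · exfalso
              apply hl
              simp [Finsupp.single_eq_of_ne (Ne.symm hil), Finsupp.single_eq_of_ne (Ne.symm hjl)]
    refine ⟨MvPolynomial.monomial d 1, monomial_mem_invariants hr hdw, d.degree, ?_,
      MvPolynomial.isHomogeneous_monomial _ rfl, ?_⟩
    · rw [Nat.pos_iff_ne_zero]
      exact fun h => hd0 ((Finsupp.degree_eq_zero_iff d).mp h)
    · rw [MvPolynomial.eval_monomial, one_mul]
      exact Finsupp.prod_ne_zero_iff.mpr fun l hl => pow_ne_zero _ (hdv l (Finsupp.mem_support_iff.mp hl))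

lemma orbitHom_X (v : ι → k) (i : ι) :
    GLin.orbitHom k k[T;T⁻¹] (GLin.vecPt k ι v) (MvPolynomial.X i) = v i • (T (r i) : k[T;T⁻¹]) := by
  simp [GLin.orbitHom, hr, TensorProduct.lid_tmul]

omit hr in
lemma not_moduleFinite_laurent : ¬ Module.Finite k k[T;T⁻¹] := by
  intro h
  have := Module.Finite.of_injective (Polynomial.toLaurentAlg (R := k)).toLinearMap
    Polynomial.toLaurent_injective
  exact Polynomial.not_finite this

/-- If all weights occurring in `v` have one sign and one is nonzero, the orbit is not closed. -/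
lemma not_isClosedOrbit (v : ι → k) (e : k[T;T⁻¹] ≃ₐ[k] k[T;T⁻¹]) (n : ι → ℕ)
    (he : ∀ i, v i ≠ 0 → e (T (n i)) = T (r i)) {a : ι} (hva : v a ≠ 0) (hna : n a ≠ 0) :
    ¬ GLin.IsClosedOrbit k k[T;T⁻¹] (GLin.vecPt k ι v) := by
  intro hcl
  unfold GLin.IsClosedOrbit at hcl
  let φ := GLin.orbitHom k k[T;T⁻¹] (GLin.vecPt k ι v)
  let ψ : MvPolynomial ι k →ₐ[k] Polynomial k :=
    MvPolynomial.aeval fun i => v i • (Polynomial.X : Polynomial k) ^ n i
  have hφψ : φ = e.toAlgHom.comp ((Polynomial.toLaurentAlg (R := k)).comp ψ) := by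
    refine MvPolynomial.algHom_ext fun i => ?_
    rw [orbitHom_X hr]
    by_cases hvi : v i = 0
    · simp [ψ, hvi]
    · simp only [AlgHom.comp_apply, ψ, MvPolynomial.aeval_X, map_smul, Polynomial.toLaurentAlg_apply,
        Polynomial.toLaurent_X_pow]
      change v i • T (r i) = v i • e (T (n i))
      rw [he i hvi]
  let y : MvPolynomial ι k →ₐ[k] k := (Polynomial.aeval (0 : k)).comp ψ
  have hle : RingHom.ker φ.toRingHom ≤ RingHom.ker y.toRingHom := by
    intro f hf
    have hf' : φ f = 0 := hf
    rw [hφψ] at hf'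
    have h0 : e (Polynomial.toLaurent (ψ f)) = 0 := hf'
    have : ψ f = 0 := by
      rw [← map_zero e] at h0
      have := e.injective h0
      rw [← map_zero (Polynomial.toLaurent (R := k))] at this
      exact Polynomial.toLaurent_injective this
    show y f = 0
    simp [y, this]
  haveI : (RingHom.ker y.toRingHom).IsPrime := RingHom.ker_isPrime _
  let q : PrimeSpectrum (MvPolynomial ι k) := ⟨RingHom.ker y.toRingHom, inferInstance⟩
  have hq : q ∈ closure (Set.range (PrimeSpectrum.comap φ.toRingHom)) := by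
    rw [PrimeSpectrum.closure_range_comap, PrimeSpectrum.mem_zeroLocus]
    exact hle
  rw [hcl.closure_eq] at hq
  obtain ⟨P, hP⟩ := hq
  have hmem : (MvPolynomial.X a : MvPolynomial ι k) ∈ q.asIdeal := by
    show y (MvPolynomial.X a) = 0
    simp [y, ψ, zero_pow hna]
  rw [← hP] at hmem
  have hmem' : φ (MvPolynomial.X a) ∈ P.asIdeal := hmem
  rw [orbitHom_X hr] at hmem'
  refine P.isPrime.ne_top (Ideal.eq_top_of_isUnit_mem _ hmem' ?_)
  rw [LaurentPolynomial.smul_eq_C_mul]
  exact ((Ne.isUnit hva).map C).mul (isUnit_T _)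

theorem isStableVec_iff (v : ι → k) :
    GLin.IsStableVec k k[T;T⁻¹] v ↔ ∃ i j : ι, v i ≠ 0 ∧ v j ≠ 0 ∧ r i < 0 ∧ 0 < r j := by
  constructor
  · rintro ⟨hcl, hfs⟩
    by_contra h
    push Not at h
    by_cases hz : ∀ i, v i ≠ 0 → r i = 0
    · have hker : GLin.stabIdeal k k[T;T⁻¹] (GLin.vecPt k ι v) = ⊥ := by
        have hconst : GLin.orbitHom k k[T;T⁻¹] (GLin.vecPt k ι v) =
            (Algebra.ofId k k[T;T⁻¹]).comp (GLin.vecPt k ι v) := by
          refine MvPolynomial.algHom_ext fun i => ?_
          rw [orbitHom_X hr]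
          by_cases hvi : v i = 0
          · simp [hvi]
          · simp [hz i hvi, Algebra.ofId_apply, Algebra.algebraMap_eq_smul_one]
        rw [GLin.stabIdeal, eq_bot_iff, Ideal.map_le_iff_le_comap]
        intro f hf
        show _ ∈ (⊥ : Ideal k[T;T⁻¹])
        rw [hconst]
        have hf' : GLin.vecPt k ι v f = 0 := hf
        show (Algebra.ofId k k[T;T⁻¹]) (GLin.vecPt k ι v f) = 0
        rw [hf', map_zero]
      unfold GLin.HasFiniteStab at hfs
      rw [hker] at hfs
      haveI := hfs
      exact not_moduleFinite_laurent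
        (Module.Finite.equiv (AlgEquiv.quotientBot k k[T;T⁻¹]).toLinearEquiv)
    · push Not at hz
      obtain ⟨a, hva, hra⟩ := hz
      rcases lt_or_gt_of_ne hra with hneg | hpos
      · have hall : ∀ i, v i ≠ 0 → r i ≤ 0 := fun i hi => h a i hva hi hneg
        refine not_isClosedOrbit hr v LaurentPolynomial.invert (fun i => (-r i).toNat) ?_ hva ?_ hcl
        · intro i hi
          have := hall i hi
          rw [LaurentPolynomial.invert_T, Int.toNat_of_nonneg (by omega), neg_neg]
        · omega
      · have hall : ∀ i, v i ≠ 0 → 0 ≤ r i := by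
          intro i hi
          by_contra hlt
          have := h i a hi hva (by omega)
          omega
        refine not_isClosedOrbit hr v AlgEquiv.refl (fun i => (r i).toNat) ?_ hva ?_ hcl
        · intro i hi
          simp [Int.toNat_of_nonneg (hall i hi)]
        · omega
  · rintro ⟨i, j, hvi, hvj, hri, hrj⟩
    let φ := GLin.orbitHom k k[T;T⁻¹] (GLin.vecPt k ι v)
    have hT : ∀ (l : ι), v l ≠ 0 → (T (r l) : k[T;T⁻¹]) = φ ((v l)⁻¹ • MvPolynomial.X l) := by
      intro l hl
      simp [φ, orbitHom_X hr, smul_smul, inv_mul_cancel₀ hl]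
    have hpow : ∀ (x : k[T;T⁻¹]) (n : ℕ), 0 < n → x ^ n ∈ Set.range φ →
        φ.toRingHom.IsIntegralElem x := by
      rintro x n hn ⟨c, hc⟩
      refine ⟨Polynomial.X ^ n - Polynomial.C c, Polynomial.monic_X_pow_sub_C c hn.ne', ?_⟩
      simp [hc]
    have hT1 : φ.toRingHom.IsIntegralElem (T 1) := by
      refine hpow _ (r j).toNat (by omega) ⟨(v j)⁻¹ • MvPolynomial.X j, ?_⟩
      rw [T_pow, Int.toNat_of_nonneg (by omega), mul_one]
      exact (hT j hvj).symm
    have hTm : φ.toRingHom.IsIntegralElem (T (-1)) := by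
      refine hpow _ (-r i).toNat (by omega) ⟨(v i)⁻¹ • MvPolynomial.X i, ?_⟩
      rw [T_pow, Int.toNat_of_nonneg (by omega), neg_mul_neg, mul_one]
      exact (hT i hvi).symm
    have hTn : ∀ n : ℤ, φ.toRingHom.IsIntegralElem (T n) := by
      intro n
      induction n using Int.induction_on with
      | zero => rw [T_zero]; exact φ.toRingHom.isIntegralElem_one
      | succ m hm => rw [T_add]; exact hm.mul _ hT1
      | pred m hm => rw [sub_eq_add_neg, T_add]; exact hm.mul _ hTm
    have hint : φ.toRingHom.IsIntegral := by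
      intro x
      induction x using LaurentPolynomial.induction_on' with
      | add p q hp hq => exact hp.add _ hq
      | C_mul_T n a =>
        refine RingHom.IsIntegralElem.mul _ ?_ (hTn n)
        have h : φ.toRingHom (algebraMap k _ a) = C a := by
          simp [AlgHom.toRingHom_eq_coe, LaurentPolynomial.algebraMap_apply]
        rw [← h]
        exact φ.toRingHom.isIntegralElem_map
    refine ⟨(PrimeSpectrum.isClosedMap_comap_of_isIntegral _ hint).isClosed_range, ?_⟩
    unfold GLin.HasFiniteStab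
    let I := GLin.stabIdeal k k[T;T⁻¹] (GLin.vecPt k ι v)
    haveI : Algebra.IsIntegral k (k[T;T⁻¹] ⧸ I) := by
      constructor
      intro x
      obtain ⟨x, rfl⟩ := Ideal.Quotient.mk_surjective x
      obtain ⟨p, hmon, hp⟩ := hint x
      refine ⟨p.map (GLin.vecPt k ι v).toRingHom, hmon.map _, ?_⟩
      rw [Polynomial.eval₂_map]
      have hcomp : (algebraMap k (k[T;T⁻¹] ⧸ I)).comp (GLin.vecPt k ι v).toRingHom =
          (Ideal.Quotient.mk I).comp φ.toRingHom := by
        refine RingHom.ext fun f => ?_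
        have hf : f - algebraMap k _ (GLin.vecPt k ι v f) ∈ RingHom.ker (GLin.vecPt k ι v) := by
          simp [RingHom.mem_ker]
        have := Ideal.mem_map_of_mem (GLin.orbitHom k k[T;T⁻¹] (GLin.vecPt k ι v)) hf
        rw [map_sub, AlgHom.commutes] at this
        exact ((Ideal.Quotient.eq (I := I)).mpr this).symm
      rw [hcomp, ← Polynomial.hom_eval₂, hp, map_zero]
    haveI : Algebra.FiniteType k k[T;T⁻¹] := by
      classical
      refine ⟨⟨{T 1, T (-1)}, eq_top_iff.mpr fun x _ => ?_⟩⟩
      have hTA : ∀ n : ℤ, (T n : k[T;T⁻¹]) ∈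
          Algebra.adjoin k (↑({T 1, T (-1)} : Finset k[T;T⁻¹]) : Set k[T;T⁻¹]) := by
        intro n
        induction n using Int.induction_on with
        | zero => rw [T_zero]; exact one_mem _
        | succ m hm => rw [T_add]; exact mul_mem hm (Algebra.subset_adjoin (by simp))
        | pred m hm =>
          rw [sub_eq_add_neg, T_add]; exact mul_mem hm (Algebra.subset_adjoin (by simp))
      induction x using LaurentPolynomial.induction_on' with
      | add p q hp hq => exact add_mem (hp Algebra.mem_top) (hq Algebra.mem_top)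
      | C_mul_T n a =>
        exact mul_mem (by rw [LaurentPolynomial.C_eq_algebraMap]; exact Subalgebra.algebraMap_mem _ a) (hTA n)
    haveI : Algebra.FiniteType k (k[T;T⁻¹] ⧸ I) :=
      Algebra.FiniteType.of_surjective (Ideal.Quotient.mkₐ k I) (Ideal.Quotient.mkₐ_surjective k I)
    exact Algebra.IsIntegral.finite

end Groth.L18.GmVec
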