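import Mathlib.Algebra.Polynomial.Roots
import Mathlib.LinearAlgebra.LinearIndependent.Basic
import Mathlib.RingTheory.Polynomial.Basic
import Mathlib.Order.Filter.Cofinite
import Mathlib.Data.Finset.Max
import Mathlib.Tactic.LinearCombination
import Mathlib.Tactic.Ring
import Mathlib.LinearAlgebra.Finsupp.LinearCombination

/-!
# Orders at zero of functions on an infinite field

Functions `k → k` which agree at almost every point with a rational function regular at `0`.
-/

set_option autoImplicit false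
universe u v

open Polynomial Filter

noncomputable section

namespace Groth.L18.Rat0

variable {k : Type u} [Field k]

theorem eventually_eval_ne_zero {Q : k[X]} (hQ : Q ≠ 0) : ∀ᶠ a in cofinite, Q.eval a ≠ 0 :=
  eventually_cofinite.2 (by simpa [Polynomial.IsRoot] using Polynomial.finite_setOfPred_isRoot hQ)

theorem eventually_ne_zero : ∀ᶠ a in cofinite, a ≠ (0 : k) :=
  eventually_cofinite.2 (by simp)

/-- `h` is, almost everywhere, a rational function regular at `0` with value `v` there. -/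
def IsRat (h : k → k) (v : k) : Prop :=
  ∃ P Q : k[X], Q.eval 0 ≠ 0 ∧ P.eval 0 = v * Q.eval 0 ∧ ∀ᶠ a in cofinite, h a = P.eval a / Q.eval a

variable {h h' : k → k} {v v' : k}

theorem IsRat.congr (H : IsRat h v) (e : ∀ᶠ a in cofinite, h' a = h a) : IsRat h' v := by
  obtain ⟨P, Q, h0, h1, h2⟩ := H
  refine ⟨P, Q, h0, h1, ?_⟩
  filter_upwards [h2, e] with a h2 e
  rw [e, h2]

theorem IsRat.of_eval (P Q : k[X]) (h0 : Q.eval 0 ≠ 0) (e : ∀ a, Q.eval a ≠ 0 → h a = P.eval a / Q.eval a) :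
    IsRat h (h 0) := by
  refine ⟨P, Q, h0, ?_, ?_⟩
  · rw [e 0 h0, div_mul_cancel₀ _ h0]
  · filter_upwards [eventually_eval_ne_zero (Q := Q) (fun hQ => h0 (by simp [hQ]))] with a ha using e a ha

theorem IsRat.const (c : k) : IsRat (fun _ => c) c :=
  ⟨C c, 1, by simp, by simp, by simp⟩

theorem IsRat.id : IsRat (fun a : k => a) 0 :=
  ⟨X, 1, by simp, by simp, by simp⟩

theorem IsRat.mul (H : IsRat h v) (H' : IsRat h' v') : IsRat (fun a => h a * h' a) (v * v') := by
  obtain ⟨P, Q, h0, h1, h2⟩ := H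
  obtain ⟨P', Q', h0', h1', h2'⟩ := H'
  refine ⟨P * P', Q * Q', by simp [h0, h0'], by simp only [eval_mul, h1, h1']; ring, ?_⟩
  filter_upwards [h2, h2'] with a e e'
  rw [e, e', eval_mul, eval_mul, div_mul_div_comm]

theorem IsRat.add (H : IsRat h v) (H' : IsRat h' v') : IsRat (fun a => h a + h' a) (v + v') := by
  obtain ⟨P, Q, h0, h1, h2⟩ := H
  obtain ⟨P', Q', h0', h1', h2'⟩ := H'
  refine ⟨P * Q' + Q * P', Q * Q', by simp [h0, h0'], by simp only [eval_mul, eval_add, h1, h1']; ring, ?_⟩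
  filter_upwards [h2, h2', eventually_eval_ne_zero (Q := Q) (fun hQ => h0 (by simp [hQ])),
    eventually_eval_ne_zero (Q := Q') (fun hQ => h0' (by simp [hQ]))] with a e e' q q'
  rw [e, e', eval_add, eval_mul, eval_mul, eval_mul, div_add_div _ _ q q']

theorem IsRat.pow (H : IsRat h v) : ∀ n : ℕ, IsRat (fun a => h a ^ n) (v ^ n)
  | 0 => by simpa using IsRat.const (1 : k)
  | n + 1 => by simpa [pow_succ] using (IsRat.pow H n).mul H

theorem IsRat.sum {ι : Type v} (s : Finset ι) (f : ι → k → k) (w : ι → k)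
    (H : ∀ i ∈ s, IsRat (f i) (w i)) : IsRat (fun a => ∑ i ∈ s, f i a) (∑ i ∈ s, w i) := by
  classical
  induction s using Finset.induction_on with
  | empty => simpa using IsRat.const (0 : k)
  | insert i s hi ih =>
    simp only [Finset.sum_insert hi]
    exact (H i (Finset.mem_insert_self i s)).add (ih fun j hj => H j (Finset.mem_insert_of_mem hj))

theorem IsRat.inv (H : IsRat h v) (hv : v ≠ 0) : IsRat (fun a => (h a)⁻¹) v⁻¹ := by
  obtain ⟨P, Q, h0, h1, h2⟩ := H
  refine ⟨Q, P, by rw [h1]; exact mul_ne_zero hv h0, by rw [h1, inv_mul_cancel_left₀ hv], ?_⟩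
  filter_upwards [h2] with a e
  rw [e, inv_div]

theorem tendsto_mul_left {b : k} (hb : b ≠ 0) : Tendsto (fun a => b * a) cofinite cofinite :=
  (mul_right_injective₀ hb).tendsto_cofinite

theorem IsRat.scale (H : IsRat h v) {b : k} (hb : b ≠ 0) : IsRat (fun a => h (b * a)) v := by
  obtain ⟨P, Q, h0, h1, h2⟩ := H
  refine ⟨P.comp (C b * X), Q.comp (C b * X), by simpa using h0, by simpa using h1, ?_⟩
  filter_upwards [(tendsto_mul_left hb).eventually h2] with a e
  simpa using e

variable [Infinite k]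

theorem IsRat.unique (H : IsRat h v) (H' : IsRat h' v') (e : ∀ᶠ a in cofinite, h a = h' a) : v = v' := by
  obtain ⟨P, Q, h0, h1, h2⟩ := H
  obtain ⟨P', Q', h0', h1', h2'⟩ := H'
  have key : P * Q' = P' * Q := by
    refine Polynomial.eq_of_infinite_eval_eq _ _ ?_
    have hall : ∀ᶠ a in cofinite, (P * Q').eval a = (P' * Q).eval a := by
      filter_upwards [h2, h2', e, eventually_eval_ne_zero (Q := Q) (fun hQ => h0 (by simp [hQ])),
        eventually_eval_ne_zero (Q := Q') (fun hQ => h0' (by simp [hQ]))] with a e1 e2 e3 q q'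
      rw [e1, e2, div_eq_div_iff q q'] at e3
      simpa [mul_comm] using e3
    exact frequently_cofinite_iff_infinite.1 hall.frequently
  have := congrArg (Polynomial.eval 0) key
  simp only [eval_mul, h1, h1'] at this
  have h3 : v * (Q.eval 0 * Q'.eval 0) = v' * (Q.eval 0 * Q'.eval 0) := by linear_combination this
  exact mul_right_cancel₀ (mul_ne_zero h0 h0') h3

/-- The exponent is determined by a non-vanishing leading value. -/
theorem le_of_zpow {E E' : ℤ} (H : IsRat h v) (H' : IsRat h' v') (hv : v' ≠ 0)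
    (e : ∀ᶠ a in cofinite, a ^ E * h a = a ^ E' * h' a) : E ≤ E' := by
  by_contra hlt
  obtain ⟨d, hd⟩ : ∃ d : ℕ, E = E' + (d + 1 : ℕ) := ⟨(E - E' - 1).toNat, by omega⟩
  refine hv ?_
  rw [H'.unique ((IsRat.id.pow (d + 1)).mul H) ?_]
  · simp
  filter_upwards [e, eventually_ne_zero] with a ea ha
  rw [hd, zpow_add₀ ha, zpow_natCast, mul_assoc] at ea
  exact (mul_left_cancel₀ (zpow_ne_zero _ ha) ea).symm

theorem eq_of_zpow_eq {E E' : ℤ} (e : ∀ b : k, b ≠ 0 → b ^ E = b ^ E') : E = E' := by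
  have e' : ∀ᶠ a in cofinite, a ^ E * (1 : k) = a ^ E' * (1 : k) := by
    filter_upwards [eventually_ne_zero] with a ha
    rw [e a ha]
  refine le_antisymm (le_of_zpow (k := k) (IsRat.const (1 : k)) (IsRat.const (1 : k)) one_ne_zero e')
    (le_of_zpow (k := k) (IsRat.const (1 : k)) (IsRat.const (1 : k)) one_ne_zero ?_)
  filter_upwards [e'] with a ha using ha.symm

variable {ι : Type v}

/-- The sum of the terms of a given exponent. -/
def grp [DecidableEq ι] (s : Finset ι) (c : ι → k) (e : ι → ℤ) (E : ℤ) : k :=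
  ∑ j ∈ s with e j = E, c j

/-- The leading term of a Laurent polynomial. -/
theorem sum_zpow [DecidableEq ι] (s : Finset ι) (c : ι → k) (e : ι → ℤ) :
    (∀ E, grp s c e E = 0) ∨ ∃ E : ℤ, grp s c e E ≠ 0 ∧ (∀ E' < E, grp s c e E' = 0) ∧
      ∃ R : k → k, IsRat R (grp s c e E) ∧ ∀ᶠ a in cofinite, ∑ j ∈ s, c j * a ^ e j = a ^ E * R a := by
  classical
  by_cases hne : ∃ E, grp s c e E ≠ 0
  swap
  · exact Or.inl fun E => by_contra fun h => hne ⟨E, h⟩
  obtain ⟨E₁, hE₁⟩ := hne
  let S := (s.image e).filter fun E => grp s c e E ≠ 0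
  have hmem : ∀ E, grp s c e E ≠ 0 → E ∈ S := fun E hE => by
    refine Finset.mem_filter.2 ⟨?_, hE⟩
    obtain ⟨j, hj, -⟩ := Finset.exists_ne_zero_of_sum_ne_zero hE
    rw [Finset.mem_filter] at hj
    exact Finset.mem_image.2 ⟨j, hj.1, hj.2⟩
  have hS : S.Nonempty := ⟨E₁, hmem E₁ hE₁⟩
  let E := S.min' hS
  have hE : grp s c e E ≠ 0 := (Finset.mem_filter.1 (S.min'_mem hS)).2
  refine Or.inr ⟨E, hE, fun E' hE' => by_contra fun h => absurd (S.min'_le E' (hmem E' h)) (not_le.2 hE'), ?_⟩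
  refine ⟨fun a => ∑ E' ∈ S, grp s c e E' * a ^ (E' - E).toNat, ?_, ?_⟩
  · have hv : (∑ E' ∈ S, grp s c e E' * (0 : k) ^ (E' - E).toNat) = grp s c e E := by
      rw [Finset.sum_eq_single E]
      · simp
      · intro E' hE' hne'
        have hlt : E < E' := lt_of_le_of_ne (S.min'_le E' hE') hne'.symm
        rw [zero_pow (by omega), mul_zero]
      · exact fun h => absurd (S.min'_mem hS) h
    rw [← hv]
    exact IsRat.sum S _ _ fun E' _ => (IsRat.const _).mul (IsRat.id.pow _)
  · filter_upwards [eventually_ne_zero] with a ha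
    rw [Finset.mul_sum, ← Finset.sum_fiberwise_of_maps_to (g := e) (t := s.image e)
      (fun j hj => Finset.mem_image_of_mem e hj)]
    calc ∑ E' ∈ s.image e, ∑ j ∈ s with e j = E', c j * a ^ e j
        = ∑ E' ∈ s.image e, grp s c e E' * a ^ E' := Finset.sum_congr rfl fun E' _ => by
          rw [grp, Finset.sum_mul]
          exact Finset.sum_congr rfl fun j hj => by rw [(Finset.mem_filter.1 hj).2]
      _ = ∑ E' ∈ S, grp s c e E' * a ^ E' := (Finset.sum_filter_of_ne (p := fun E' => grp s c e E' ≠ 0) fun E' _ h hz => h (by rw [hz, zero_mul])).symm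
      _ = _ := Finset.sum_congr rfl fun E' hE' => by
          have hle : E ≤ E' := S.min'_le E' hE'
          rw [mul_left_comm, ← zpow_natCast a (E' - E).toNat, ← zpow_add₀ ha, Int.toNat_of_nonneg (by omega),
            add_sub_cancel]

/-- The weight at the origin from one non-vanishing expansion. -/
theorem weight [DecidableEq ι] {F : k → k} {w : ℤ} {n : ℕ} (hF : ∀ᶠ a in cofinite, F a ≠ 0)
    (hC : ∀ b : k, b ≠ 0 → ∃ C : k → k, IsRat C (b ^ w) ∧ ∀ᶠ a in cofinite, F (b * a) = C a * F a)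
    {R : k → k} {r : k} (hR : IsRat R r) (hr : r ≠ 0) (s : Finset ι) (c : ι → k) (e : ι → ℤ)
    (hL : ∀ᶠ a in cofinite, ∑ j ∈ s, c j * a ^ e j = R a * F a ^ n) :
    (∃ (U : k → k) (t : k), t ≠ 0 ∧ IsRat U t ∧ ∀ᶠ a in cofinite, F a ^ n = a ^ (n * w : ℤ) * U a) ∧
      ∃ j ∈ s, c j ≠ 0 ∧ e j = n * w := by
  rcases sum_zpow s c e with h0 | ⟨E, hE, -, RL, hRL, eRL⟩
  · exfalso
    refine hr (hR.unique (IsRat.const 0) ?_)
    filter_upwards [hL, hF] with a ea hFa
    have hz : ∑ j ∈ s, c j * a ^ e j = 0 := by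
      rw [← Finset.sum_fiberwise_of_maps_to (g := e) (t := s.image e) (fun j hj => Finset.mem_image_of_mem e hj)]
      refine Finset.sum_eq_zero fun E' _ => ?_
      have : ∀ j ∈ s.filter (fun j => e j = E'), c j * a ^ e j = c j * a ^ E' := fun j hj => by
        rw [(Finset.mem_filter.1 hj).2]
      rw [Finset.sum_congr rfl this, ← Finset.sum_mul]
      exact mul_eq_zero_of_left (h0 E') _
    rw [hz] at ea
    exact (mul_eq_zero.1 ea.symm).resolve_right (pow_ne_zero _ hFa)
  obtain ⟨U, t, ht, hU, eU⟩ : ∃ (U : k → k) (t : k), t ≠ 0 ∧ IsRat U t ∧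
      ∀ᶠ a in cofinite, F a ^ n = a ^ E * U a := by
    refine ⟨fun a => RL a * (R a)⁻¹, _, mul_ne_zero hE (inv_ne_zero hr), hRL.mul (hR.inv hr), ?_⟩
    have hne : ∀ᶠ a in cofinite, R a ≠ 0 := by
      obtain ⟨P, Q, h0, h1, h2⟩ := hR
      have hP : P ≠ 0 := fun hP => mul_ne_zero hr h0 (by rw [← h1, hP, eval_zero])
      filter_upwards [h2, eventually_eval_ne_zero hP,
        eventually_eval_ne_zero (Q := Q) (fun hQ => h0 (by simp [hQ]))] with a e' hp hq
      rw [e']
      exact div_ne_zero hp hq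
    filter_upwards [hL, eRL, hne] with a ea el hn
    rw [← mul_assoc, ← el, ea, mul_right_comm, mul_inv_cancel₀ hn, one_mul]
  have hEw : E = n * w := by
    refine eq_of_zpow_eq (k := k) fun b hb => ?_
    obtain ⟨C, hC', eC⟩ := hC b hb
    have h1 := ((IsRat.const (b ^ E)).mul (hU.scale hb)).unique ((hC'.pow n).mul hU) ?_
    · rw [mul_comm (n : ℤ) w, zpow_mul, zpow_natCast]
      exact mul_right_cancel₀ ht h1
    filter_upwards [eC, eU, (tendsto_mul_left hb).eventually eU, eventually_ne_zero] with a e1 e2 e3 ha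
    rw [e1, mul_pow, e2, mul_zpow] at e3
    refine mul_left_cancel₀ (zpow_ne_zero E ha) ?_
    linear_combination -e3
  obtain ⟨j, hj, hcj⟩ := Finset.exists_ne_zero_of_sum_ne_zero hE
  rw [Finset.mem_filter] at hj
  refine ⟨⟨U, t, ht, hU, ?_⟩, j, hj.1, hcj, hj.2.trans hEw⟩
  rwa [← hEw]

/-- The expansions of all functions start at the weight. -/
theorem le_weight [DecidableEq ι] {F : k → k} {w : ℤ} {n n' : ℕ} (hn : 0 < n) {U : k → k} {t : k}
    (hU : IsRat U t) (eU : ∀ᶠ a in cofinite, F a ^ n = a ^ (n * w : ℤ) * U a) {R : k → k} {r : k}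
    (hR : IsRat R r) (s : Finset ι) (c : ι → k) (e : ι → ℤ)
    (hL : ∀ᶠ a in cofinite, ∑ j ∈ s, c j * a ^ e j = R a * F a ^ n') {E : ℤ} (hE : E < n' * w) :
    grp s c e E = 0 := by
  rcases sum_zpow s c e with h0 | ⟨E₀, hE₀, hlow, RL, hRL, eRL⟩
  · exact h0 E
  refine hlow E ?_
  have key : (n' : ℤ) * (n * w) ≤ n * E₀ := by
    refine le_of_zpow ((hR.pow n).mul (hU.pow n')) (hRL.pow n) (pow_ne_zero _ hE₀) ?_
    filter_upwards [eU, hL, eRL] with a e1 e2 e3
    have h1 : (a ^ E₀ * RL a) ^ n = (R a * F a ^ n') ^ n := by rw [← e3, e2]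
    rw [mul_pow, mul_pow, ← pow_mul, mul_comm n' n, pow_mul, e1, mul_pow, ← zpow_natCast (a ^ E₀),
      ← zpow_natCast (a ^ ((n : ℤ) * w)), ← zpow_mul, ← zpow_mul, mul_comm E₀ n,
      mul_comm ((n : ℤ) * w) n'] at h1
    rw [h1]
    ring
  have : (n' : ℤ) * w ≤ E₀ := by
    refine le_of_mul_le_mul_left ?_ (by exact_mod_cast hn : (0 : ℤ) < n)
    rw [mul_left_comm]
    exact key
  omega

omit [Infinite k] in
/-- A monoid homomorphism in the span of others is one of them. -/
theorem hom_mem_of_mem_span {G : Type v} [Monoid G] (Φ : Set (G →* k)) (g : G →* k)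
    (h : (⇑g) ∈ Submodule.span k ((fun χ : G →* k => ⇑χ) '' Φ)) : g ∈ Φ := by
  by_contra hg
  exact (linearIndependent_monoidHom G k).notMem_span_image hg h

omit [Infinite k] in
/-- Coefficients with vanishing grouped sums against all translates vanish. -/
theorem coeff_eq_zero_of_grp {G : Type v} [Monoid G] [DecidableEq (G →* k)] (s : Finset (G →* k))
    (c : (G →* k) → k) (e : (G →* k) → ℤ) (E : ℤ) (h : ∀ g : G, grp s (fun χ => c χ * χ g) e E = 0)
    {χ : G →* k} (hχ : χ ∈ s) (he : e χ = E) : c χ = 0 := by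
  refine (linearIndependent_iff'.1 (linearIndependent_monoidHom G k)) (s.filter fun j => e j = E) c ?_ χ
    (Finset.mem_filter.2 ⟨hχ, he⟩)
  funext g
  rw [Finset.sum_apply]
  exact h g

end Groth.L18.Rat0
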