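import Groth.Agent.L11.Magnet.Chart
import Groth.Agent.L25.DSPts
import Groth.Agent.L18.GIT.Rat0
import Groth.Prelude.Def_HMNum
import Mathlib.AlgebraicGeometry.Morphisms.Separated
import Mathlib.Algebra.Algebra.Operations

/-!
# Evaluation of functions at rational points
-/

set_option autoImplicit false
universe u

open CategoryTheory CategoryTheory.Limits MonoidalCategory CartesianMonoidalCategory MonObj AlgebraicGeometry Opposite

set_option backward.isDefEq.respectTransparency false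
set_option backward.isDefEq.respectTransparency.types false

noncomputable section

namespace Groth.L18.KEval

variable {k : Type u} [Field k]

/-- The base. -/
abbrev Bs (k : Type u) [Field k] : Scheme.{u} := Spec (CommRingCat.of k)

/-- Rational points. -/
abbrev Pt (Y : Over (Bs k)) := 𝟙_ (Over (Bs k)) ⟶ Y

/-- The point of the base. -/
abbrev star : (𝟙_ (Over (Bs k))).left := IsLocalRing.closedPoint k

theorem eq_star (z : (𝟙_ (Over (Bs k))).left) : z = star :=
  @Subsingleton.elim _ (inferInstanceAs (Subsingleton (PrimeSpectrum k))) _ _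

variable {Y Z : Over (Bs k)}

/-- The point `p` lies in `U`. -/
def Mem (p : Pt Y) (U : Y.left.Opens) : Prop := p.left.base star ∈ U

theorem mem_top (p : Pt Y) : Mem p ⊤ := trivial

theorem mem_iff {p : Pt Y} {U : Y.left.Opens} : Mem p U ↔ p.left ⁻¹ᵁ U = ⊤ := by
  refine ⟨fun h => top_le_iff.1 fun z _ => ?_, fun h => ?_⟩
  · rw [eq_star z]
    exact h
  · exact (h.ge (trivial : star ∈ (⊤ : (𝟙_ (Over (Bs k))).left.Opens)) :)

theorem Mem.le {p : Pt Y} {U : Y.left.Opens} (h : Mem p U) : ⊤ ≤ p.left ⁻¹ᵁ U := (mem_iff.1 h).ge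

theorem mem_comp {p : Pt Y} {q : Y ⟶ Z} {U : Z.left.Opens} : Mem (p ≫ q) U ↔ Mem p (q.left ⁻¹ᵁ U) := Iff.rfl

theorem Mem.mono {p : Pt Y} {U W : Y.left.Opens} (h : Mem p W) (hle : W ≤ U) : Mem p U := hle h

/-- Functions on the base are constants. -/
abbrev gs : Γ((𝟙_ (Over (Bs k))).left, ⊤) →+* k := (Scheme.ΓSpecIso (CommRingCat.of k)).hom.hom

theorem gs_injective : Function.Injective (gs (k := k)) :=
  ((Scheme.ΓSpecIso (CommRingCat.of k)).commRingCatIsoToRingEquiv).injective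

/-- Evaluation at a point of an open set. -/
def evHom (p : Pt Y) {U : Y.left.Opens} (h : Mem p U) : Γ(Y.left, U) →+* k :=
  gs.comp (p.left.appLE U ⊤ h.le).hom

open scoped Classical in
/-- Evaluation, extended by zero. -/
def ev (p : Pt Y) (U : Y.left.Opens) (f : Γ(Y.left, U)) : k :=
  if h : Mem p U then evHom p h f else 0

theorem ev_eq {p : Pt Y} {U : Y.left.Opens} (h : Mem p U) (f : Γ(Y.left, U)) : ev p U f = evHom p h f :=
  dif_pos h

/-- Evaluation of global functions. -/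
abbrev evT (p : Pt Y) : Γ(Y.left, ⊤) →+* k := evHom p (mem_top p)

theorem ev_mul {p : Pt Y} {U : Y.left.Opens} (h : Mem p U) (f g : Γ(Y.left, U)) :
    ev p U (f * g) = ev p U f * ev p U g := by simp only [ev_eq h, map_mul]

theorem ev_pow {p : Pt Y} {U : Y.left.Opens} (h : Mem p U) (f : Γ(Y.left, U)) (n : ℕ) :
    ev p U (f ^ n) = ev p U f ^ n := by simp only [ev_eq h, map_pow]

theorem ev_appLE (q : Y ⟶ Z) {U : Z.left.Opens} {W : Y.left.Opens} (e : W ≤ q.left ⁻¹ᵁ U) {p : Pt Y} (h : Mem p W)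
    (f : Γ(Z.left, U)) : ev p W (q.left.appLE U W e f) = ev (p ≫ q) U f := by
  rw [ev_eq h, ev_eq (show Mem (p ≫ q) U from mem_comp.2 (h.mono e))]
  refine congrArg gs ?_
  rw [← CommRingCat.comp_apply, Scheme.Hom.appLE_comp_appLE]
  rfl

theorem ev_app (q : Y ⟶ Z) (U : Z.left.Opens) {p : Pt Y} (h : Mem p (q.left ⁻¹ᵁ U))
    (f : Γ(Z.left, U)) : ev p (q.left ⁻¹ᵁ U) (q.left.app U f) = ev (p ≫ q) U f := by
  rw [Scheme.Hom.app_eq_appLE]
  exact ev_appLE q le_rfl h f

theorem ev_res {p : Pt Y} {U W : Y.left.Opens} (e : W ≤ U) (h : Mem p W) (f : Γ(Y.left, U)) :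
    ev p W (Y.left.presheaf.map (homOfLE e).op f) = ev p U f := by
  rw [ev_eq h, ev_eq (h.mono e)]
  refine congrArg gs ?_
  rw [← CommRingCat.comp_apply, Scheme.Hom.map_appLE]

theorem evT_comp (q : Y ⟶ Z) (p : Pt Y) (f : Γ(Z.left, ⊤)) : evT p (q.left.appTop f) = evT (p ≫ q) f := by
  rw [← ev_eq (mem_top p), ← ev_eq (mem_top (p ≫ q))]
  exact ev_app q ⊤ (mem_top _) f

theorem ev_ne_zero_iff {p : Pt Y} {U : Y.left.Opens} (h : Mem p U) (f : Γ(Y.left, U)) :
    ev p U f ≠ 0 ↔ Mem p (Y.left.basicOpen f) := by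
  have h1 : (𝟙_ (Over (Bs k))).left.basicOpen (p.left.appLE U ⊤ h.le f) = p.left ⁻¹ᵁ Y.left.basicOpen f := by
    rw [Scheme.basicOpen_appLE, top_inf_eq]
  rw [mem_iff, ← h1, ev_eq h]
  refine ⟨fun hne => Scheme.basicOpen_of_isUnit _ ?_, fun he => ?_⟩
  · exact (isUnit_map_iff (Scheme.ΓSpecIso (CommRingCat.of k)).commRingCatIsoToRingEquiv _).1
      (isUnit_iff_ne_zero.2 hne)
  · intro h0
    rw [show p.left.appLE U ⊤ h.le f = 0 from gs_injective (h0.trans (map_zero gs).symm), Scheme.basicOpen_zero] at he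
    have hs : star (k := k) ∈ (⊥ : (𝟙_ (Over (Bs k))).left.Opens) := he ▸ trivial
    exact hs

/-- Scalars as functions. -/
def const (Y : Over (Bs k)) : k →+* Γ(Y.left, ⊤) :=
  (Y.hom.appTop).hom.comp (Scheme.ΓSpecIso (CommRingCat.of k)).inv.hom

theorem evT_const (p : Pt Y) (c : k) : evT p (const Y c) = c := by
  have h : (p.left ≫ Y.hom).appTop = Scheme.Hom.appTop (𝟙 (Bs k)) := congrArg (Scheme.Hom.appTop) (Over.w p)
  rw [Scheme.Hom.comp_appTop] at h
  show gs (p.left.appLE ⊤ (p.left ⁻¹ᵁ ⊤) le_rfl (Y.hom.appTop ((Scheme.ΓSpecIso (CommRingCat.of k)).inv c))) = c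
  rw [Scheme.Hom.appLE_eq_app]
  refine (congrArg gs (congrArg (fun φ => (ConcreteCategory.hom φ) ((Scheme.ΓSpecIso (CommRingCat.of k)).inv c)) h)).trans ?_
  simp [gs]

theorem appTop_const (q : Y ⟶ Z) (c : k) : q.left.appTop (const Z c) = const Y c := by
  have h : (q.left ≫ Z.hom).appTop = Y.hom.appTop := congrArg (Scheme.Hom.appTop) (Over.w q)
  rw [Scheme.Hom.comp_appTop] at h
  exact congrArg (fun φ => (ConcreteCategory.hom φ) ((Scheme.ΓSpecIso (CommRingCat.of k)).inv c)) h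

/-- A homomorphism from the sections over an affine open which is the identity on scalars gives a point. -/
theorem exists_pt {W : Y.left.Opens} (hW : IsAffineOpen W)
    (ψ : Γ(Y.left, W) ⟶ Γ((𝟙_ (Over (Bs k))).left, ⊤)) (q : Y ⟶ Z) (p : Pt Z) {U : Z.left.Opens} (hU : IsAffineOpen U)
    (e : W ≤ q.left ⁻¹ᵁ U) (hp : Mem p U) (hψ : q.left.appLE U W e ≫ ψ = p.left.appLE U ⊤ hp.le) :
    ∃ v : Pt Y, v ≫ q = p ∧ ∃ hv : Mem v W, v.left.appLE W ⊤ hv.le = ψ := by
  let T₀ : Scheme.{u} := (𝟙_ (Over (Bs k))).left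
  have : IsAffine T₀ := inferInstanceAs (IsAffine (Spec (CommRingCat.of k)))
  let v₀ : T₀ ⟶ Y.left := T₀.isoSpec.hom ≫ Spec.map ψ ≫ hW.fromSpec
  have hp' := hU.SpecMap_appLE_fromSpec p.left (isAffineOpen_top T₀) hp.le
  rw [IsAffineOpen.fromSpec_top, Iso.eq_inv_comp] at hp'
  have hq := hU.SpecMap_appLE_fromSpec q.left hW e
  have h0 : v₀ ≫ q.left = p.left := by
    rw [← hp', ← hψ, Spec.map_comp, Category.assoc, Category.assoc, Category.assoc, hq]
  let v : Pt Y := Over.homMk v₀ (by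
    rw [← Over.w q, ← Category.assoc, h0]
    exact Over.w p)
  refine ⟨v, Over.OverMorphism.ext h0, ?_⟩
  have hv : Mem v W := hW.opensRange_fromSpec.le ⟨(Spec.map ψ).base (T₀.isoSpec.hom.base star), rfl⟩
  refine ⟨hv, ?_⟩
  have hv' := hW.SpecMap_appLE_fromSpec v.left (isAffineOpen_top T₀) hv.le
  rw [IsAffineOpen.fromSpec_top, Iso.eq_inv_comp] at hv'
  exact Spec.map_injective ((cancel_mono hW.fromSpec).1 ((cancel_epi T₀.isoSpec.hom).1 hv'))

section Chars

variable (M : Type) [AddCommMonoid M]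

/-- The tautological functions of a monoid scheme. -/
abbrev mon (m : Multiplicative M) : Γ((Magnet.AMonS (Bs k) M).left, ⊤) :=
  Groth.L11.Magnet.MPts.char (𝟙 (Magnet.AMonS (Bs k) M)) m

theorem evT_mon (p : Pt (Magnet.AMonS (Bs k) M)) (m : Multiplicative M) :
    evT p (mon M m) = gs (Groth.L11.Magnet.MPts.char p m) := by
  conv_rhs => rw [← Category.comp_id p, Groth.L11.Magnet.MPts.char_comp]
  show gs (p.left.appLE ⊤ (p.left ⁻¹ᵁ ⊤) le_rfl _) = _
  rw [Scheme.Hom.appLE_eq_app]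
  rfl

/-- Functions on a monoid scheme over a field are combinations of the characters. -/
theorem exists_eq_sum (f : Γ((Magnet.AMonS (Bs k) M).left, ⊤)) :
    ∃ c : Multiplicative M →₀ k, f = c.sum fun m a => const _ a * mon M m := by
  let C := MonoidAlgebra k (Multiplicative M)
  let κ := algebraMap k C
  let χ : Multiplicative M →* C := MonoidAlgebra.of k (Multiplicative M)
  have := Groth.L11.Magnet.chart_isIso (𝟙 (Bs k)) κ χ (Groth.L11.Magnet.isMonAlg_monoidAlgebra k)
  let g := Groth.L11.Magnet.chart (𝟙 (Bs k)) κ χ ≫ fst (Magnet.AMonS (Bs k) M) (Over.mk (𝟙 (Bs k)))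
  have hf : IsIso (fst (Magnet.AMonS (Bs k) M) (Over.mk (𝟙 (Bs k)))) :=
    inferInstanceAs (IsIso (ρ_ (Magnet.AMonS (Bs k) M)).hom)
  have : IsIso g := IsIso.comp_isIso
  have : IsIso g.left := inferInstanceAs (IsIso ((Over.forget _).map g))
  have hinj : Function.Injective g.left.appTop := ((ConcreteCategory.isIso_iff_bijective _).1 inferInstance).1
  let x : C := (Scheme.ΓSpecIso (CommRingCat.of C)).hom (g.left.appTop f)
  obtain ⟨c, hc⟩ : ∃ c : Multiplicative M →₀ k, x = c.sum fun m a => κ a * χ m := by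
    induction x using MonoidAlgebra.induction_on with
    | of m => exact ⟨Finsupp.single m 1, by rw [Finsupp.sum_single_index (by simp), map_one, _root_.one_mul]⟩
    | add a b ha hb =>
      obtain ⟨c, rfl⟩ := ha
      obtain ⟨d, rfl⟩ := hb
      refine ⟨c + d, ?_⟩
      rw [Finsupp.sum_add_index'] <;> intros <;> simp [add_mul]
    | smul r a ha =>
      obtain ⟨c, rfl⟩ := ha
      refine ⟨r • c, ?_⟩
      rw [Finsupp.sum_smul_index (by simp), Algebra.smul_def, Finsupp.mul_sum]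
      exact Finsupp.sum_congr fun m _ => by rw [map_mul, _root_.mul_assoc]
  refine ⟨c, hinj ?_⟩
  apply (Scheme.ΓSpecIso (CommRingCat.of C)).commRingCatIsoToRingEquiv.injective
  refine hc.trans ?_
  rw [map_finsuppSum, map_finsuppSum]
  refine Finsupp.sum_congr fun m _ => ?_
  rw [map_mul, map_mul]
  congr 1
  · rw [appTop_const]
    show κ _ = (Scheme.ΓSpecIso (CommRingCat.of C)).hom
      ((Spec.map (CommRingCat.ofHom κ) ≫ 𝟙 (Bs k)).appTop ((Scheme.ΓSpecIso (CommRingCat.of k)).inv (c m)))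
    rw [Category.comp_id, Groth.L11.Magnet.appTop_specMap]
    exact (congrArg (fun φ => (ConcreteCategory.hom φ) (κ (c m)))
      (Scheme.ΓSpecIso (CommRingCat.of C)).inv_hom_id).symm
  · rw [← Groth.L11.Magnet.MPts.char_comp, Category.comp_id]
    show χ m = (Scheme.ΓSpecIso (CommRingCat.of C)).hom (Groth.L11.Magnet.MPts.char g m)
    rw [Groth.L11.Magnet.chart_fst_char]
    exact (congrArg (fun φ => (ConcreteCategory.hom φ) (χ m))
      (Scheme.ΓSpecIso (CommRingCat.of C)).inv_hom_id).symm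

end Chars

/-- The subspace of functions on the rational points which restrict from a product with an affine scheme is small. -/
theorem exists_finset_span {T : Over (Bs k)} [GrpObj T] [IsAffine T.left] (Ch : Submonoid (Pt T →* k))
    (hspan : ∀ f : Γ(T.left, ⊤), ∃ Φ : Finset (Pt T →* k), ↑Φ ⊆ (Ch : Set (Pt T →* k)) ∧
      (fun s : Pt T => evT s f) ∈ Submodule.span k ((fun χ : Pt T →* k => ⇑χ) '' (Φ : Set (Pt T →* k))))
    (W : Over (Bs k)) [IsAffine W.left] (h : Γ((T ⊗ W).left, ⊤)) :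
    ∃ Φ : Finset (Pt T →* k), ↑Φ ⊆ (Ch : Set (Pt T →* k)) ∧ ∀ w : Pt W,
      (fun s : Pt T => evT (lift s w) h) ∈ Submodule.span k ((fun χ : Pt T →* k => ⇑χ) '' (Φ : Set (Pt T →* k))) := by
  classical
  let P : (T ⊗ W).left ≅ pullback T.hom W.hom := Iso.refl _
  have sq : IsPullback (fst T W).left (snd T W).left T.hom W.hom := IsPullback.of_hasPullback _ _
  have : IsAffineHom T.hom := inferInstance
  have hcl := CommRingCat.closure_range_union_range_eq_top_of_isPushout (isPushout_appTop_of_isPullback sq)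
  have hh : h ∈ Subring.closure (Set.range (fst T W).left.appTop ∪ Set.range (snd T W).left.appTop) := by
    rw [hcl]
    trivial
  induction hh using Subring.closure_induction with
  | mem x hx =>
    rcases hx with ⟨a, rfl⟩ | ⟨b, rfl⟩
    · obtain ⟨Φ, hΦ, hmem⟩ := hspan a
      refine ⟨Φ, hΦ, fun w => ?_⟩
      have e : (fun s : Pt T => evT (lift s w) ((fst T W).left.appTop a)) = fun s => evT s a := by
        funext s
        rw [evT_comp, lift_fst]
      rw [e]
      exact hmem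
    · refine ⟨{1}, by simp [Ch.one_mem], fun w => ?_⟩
      have e : (fun s : Pt T => evT (lift s w) ((snd T W).left.appTop b)) = evT w b • ⇑(1 : Pt T →* k) := by
        funext s
        rw [evT_comp, lift_snd]
        simp
      rw [e]
      exact Submodule.smul_mem _ _ (Submodule.subset_span ⟨1, by simp, rfl⟩)
  | zero => exact ⟨∅, by simp, fun w => by simp [Pi.zero_def.symm]⟩
  | one =>
    refine ⟨{1}, by simp [Ch.one_mem], fun w => ?_⟩
    have e : (fun s : Pt T => evT (lift s w) 1) = ⇑(1 : Pt T →* k) := by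
      funext s
      simp
    rw [e]
    exact Submodule.subset_span ⟨1, by simp, rfl⟩
  | add x y _ _ hx hy =>
    obtain ⟨Φ, hΦ, hx⟩ := hx
    obtain ⟨Ψ, hΨ, hy⟩ := hy
    refine ⟨Φ ∪ Ψ, by simp [hΦ, hΨ], fun w => ?_⟩
    have e : (fun s : Pt T => evT (lift s w) (x + y)) =
        (fun s => evT (lift s w) x) + fun s => evT (lift s w) y := by
      funext s
      simp
    rw [e]
    exact Submodule.add_mem _ (Submodule.span_mono (Set.image_mono (by simp)) (hx w))
      (Submodule.span_mono (Set.image_mono (by simp)) (hy w))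
  | neg x _ hx =>
    obtain ⟨Φ, hΦ, hx⟩ := hx
    refine ⟨Φ, hΦ, fun w => ?_⟩
    have e : (fun s : Pt T => evT (lift s w) (-x)) = -fun s => evT (lift s w) x := by
      funext s
      simp
    rw [e]
    exact Submodule.neg_mem _ (hx w)
  | mul x y _ _ hx hy =>
    obtain ⟨Φ, hΦ, hx⟩ := hx
    obtain ⟨Ψ, hΨ, hy⟩ := hy
    refine ⟨Finset.image₂ (· * ·) Φ Ψ, ?_, fun w => ?_⟩
    · intro χ hχ
      obtain ⟨a, ha, b, hb, rfl⟩ := Finset.mem_image₂.1 hχ
      exact Ch.mul_mem (hΦ ha) (hΨ hb)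
    have e : (fun s : Pt T => evT (lift s w) (x * y)) =
        (fun s => evT (lift s w) x) * fun s => evT (lift s w) y := by
      funext s
      simp
    rw [e]
    have := Submodule.mul_mem_mul (hx w) (hy w)
    rw [Submodule.span_mul_span] at this
    refine Submodule.span_mono ?_ this
    rintro _ ⟨_, ⟨a, ha, rfl⟩, _, ⟨b, hb, rfl⟩, rfl⟩
    exact ⟨a * b, Finset.mem_image₂.2 ⟨a, ha, b, hb, rfl⟩, rfl⟩

end Groth.L18.KEval
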