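import Groth.Prelude.Def_HMNum
import Groth.Agent.S18285

/-!
# The numerical function at a point and at its limit agree
-/

set_option autoImplicit false
set_option backward.isDefEq.respectTransparency false
universe u

open CategoryTheory CategoryTheory.Limits MonoidalCategory CartesianMonoidalCategory MonObj AlgebraicGeometry Opposite

noncomputable section

namespace Groth.L18.MuLimit

variable {S : Scheme.{u}} {G X : Over S} [GrpObj G] {a : AlgGrp.Action G X}
  {l : Red.Gm S ⟶ G} [IsMonHom l] {T : Over S}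

/-- A limit point is its own limit. -/
theorem isLimitPt_self {x y : T ⟶ X} (h : HMNum.IsLimitPt a l x y) : HMNum.IsLimitPt a l y y := by
  obtain ⟨φ, -, rfl⟩ := h
  let ψ := (Magnet.attrFace (HMNum.gmAct a l) HMNum.isFace_bot).app (op T) φ
  refine ⟨(Magnet.attrMap (HMNum.gmAct a l) HMNum.isFace_bot.le).app (op T) ψ, ?_, ?_⟩
  · show lift (toUnit T ≫ η[HMNum.A1 S]) (𝟙 T) ≫ (Magnet.AMonS.map S _ ▷ T) ≫ ψ.1 =
      lift (toUnit T ≫ η[Magnet.AMonS S ↥(⊥ : AddSubmonoid ℤ)]) (𝟙 T) ≫ ψ.1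
    rw [lift_whiskerRight_assoc, Category.assoc, IsMonHom.one_hom]
  · have hid : (Magnet.attrFace (HMNum.gmAct a l) HMNum.isFace_bot).app (op T)
        ((Magnet.attrMap (HMNum.gmAct a l) HMNum.isFace_bot.le).app (op T) ψ) = ψ :=
      congrArg (fun nt => nt.app (op T) ψ) (Magnet.attrMap_comp_attrFace (HMNum.gmAct a l) HMNum.isFace_bot)
    exact congrArg ((Magnet.attrToX (HMNum.gmAct a l) ⊥).app (op T)) hid

/-- Limits are unique when `X` is separated. -/
theorem isLimitPt_unique [IsSeparated X.hom] {x y y' : T ⟶ X} (h : HMNum.IsLimitPt a l x y)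
    (h' : HMNum.IsLimitPt a l x y') : y = y' := by
  obtain ⟨φ, hx, rfl⟩ := h
  obtain ⟨φ', hx', rfl⟩ := h'
  rw [Groth.Agent.S18285.result S ℤ X (HMNum.gmAct a l) HMNum.plus T (hx.trans hx'.symm)]

theorem isMu_iff_of_isLimitPt [IsSeparated X.hom] (B : GLinSh.LinBun G a) {x y : T ⟶ X}
    (h : HMNum.IsLimitPt a l x y) (m : ℤ) : HMNum.IsMu B l x m ↔ HMNum.IsMu B l y m := by
  refine ⟨fun ⟨y', hy', hw⟩ => ?_, fun ⟨y', hy', hw⟩ => ?_⟩
  · obtain rfl := isLimitPt_unique h hy'
    exact ⟨y, isLimitPt_self h, hw⟩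
  · obtain rfl := isLimitPt_unique (isLimitPt_self h) hy'
    exact ⟨y, h, hw⟩

end Groth.L18.MuLimit
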