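import Groth.Prelude.Def_HMNum
import Groth.Agent.L18.GIT.MuConj
import Groth.Agent.L18.GIT.MuLimit
import Groth.Agent.L11.Magnet.Dom

/-!
# The numerical function is invariant under the parabolic subgroup of a one-parameter subgroup

If `u ↦ l(u) g₀ l(u)⁻¹` extends to the affine line, then `μ(g₀ · x, l) = μ(x, l)`.
-/

set_option autoImplicit false
set_option backward.isDefEq.respectTransparency false
universe u

open CategoryTheory CategoryTheory.Limits MonoidalCategory CartesianMonoidalCategory MonObj AlgebraicGeometry Opposite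

noncomputable section

namespace Groth.L18.MuParabolic

variable {S : Scheme.{u}} {G X : Over S} [GrpObj G]

theorem subsingleton_pts_bot (W : Over S) : Subsingleton (W ⟶ Magnet.AMonS S ↥(⊥ : AddSubmonoid ℤ)) :=
  ⟨fun a b => Groth.L11.Magnet.MPts.char_injective (MonoidHom.ext fun n => by
    rw [show n = 1 from (Multiplicative.toAdd).injective (Subtype.ext (AddSubmonoid.mem_bot.1 (Multiplicative.toAdd n).2)),
      map_one, map_one])⟩

theorem incl_mul_origin {W : Over S} (g : W ⟶ Red.Gm S) :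
    (g ≫ HMNum.incl S) * (toUnit W ≫ HMNum.origin S) = toUnit W ≫ HMNum.origin S := by
  haveI := subsingleton_pts_bot (S := S)
  have h := (Magnet.MonAct.isEquivariant_iff _ _ _).1
    (Magnet.isEquivariant_faceMapS S HMNum.isFace_bot) W g (toUnit W ≫ η[Magnet.AMonS S ↥(⊥ : AddSubmonoid ℤ)])
  rw [← Category.assoc, Subsingleton.elim (lift g (toUnit W ≫ η[Magnet.AMonS S ↥(⊥ : AddSubmonoid ℤ)]) ≫
      (Magnet.subAct S ℤ (⊥ : AddSubmonoid ℤ)).act) (toUnit W ≫ η[Magnet.AMonS S ↥(⊥ : AddSubmonoid ℤ)]),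
    Category.assoc, Magnet.subAct, Magnet.MonAct.lift_restrict_act, Magnet.MonAct.lift_regular_act] at h
  exact h.symm

/-- Morphisms from `G_m × 𝔸¹` into a separated scheme are determined on `G_m × G_m`. -/
theorem ext₂ [IsSeparated G.hom] {ψ ψ' : Red.Gm S ⊗ HMNum.A1 S ⟶ G}
    (h : ∀ (W : Over S) (g u : W ⟶ Red.Gm S),
      lift g (u ≫ HMNum.incl S) ≫ ψ = lift g (u ≫ HMNum.incl S) ≫ ψ') : ψ = ψ' := by
  have key : lift (snd (HMNum.A1 S) (Red.Gm S)) (fst _ _) ≫ ψ = lift (snd (HMNum.A1 S) (Red.Gm S)) (fst _ _) ≫ ψ' := by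
    refine Groth.L11.Magnet.cancel_map HMNum.plus.subtype (fun _ _ e => Subtype.ext e)
      (Magnet.hom_ext_lift₂ fun W u g => ?_)
    simp only [lift_whiskerRight_assoc, comp_lift_assoc, lift_snd, lift_fst]
    exact h W g u
  have hb : lift (snd (Red.Gm S) (HMNum.A1 S)) (fst _ _) ≫ lift (snd (HMNum.A1 S) (Red.Gm S)) (fst _ _) = 𝟙 _ := by
    rw [comp_lift, lift_snd, lift_fst, lift_fst_snd]
  rw [← Category.id_comp ψ, ← Category.id_comp ψ', ← hb, Category.assoc, Category.assoc, key]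

variable (l : Red.Gm S ⟶ G) [IsMonHom l] (g₀ : 𝟙_ (Over S) ⟶ G) (f : HMNum.A1 S ⟶ G)
  (hf : HMNum.incl S ≫ f = l * (toUnit _ ≫ g₀) * l⁻¹)

include hf

theorem comp_extension {W : Over S} (g : W ⟶ Red.Gm S) :
    (g ≫ HMNum.incl S) ≫ f = (g ≫ l) * (toUnit W ≫ g₀) * (g ≫ l)⁻¹ := by
  rw [Category.assoc, hf, MonObj.comp_mul, MonObj.comp_mul, GrpObj.comp_inv, ← Category.assoc,
    toUnit_unique (g ≫ toUnit (Red.Gm S)) (toUnit W)]

/-- The extension is equivariant for conjugation by `l`. -/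
theorem extension_conj [IsSeparated G.hom] {W : Over S} (g : W ⟶ Red.Gm S) (u : W ⟶ HMNum.A1 S) :
    ((g ≫ HMNum.incl S) * u) ≫ f = (g ≫ l) * (u ≫ f) * (g ≫ l)⁻¹ := by
  have key : ((fst (Red.Gm S) (HMNum.A1 S) ≫ HMNum.incl S) * snd _ _) ≫ f =
      (fst _ _ ≫ l) * (snd _ _ ≫ f) * (fst _ _ ≫ l)⁻¹ := by
    refine ext₂ fun W g u => ?_
    rw [← Category.assoc, MonObj.comp_mul, lift_snd, ← Category.assoc, lift_fst,
      MonObj.comp_mul, MonObj.comp_mul, GrpObj.comp_inv, ← Category.assoc, lift_fst, ← Category.assoc, lift_snd,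
      ← MonObj.mul_comp g u (HMNum.incl S), comp_extension l g₀ f hf, comp_extension l g₀ f hf, MonObj.mul_comp g u l]
    group
  have h := congrArg (fun ψ => lift g u ≫ ψ) key
  rw [← Category.assoc, MonObj.comp_mul, lift_snd, ← Category.assoc, lift_fst,
    MonObj.comp_mul, MonObj.comp_mul, GrpObj.comp_inv, ← Category.assoc, lift_fst, ← Category.assoc, lift_snd] at h
  exact h

omit hf in
theorem one_eq_incl (W : Over S) :
    toUnit W ≫ η[HMNum.A1 S] = (toUnit W ≫ η[Red.Gm S]) ≫ HMNum.incl S := by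
  rw [Category.assoc, IsMonHom.one_hom (HMNum.incl S)]

theorem extension_one {W : Over S} : (toUnit W ≫ η[HMNum.A1 S]) ≫ f = toUnit W ≫ g₀ := by
  rw [one_eq_incl, comp_extension l g₀ f hf, Category.assoc, IsMonHom.one_hom l, ← Hom.one_def]
  group

theorem isLimitPt_extension [IsSeparated G.hom] (a : AlgGrp.Action G X) {T : Over S} {x y : T ⟶ X}
    (h : HMNum.IsLimitPt a l x y) :
    HMNum.IsLimitPt a l (lift (toUnit T ≫ g₀) x ≫ a.act) (lift (toUnit T ≫ HMNum.origin S ≫ f) y ≫ a.act) := by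
  obtain ⟨φ, hx, hy⟩ := h
  have hmem : Magnet.MonAct.IsEquivariant
      ((Magnet.subAct S ℤ HMNum.plus).prod (Magnet.MonAct.trivial (Red.Gm S) T)) (HMNum.gmAct a l)
      (lift (fst (HMNum.A1 S) T ≫ f) φ.1 ≫ a.act) := by
    rw [Magnet.MonAct.mem_eqvHom_iff]
    intro W g u t
    have h2 := (Magnet.MonAct.mem_eqvHom_iff φ.1).1 φ.2 W g u t
    simp only [comp_lift_assoc, lift_fst_assoc]
    rw [h2]
    simp only [Magnet.subAct, Magnet.MonAct.lift_restrict_act, Magnet.MonAct.lift_regular_act,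
      Magnet.MonAct.ofAction_act]
    rw [← Groth.L18.MuConj.act_mul, ← Groth.L18.MuConj.act_mul, extension_conj l g₀ f hf g u, _root_.mul_assoc,
      inv_mul_cancel, _root_.mul_one]
  refine ⟨⟨_, hmem⟩, ?_, ?_⟩
  · rw [← hx]
    show lift (toUnit T ≫ η[HMNum.A1 S]) (𝟙 T) ≫ lift (fst _ _ ≫ f) φ.1 ≫ a.act =
      lift (toUnit T ≫ g₀) (lift (toUnit T ≫ η[HMNum.A1 S]) (𝟙 T) ≫ φ.1) ≫ a.act
    rw [comp_lift_assoc, lift_fst_assoc, extension_one l g₀ f hf]
  · rw [HMNum.limitPt_eq, ← hy, HMNum.limitPt_eq]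
    show lift (toUnit T ≫ HMNum.origin S) (𝟙 T) ≫ lift (fst _ _ ≫ f) φ.1 ≫ a.act = _
    rw [comp_lift_assoc, lift_fst_assoc, Category.assoc]

theorem origin_commute [IsSeparated G.hom] :
    l = (toUnit _ ≫ HMNum.origin S ≫ f)⁻¹ * l * (toUnit _ ≫ HMNum.origin S ≫ f) := by
  have h := extension_conj l g₀ f hf (𝟙 (Red.Gm S)) (toUnit _ ≫ HMNum.origin S)
  rw [incl_mul_origin, Category.id_comp, Category.assoc] at h
  have h2 : (toUnit _ ≫ HMNum.origin S ≫ f) * l = l * (toUnit _ ≫ HMNum.origin S ≫ f) :=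
    eq_mul_inv_iff_mul_eq.1 h
  rw [_root_.mul_assoc, ← h2, inv_mul_cancel_left]

omit hf in
/-- Invariance of the numerical function under the parabolic subgroup. -/
theorem isMu_act {k : Type u} [Field k] {G X : Over (Spec (CommRingCat.of k))} [GrpObj G] [IsSeparated G.hom]
    [IsSeparated X.hom] {a : AlgGrp.Action G X} (B : GLinSh.LinBun G a)
    (x : 𝟙_ (Over (Spec (CommRingCat.of k))) ⟶ X) (l : Red.Gm (Spec (CommRingCat.of k)) ⟶ G) [IsMonHom l]
    (g₀ : 𝟙_ (Over (Spec (CommRingCat.of k))) ⟶ G) (f : HMNum.A1 (Spec (CommRingCat.of k)) ⟶ G)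
    (hf : HMNum.incl (Spec (CommRingCat.of k)) ≫ f = l * (toUnit _ ≫ g₀) * l⁻¹) {m : ℤ}
    (h : HMNum.IsMu B l x m) : HMNum.IsMu B l (lift g₀ x ≫ a.act) m := by
  obtain ⟨y, hlim, hw⟩ := h
  have hy : HMNum.IsMu B l y m := ⟨y, Groth.L18.MuLimit.isLimitPt_self hlim, hw⟩
  have h2 := Groth.L18.MuConj.isMu_transl B y l l _ (origin_commute l g₀ f hf) hy
  have h3 := isLimitPt_extension l g₀ f hf a hlim
  rw [Groth.L18.MuConj.comp_transl] at h2
  rw [toUnit_unique (toUnit (𝟙_ (Over (Spec (CommRingCat.of k))))) (𝟙 _), Category.id_comp, Category.id_comp] at h3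
  rw [toUnit_unique (toUnit (𝟙_ (Over (Spec (CommRingCat.of k))))) (𝟙 _), Category.id_comp] at h2
  exact (Groth.L18.MuLimit.isMu_iff_of_isLimitPt B h3 m).2 h2

end Groth.L18.MuParabolic
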