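import Groth.Agent.L18.GIT.AffLine

/-!
# Linearised bundles at rational points
-/

set_option autoImplicit false
universe u

open CategoryTheory CategoryTheory.Limits MonoidalCategory CartesianMonoidalCategory MonObj AlgebraicGeometry Opposite

set_option backward.isDefEq.respectTransparency false
set_option backward.isDefEq.respectTransparency.types false

noncomputable section

namespace Groth.L18.MuPoints

open Groth.L18.KEval Groth.L18.MuConj

section Base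

variable {S : Scheme.{u}} {G X : Over S} [GrpObj G] {a : AlgGrp.Action G X} (B : GLinSh.LinBun G a)

/-- The lifted action in coordinates, uniformly. -/
theorem exists_cocycle {U U' : X.left.Opens} {y : Γ(B.V.left, B.π.left ⁻¹ᵁ U)} (hy : y ∈ B.atlas.chart U)
    {y' : Γ(B.V.left, B.π.left ⁻¹ᵁ U')} (hy' : y' ∈ B.atlas.chart U') :
    ∃ c : Γ((G ⊗ X).left, a.act.left ⁻¹ᵁ U' ⊓ (snd G X).left ⁻¹ᵁ U),
      ∀ {T : Over S} (h : T ⟶ G) (p : T ⟶ X) (v : T ⟶ B.V) (_ : v ≫ B.π = p)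
        (hle : ⊤ ≤ (lift h p).left ⁻¹ᵁ (a.act.left ⁻¹ᵁ U' ⊓ (snd G X).left ⁻¹ᵁ U))
        (e : ⊤ ≤ v.left ⁻¹ᵁ (B.π.left ⁻¹ᵁ U)) (e' : ⊤ ≤ (lift h v ≫ B.lift.act).left ⁻¹ᵁ (B.π.left ⁻¹ᵁ U')),
        HMNum.evalFn B.π y' (lift h v ≫ B.lift.act) e' =
          (lift h p).left.appLE _ ⊤ hle c * HMNum.evalFn B.π y v e := by
  obtain ⟨c, hc⟩ := B.lift_linear U U' y y' hy hy'
  refine ⟨c, fun {T} h p v hv hle e e' => ?_⟩
  have hL : (lift h v ≫ (G ◁ B.π)) = lift h p := by rw [lift_whiskerLeft, hv]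
  have hle' : ⊤ ≤ (lift h v).left ⁻¹ᵁ (GLinSh.liftOpen a B.π U U') := by
    refine le_of_le_of_eq (le_of_le_of_eq hle (congrArg (fun f : T ⟶ G ⊗ X =>
      f.left ⁻¹ᵁ (a.act.left ⁻¹ᵁ U' ⊓ (snd G X).left ⁻¹ᵁ U)) hL.symm)) ?_
    rw [Over.comp_left, Scheme.Hom.comp_preimage]
    rfl
  have h1 := congrArg ((lift h v).left.appLE _ ⊤ hle') hc
  rw [map_mul, ← CommRingCat.comp_apply, ← CommRingCat.comp_apply, ← CommRingCat.comp_apply,
    Scheme.Hom.appLE_comp_appLE, Scheme.Hom.appLE_comp_appLE, Scheme.Hom.appLE_comp_appLE] at h1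
  unfold HMNum.evalFn
  refine ((appLE_congr_hom (show (lift h v ≫ B.lift.act).left = (lift h v).left ≫ B.lift.act.left from rfl) _ _ y').trans h1).trans ?_
  congr 1
  · exact appLE_congr_hom (by rw [← Over.comp_left, hL]) _ _ c
  · exact appLE_congr_hom (by rw [← Over.comp_left, lift_snd]) _ _ y

end Base

variable {k : Type u} [Field k] {G X : Over (Bs k)} [GrpObj G] {a : AlgGrp.Action G X} (B : GLinSh.LinBun G a)

theorem gs_evalFn {U : X.left.Opens} (y : Γ(B.V.left, B.π.left ⁻¹ᵁ U)) (v : Pt B.V)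
    (h : ⊤ ≤ v.left ⁻¹ᵁ (B.π.left ⁻¹ᵁ U)) :
    gs (HMNum.evalFn B.π y v h) = ev v (B.π.left ⁻¹ᵁ U) y := by
  rw [ev_eq (show Mem v (B.π.left ⁻¹ᵁ U) from h (trivial : star (k := k) ∈ (⊤ : (𝟙_ (Over (Bs k))).left.Opens)))]
  rfl

/-- The lifted action in coordinates at rational points. -/
theorem exists_cocycle_pt {U U' : X.left.Opens} {y : Γ(B.V.left, B.π.left ⁻¹ᵁ U)} (hy : y ∈ B.atlas.chart U)
    {y' : Γ(B.V.left, B.π.left ⁻¹ᵁ U')} (hy' : y' ∈ B.atlas.chart U') :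
    ∃ c : Γ((G ⊗ X).left, a.act.left ⁻¹ᵁ U' ⊓ (snd G X).left ⁻¹ᵁ U),
      (∀ {T : Over (Bs k)} (h : T ⟶ G) (p : T ⟶ X) (v : T ⟶ B.V) (_ : v ≫ B.π = p)
        (hle : ⊤ ≤ (lift h p).left ⁻¹ᵁ (a.act.left ⁻¹ᵁ U' ⊓ (snd G X).left ⁻¹ᵁ U))
        (e : ⊤ ≤ v.left ⁻¹ᵁ (B.π.left ⁻¹ᵁ U)) (e' : ⊤ ≤ (lift h v ≫ B.lift.act).left ⁻¹ᵁ (B.π.left ⁻¹ᵁ U')),
        HMNum.evalFn B.π y' (lift h v ≫ B.lift.act) e' =
          (lift h p).left.appLE _ ⊤ hle c * HMNum.evalFn B.π y v e) ∧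
      ∀ (h : Pt G) (p : Pt X) (v : Pt B.V), v ≫ B.π = p → Mem p U → Mem (lift h p ≫ a.act) U' →
        Mem (lift h p) (a.act.left ⁻¹ᵁ U' ⊓ (snd G X).left ⁻¹ᵁ U) ∧
          ev (lift h v ≫ B.lift.act) (B.π.left ⁻¹ᵁ U') y' =
            ev (lift h p) (a.act.left ⁻¹ᵁ U' ⊓ (snd G X).left ⁻¹ᵁ U) c * ev v (B.π.left ⁻¹ᵁ U) y := by
  obtain ⟨c, hc⟩ := exists_cocycle B hy hy'
  refine ⟨c, @hc, fun h p v hv hp hp' => ?_⟩
  have hO : Mem (lift h p) (a.act.left ⁻¹ᵁ U' ⊓ (snd G X).left ⁻¹ᵁ U) := by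
    refine ⟨hp', ?_⟩
    have : Mem (lift h p ≫ snd G X) U := by rw [lift_snd]; exact hp
    exact this
  have he : Mem (v ≫ B.π) U := by rw [hv]; exact hp
  have he' : Mem ((lift h v ≫ B.lift.act) ≫ B.π) U' := by rw [lift_act_π, hv]; exact hp'
  refine ⟨hO, ?_⟩
  have h1 := congrArg gs (hc h p v hv hO.le (mem_comp.1 he).le (mem_comp.1 he').le)
  rw [map_mul, gs_evalFn, gs_evalFn] at h1
  rw [h1, ev_eq hO]
  rfl

/-- The functions of weight `n` in coordinates. -/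
theorem exists_weight_coeff {n : ℕ} {f : Γ(B.V.left, ⊤)} (hf : GLinSh.HasWeight B.atlas.chart n f)
    {U : X.left.Opens} {y : Γ(B.V.left, B.π.left ⁻¹ᵁ U)} (hy : y ∈ B.atlas.chart U) :
    ∃ c : Γ(X.left, U),
      (∀ (v : Pt B.V) (p : Pt X), v ≫ B.π = p → Mem p U →
        evT v f = ev p U c * ev v (B.π.left ⁻¹ᵁ U) y ^ n) ∧
      ∀ p : Pt X, Mem p U → p.left.base star ∈ GLinSh.nonvanishing B.π f → ev p U c ≠ 0 := by
  obtain ⟨c, hc⟩ := hf U y hy
  refine ⟨c, fun v p hv hp => ?_, fun p hp hn => ?_⟩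
  · subst hv
    have hm : Mem v (B.π.left ⁻¹ᵁ U) := hp
    rw [← ev_eq (mem_top v), ← ev_res (le_top : B.π.left ⁻¹ᵁ U ≤ ⊤) hm]
    refine (congrArg (ev v (B.π.left ⁻¹ᵁ U)) hc).trans ?_
    rw [ev_mul hm, ev_pow hm, ev_app B.π U hm]
  · obtain ⟨z, hz, hzp⟩ := hn
    rw [ev_ne_zero_iff hp]
    have hzU : z ∈ B.π.left ⁻¹ᵁ U := by
      show B.π.left.base z ∈ U
      rw [hzp]
      exact hp
    have h1 : z ∈ B.V.left.basicOpen (GLinSh.resTop B.π U f) := by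
      show z ∈ B.V.left.basicOpen (B.V.left.presheaf.map _ f)
      rw [Scheme.basicOpen_res]
      exact ⟨hzU, hz⟩
    rw [hc, Scheme.basicOpen_mul, ← Scheme.preimage_basicOpen] at h1
    have h2 : B.π.left.base z ∈ X.left.basicOpen c := h1.1
    rw [hzp] at h2
    exact h2

theorem exists_chart (p : Pt X) :
    ∃ (U : X.left.Opens) (y : Γ(B.V.left, B.π.left ⁻¹ᵁ U)), Mem p U ∧ y ∈ B.atlas.chart U := by
  obtain ⟨U, hp, y, hy⟩ := B.atlas.cover (p.left.base star)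
  exact ⟨U, y, hp, hy⟩

/-- Every fibre contains the point with coordinate one. -/
theorem exists_fibre_pt {U : X.left.Opens} {y : Γ(B.V.left, B.π.left ⁻¹ᵁ U)} (hy : y ∈ B.atlas.chart U)
    (p : Pt X) (hp : Mem p U) : ∃ v : Pt B.V, v ≫ B.π = p ∧ ev v (B.π.left ⁻¹ᵁ U) y = 1 := by
  obtain ⟨W, hW, hpW, hWU⟩ := exists_isAffineOpen_mem_and_subset hp
  replace hpW : Mem p W := hpW
  replace hWU : W ≤ U := hWU
  have := B.atlas.affine
  have hWv : IsAffineOpen (B.π.left ⁻¹ᵁ W) := hW.preimage B.π.left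
  let E := RingEquiv.ofBijective _ (B.atlas.coord U y hy W hW hWU)
  let ψ₀ : Γ(B.V.left, B.π.left ⁻¹ᵁ W) →+* Γ((𝟙_ (Over (Bs k))).left, ⊤) :=
    (Polynomial.eval₂RingHom (p.left.appLE W ⊤ hpW.le).hom 1).comp E.symm.toRingHom
  have hE : ∀ q, ψ₀ (Polynomial.eval₂RingHom (B.π.left.app W).hom (GLinSh.res B.π hWU y) q) =
      Polynomial.eval₂RingHom (p.left.appLE W ⊤ hpW.le).hom 1 q := fun q =>
    congrArg _ (E.symm_apply_apply q)
  obtain ⟨v, hv, hvW, hval⟩ := exists_pt hWv (CommRingCat.ofHom ψ₀) B.π p hW le_rfl hpW (by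
    refine CommRingCat.hom_ext (RingHom.ext fun r => ?_)
    rw [← Scheme.Hom.app_eq_appLE]
    have := hE (Polynomial.C r)
    simp only [Polynomial.coe_eval₂RingHom, Polynomial.eval₂_C] at this
    exact this)
  refine ⟨v, hv, ?_⟩
  rw [← ev_res (B.π.left.preimage_mono hWU) hvW, ev_eq hvW]
  show gs (v.left.appLE (B.π.left ⁻¹ᵁ W) ⊤ hvW.le (GLinSh.res B.π hWU y)) = 1
  rw [hval]
  have := hE Polynomial.X
  simp only [Polynomial.coe_eval₂RingHom, Polynomial.eval₂_X] at this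
  exact (congrArg gs this).trans (map_one gs)

/-- Translating does not reach the zero of a fibre. -/
theorem ev_act_ne_zero {U U' : X.left.Opens} {y : Γ(B.V.left, B.π.left ⁻¹ᵁ U)} (hy : y ∈ B.atlas.chart U)
    {y' : Γ(B.V.left, B.π.left ⁻¹ᵁ U')} (hy' : y' ∈ B.atlas.chart U') (h : Pt G) (p : Pt X) (v : Pt B.V)
    (hv : v ≫ B.π = p) (hp : Mem p U) (hp' : Mem (lift h p ≫ a.act) U')
    (hne : ev v (B.π.left ⁻¹ᵁ U) y ≠ 0) : ev (lift h v ≫ B.lift.act) (B.π.left ⁻¹ᵁ U') y' ≠ 0 := by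
  obtain ⟨c, -, hc⟩ := exists_cocycle_pt B hy' hy
  have hback : lift h⁻¹ (lift h p ≫ a.act) ≫ a.act = p := by
    rw [← act_mul, inv_mul_cancel, act_one]
  obtain ⟨-, e⟩ := hc h⁻¹ (lift h p ≫ a.act) (lift h v ≫ B.lift.act) (by rw [lift_act_π, hv]) hp'
    (by rw [hback]; exact hp)
  rw [← act_mul, inv_mul_cancel, act_one] at e
  intro h0
  rw [h0, mul_zero] at e
  exact hne e

/-- Orbit functions of a torus expand in finitely many characters. -/
theorem exists_expansion {T : Over (Bs k)} [GrpObj T] [IsAffine T.left] (i : T ⟶ G) (hX : CompactSpace X.left)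
    (hspan : ∀ f : Γ(T.left, ⊤), ∃ Φ : Finset (Pt T →* k),
      ↑Φ ⊆ (TorusChars.algChar T : Set (Pt T →* k)) ∧
      (fun s : Pt T => evT s f) ∈ Submodule.span k ((fun χ : Pt T →* k => ⇑χ) '' (Φ : Set (Pt T →* k))))
    (f : Γ(B.V.left, ⊤)) :
    ∃ Φ : Finset (Pt T →* k), ↑Φ ⊆ (TorusChars.algChar T : Set (Pt T →* k)) ∧ ∀ v : Pt B.V,
      ∃ c : (Pt T →* k) → k, ∀ s : Pt T, evT (lift (s ≫ i) v ≫ B.lift.act) f = ∑ χ ∈ Φ, c χ * χ s := by
  classical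
  have := B.atlas.affine
  have hV : CompactSpace B.V.left := ⟨B.π.left.isCompact_preimage (U := (⊤ : X.left.Opens)) isCompact_univ⟩
  let W : B.V.left → B.V.left.Opens := fun z =>
    (exists_isAffineOpen_mem_and_subset (TopologicalSpace.Opens.mem_top z)).choose
  have hW : ∀ z, IsAffineOpen (W z) ∧ z ∈ W z := fun z =>
    ⟨(exists_isAffineOpen_mem_and_subset (TopologicalSpace.Opens.mem_top z)).choose_spec.1,
      (exists_isAffineOpen_mem_and_subset (TopologicalSpace.Opens.mem_top z)).choose_spec.2.1⟩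
  obtain ⟨Z, hZ⟩ := hV.isCompact_univ.elim_finite_subcover (fun z => (W z : Set B.V.left))
    (fun z => (W z).2) fun z _ => Set.mem_iUnion.2 ⟨z, (hW z).2⟩
  have step : ∀ z, ∃ Φ : Finset (Pt T →* k), ↑Φ ⊆ (TorusChars.algChar T : Set (Pt T →* k)) ∧
      ∀ v : Pt B.V, Mem v (W z) → (fun s : Pt T => evT (lift (s ≫ i) v ≫ B.lift.act) f) ∈
        Submodule.span k ((fun χ : Pt T →* k => ⇑χ) '' (Φ : Set (Pt T →* k))) := fun z => by
    let Wo : Over (Bs k) := Over.mk ((W z).ι ≫ B.V.hom)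
    let inW : Wo ⟶ B.V := Over.homMk (W z).ι rfl
    haveI : IsAffine Wo.left := (hW z).1
    let μ' : T ⊗ Wo ⟶ B.V := lift (fst T Wo ≫ i) (snd T Wo ≫ inW) ≫ B.lift.act
    obtain ⟨Φ, hΦ, hmem⟩ := exists_finset_span (TorusChars.algChar T) hspan Wo (μ'.left.appTop f)
    refine ⟨Φ, hΦ, fun v hv => ?_⟩
    have hr : Set.range v.left ⊆ Set.range (W z).ι := by
      rintro _ ⟨q, rfl⟩
      rw [Scheme.Opens.range_ι, eq_star q]
      exact hv
    let w : Pt Wo := Over.homMk (IsOpenImmersion.lift (W z).ι v.left hr) (by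
      show _ ≫ (W z).ι ≫ B.V.hom = _
      rw [IsOpenImmersion.lift_fac_assoc]
      exact Over.w v)
    have hw : w ≫ inW = v := Over.OverMorphism.ext (IsOpenImmersion.lift_fac _ _ _)
    have e : (fun s : Pt T => evT (lift (s ≫ i) v ≫ B.lift.act) f) = fun s => evT (lift s w) (μ'.left.appTop f) := by
      funext s
      rw [evT_comp]
      refine congrArg (fun q : Pt B.V => evT q f) ?_
      simp only [μ', comp_lift_assoc, lift_fst_assoc, lift_snd_assoc, hw]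
    rw [e]
    exact hmem w
  choose Φ hΦ hmem using step
  refine ⟨Z.biUnion Φ, ?_, fun v => ?_⟩
  · intro χ hχ
    obtain ⟨z, -, hz⟩ := Finset.mem_biUnion.1 hχ
    exact hΦ z hz
  obtain ⟨z, hz, hvz⟩ := Set.mem_iUnion₂.1 (hZ (Set.mem_univ (v.left.base star)))
  have h := Submodule.span_mono (Set.image_mono (Finset.coe_subset.2 (Finset.subset_biUnion_of_mem Φ hz)))
    (hmem z v hvz)
  obtain ⟨l, hl, hsum⟩ := (Finsupp.mem_span_image_iff_linearCombination k).1 h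
  refine ⟨l, fun s => ?_⟩
  rw [← congrFun hsum s, Finsupp.linearCombination_apply,
    Finsupp.sum_of_support_subset l (Finset.coe_subset.1 hl) _ (fun χ _ => by simp), Finset.sum_apply]
  rfl

end Groth.L18.MuPoints
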