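import Groth.Prelude.Def_W4bk4git07Quot
import Groth.Agent.S2913
import Mathlib.AlgebraicGeometry.Morphisms.Separated
import Mathlib.AlgebraicGeometry.Morphisms.Affine

/-!
# Geometric and categorical quotients
-/

set_option autoImplicit false
set_option linter.style.haveILetI false
set_option backward.isDefEq.respectTransparency false

noncomputable section

universe u

open CategoryTheory MonoidalCategory CartesianMonoidalCategory MonObj AlgebraicGeometry TopologicalSpace Opposite
open CategoryTheory.Limits (pullback)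

namespace Groth.L18.GITQ

/-- The restriction over an open of a surjection injective on functions is an epimorphism. -/
theorem epi_restrict {T Z : Scheme.{u}} (f : T ⟶ Z) [Surjective f] (hinj : ∀ O, Function.Injective (f.app O))
    (O : Z.Opens) : Epi (f ∣_ O) := by
  haveI : Surjective (f ∣_ O) := MorphismProperty.of_isPullback (P := @Surjective)
    (isPullback_morphismRestrict f O).flip inferInstance
  refine Groth.Agent.S2913.result (f ∣_ O) fun V => ?_
  rw [morphismRestrict_app]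
  exact ((ConcreteCategory.isIso_iff_bijective (T.presheaf.map (eqToHom
    (image_morphismRestrict_preimage f O V)).op)).1 inferInstance).1.comp (hinj (O.ι ''ᵁ V))

variable {S : Scheme.{u}} {G X Y : Over S} [GrpObj G] (a : AlgGrp.Action G X) (φ : X ⟶ Y)

theorem left_eq (hi : GIT.IsInvariant a φ) (z : (G ⊗ X).left) :
    φ.left.base (a.act.left.base z) = φ.left.base ((snd G X).left.base z) := by
  rw [← Scheme.Hom.comp_apply, hi.left, Scheme.Hom.comp_apply]

/-- The fibres of an invariant map closed under the action: the image criterion. -/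
theorem preimage_image_of_orbit (hi : GIT.IsInvariant a φ) (ho : Function.Surjective (GIT.PsiY a φ hi).base)
    {W : Set X.left} (hW : a.act.left.base '' ((snd G X).left.base ⁻¹' W) ⊆ W) :
    φ.left.base ⁻¹' (φ.left.base '' W) = W := by
  refine Set.Subset.antisymm (fun x hx => ?_) (Set.subset_preimage_image _ _)
  obtain ⟨w, hw, hwx⟩ := hx
  obtain ⟨t, ht1, ht2⟩ := Scheme.Pullback.exists_preimage_pullback (f := φ.left) (g := φ.left) x w hwx.symm
  obtain ⟨z, rfl⟩ := ho t
  rw [← ht1, ← Scheme.Hom.comp_apply, GIT.PsiY, Limits.pullback.lift_fst]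
  refine hW ⟨z, ?_, rfl⟩
  rw [← Scheme.Hom.comp_apply, GIT.PsiY, Limits.pullback.lift_snd] at ht2
  show (snd G X).left.base z ∈ W
  rw [ht2]
  exact hw

/-- A quotient with the invariant functions, closed images and intersections is categorical. -/
theorem isCatQuot_of_closed (hi : GIT.IsInvariant a φ)
    (hii : ∀ U : Y.left.Opens,
      Function.Injective (φ.left.app U) ∧ Set.range (φ.left.app U) = {f | GIT.IsInvSection a φ U f})
    (hiii : ∀ W : Set X.left, IsClosed W → a.act.left.base '' ((snd G X).left.base ⁻¹' W) ⊆ W →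
      IsClosed (φ.left.base '' W))
    (hiii' : ∀ (J : Type u) (W : J → Set X.left),
      (∀ i, IsClosed (W i) ∧ a.act.left.base '' ((snd G X).left.base ⁻¹' W i) ⊆ W i) →
      φ.left.base '' (⋂ i, W i) = ⋂ i, φ.left.base '' W i) :
    GIT.IsCatQuot a φ ∧ Topology.IsQuotientMap φ.left.base := by
  haveI hsurj : Surjective φ.left := ⟨fun y => by
    have h := hiii' PEmpty (fun i => i.elim) (fun i => i.elim)
    rw [Set.iInter_of_empty, Set.iInter_of_empty] at h
    obtain ⟨x, -, hx⟩ := h.ge (Set.mem_univ y)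
    exact ⟨x, hx⟩⟩
  haveI : Epi φ.left := Groth.Agent.S2913.result φ.left fun U => (hii U).1
  refine ⟨⟨hi, fun Z ψ hψ => ?_⟩, ?_⟩
  swap
  · refine Topology.isQuotientMap_iff_isClosed.2 ⟨φ.left.surjective, fun A => ⟨fun hA => hA.preimage φ.left.continuous,
      fun hA => ?_⟩⟩
    rw [← Set.image_preimage_eq A φ.left.surjective]
    refine hiii _ hA ?_
    rintro _ ⟨z, hz, rfl⟩
    show φ.left.base (a.act.left.base z) ∈ A
    rw [left_eq a φ hi]
    exact hz
  let W : Z.left.affineOpens → Set X.left := fun V => ((ψ.left ⁻¹ᵁ (V : Z.left.Opens) : X.left.Opens) : Set X.left)ᶜ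
  have hW : ∀ V, IsClosed (W V) ∧ a.act.left.base '' ((snd G X).left.base ⁻¹' W V) ⊆ W V := fun V => by
    refine ⟨(ψ.left ⁻¹ᵁ (V : Z.left.Opens)).2.isClosed_compl, ?_⟩
    rintro _ ⟨z, hz, rfl⟩ h
    refine hz ?_
    show ψ.left.base ((snd G X).left.base z) ∈ (V : Z.left.Opens)
    rw [← left_eq a ψ hψ]
    exact h
  let O : Z.left.affineOpens → Y.left.Opens := fun V => ⟨(φ.left.base '' W V)ᶜ, (hiii _ (hW V).1 (hW V).2).isOpen_compl⟩
  have hle : ∀ V, φ.left ⁻¹ᵁ O V ≤ ψ.left ⁻¹ᵁ (V : Z.left.Opens) := fun V x hx => by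
    by_contra h
    exact hx ⟨x, h, rfl⟩
  have hcov : IsOpenCover O := by
    refine eq_top_iff.2 fun y _ => ?_
    by_contra h
    have hy : y ∈ ⋂ V, φ.left.base '' W V := Set.mem_iInter.2 fun V => by
      by_contra hV
      exact h (Opens.mem_iSup.2 ⟨V, hV⟩)
    rw [← hiii' _ W hW] at hy
    obtain ⟨x, hx, -⟩ := hy
    obtain ⟨V, hV, hxV, -⟩ := exists_isAffineOpen_mem_and_subset (Opens.mem_top (ψ.left.base x))
    exact Set.mem_iInter.1 hx ⟨V, hV⟩ hxV
  have hinv : ∀ (V : Z.left.affineOpens), ∀ s : Γ(Z.left, (V : Z.left.Opens)),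
      ψ.left.appLE (V : Z.left.Opens) (φ.left ⁻¹ᵁ O V) (hle V) s ∈ (φ.left.app (O V)).hom.range := fun V s => by
    have h : GIT.IsInvSection a φ (O V) (ψ.left.appLE (V : Z.left.Opens) (φ.left ⁻¹ᵁ O V) (hle V) s) := by
      have key : ∀ (m m' : (G ⊗ X).left ⟶ Z.left) (_ : m = m') (Q : (G ⊗ X).left.Opens) e e',
          m.appLE (V : Z.left.Opens) Q e s = m'.appLE (V : Z.left.Opens) Q e' s := by
        rintro m m' rfl Q e e'
        rfl
      rw [GIT.IsInvSection, ← CommRingCat.comp_apply, ← CommRingCat.comp_apply, Scheme.Hom.appLE_comp_appLE,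
        Scheme.Hom.appLE_comp_appLE]
      exact key _ _ hψ.left _ _ _
    exact (hii (O V)).2.ge h
  have hlift : ∀ (V : Z.left.affineOpens), ∃ θ : Γ(Z.left, (V : Z.left.Opens)) ⟶ Γ(Y.left, O V),
      θ ≫ φ.left.app (O V) = ψ.left.appLE (V : Z.left.Opens) (φ.left ⁻¹ᵁ O V) (hle V) := fun V => by
    let E : Γ(Y.left, O V) ≃+* (φ.left.app (O V)).hom.range :=
      RingEquiv.ofBijective (φ.left.app (O V)).hom.rangeRestrict
        ⟨fun x y h => (hii _).1 (congrArg Subtype.val h), (φ.left.app (O V)).hom.rangeRestrict_surjective⟩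
    refine ⟨CommRingCat.ofHom (E.symm.toRingHom.comp ((ψ.left.appLE (V : Z.left.Opens) (φ.left ⁻¹ᵁ O V) (hle V)).hom.codRestrict
      (φ.left.app (O V)).hom.range (hinv V))), CommRingCat.hom_ext (RingHom.ext fun s => ?_)⟩
    exact congrArg Subtype.val (E.apply_symm_apply _)
  choose θ hθ using hlift
  let piece : ∀ V : Z.left.affineOpens, (O V).toScheme ⟶ Z.left := fun V =>
    (O V).toSpecΓ ≫ Spec.map (θ V) ≫ V.2.fromSpec
  have hpiece : ∀ V, (φ.left ∣_ O V) ≫ piece V = (φ.left ⁻¹ᵁ O V).ι ≫ ψ.left := fun V => by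
    simp only [piece]
    rw [← Scheme.Opens.toSpecΓ_naturality_assoc, ← Spec.map_comp_assoc, hθ, Scheme.Opens.toSpecΓ_SpecMap_appLE_assoc,
      IsAffineOpen.toSpecΓ_fromSpec, Scheme.Hom.resLE_comp_ι]
  have hcompat : ∀ V V', pullback.fst (O V).ι (O V').ι ≫ piece V = pullback.snd (O V).ι (O V').ι ≫ piece V' := by
    intro V V'
    let J := isPullback_opens_inf (O V) (O V')
    rw [← cancel_epi J.isoPullback.hom, J.isoPullback_hom_fst_assoc, J.isoPullback_hom_snd_assoc]
    haveI := epi_restrict φ.left (fun U => (hii U).1) (O V ⊓ O V')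
    rw [← cancel_epi (φ.left ∣_ (O V ⊓ O V'))]
    have key : ∀ (U : Z.left.affineOpens) (h : O V ⊓ O V' ≤ O U),
        (φ.left ∣_ (O V ⊓ O V')) ≫ Y.left.homOfLE h ≫ piece U = (φ.left ⁻¹ᵁ (O V ⊓ O V')).ι ≫ ψ.left := fun U h => by
      have e : (φ.left ∣_ (O V ⊓ O V')) ≫ Y.left.homOfLE h =
          X.left.homOfLE (φ.left.preimage_mono h) ≫ (φ.left ∣_ O U) := by
        rw [← cancel_mono (O U).ι, Category.assoc, Category.assoc, Scheme.homOfLE_ι, morphismRestrict_ι,
          morphismRestrict_ι, Scheme.homOfLE_ι_assoc]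
      rw [reassoc_of% e, hpiece, Scheme.homOfLE_ι_assoc]
    rw [key V inf_le_left, key V' inf_le_right]
  let u : Y.left ⟶ Z.left := Scheme.Cover.glueMorphisms (Y.left.openCoverOfIsOpenCover O hcov) piece hcompat
  have hu : φ.left ≫ u = ψ.left := by
    refine Scheme.Cover.hom_ext (X.left.openCoverOfIsOpenCover (fun V => φ.left ⁻¹ᵁ O V) ?_) _ _ fun V => ?_
    · refine eq_top_iff.2 fun t _ => ?_
      obtain ⟨V, hV⟩ := Opens.mem_iSup.1 (hcov.ge (Set.mem_univ (φ.left.base t)))
      exact Opens.mem_iSup.2 ⟨V, hV⟩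
    · show (φ.left ⁻¹ᵁ O V).ι ≫ φ.left ≫ u = (φ.left ⁻¹ᵁ O V).ι ≫ ψ.left
      rw [← morphismRestrict_ι_assoc, ← hpiece V]
      exact congrArg _ (Scheme.Cover.ι_glueMorphisms (Y.left.openCoverOfIsOpenCover O hcov) piece hcompat V)
  have huS : u ≫ Z.hom = Y.hom := by
    rw [← cancel_epi φ.left, reassoc_of% hu, Over.w ψ, Over.w φ]
  refine ⟨Over.homMk u huS, Over.OverMorphism.ext (by simpa using hu), fun χ hχ => Over.OverMorphism.ext ?_⟩
  rw [← cancel_epi φ.left, ← Over.comp_left, hχ]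
  exact hu.symm

/-- A geometric quotient is a categorical quotient. -/
theorem isCatQuot_of_isGeomQuot (h : GIT.IsGeomQuot a φ) : GIT.IsCatQuot a φ := by
  have hq : Topology.IsQuotientMap φ.left.base := h.subm _ _ _ (IsPullback.of_id_snd (f := φ.left))
  have hpre := fun {W : Set X.left} (hW : a.act.left.base '' ((snd G X).left.base ⁻¹' W) ⊆ W) =>
    preimage_image_of_orbit a φ h.inv h.orbit hW
  refine (isCatQuot_of_closed a φ h.inv h.sections (fun W hWc hW => ?_) (fun J W hW => ?_)).1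
  · rw [← hq.isClosed_preimage, hpre hW]
    exact hWc
  · refine Set.Subset.antisymm (Set.image_iInter_subset _ _) fun y hy => ?_
    obtain ⟨x, rfl⟩ := h.surj y
    exact ⟨x, Set.mem_iInter.2 fun i => (hpre (hW i).2).le (Set.mem_iInter.1 hy i), rfl⟩

end Groth.L18.GITQ
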